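/-
Isometries of finite period prime to the characteristic: invariant totally singular subspaces.
-/
import Mathlib
import Cfsg.Agent.Lib.MaxSub.Elusive

set_option autoImplicit false
set_option linter.unusedSectionVars false

namespace CfsgLib.PrimeIso

open Polynomial Module

universe u v

variable {F : Type u} [Field F] {σ : F →+* F} {V : Type v} [AddCommGroup V] [Module F V]
  [FiniteDimensional F V]

/-- Invariance. -/
def Inv (T : Module.End F V) (W : Submodule F V) : Prop := ∀ x ∈ W, T x ∈ W

/-- Totally singular with respect to a form and a predicate on vectors. -/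
def TS (B : V →ₛₗ[σ] V →ₗ[F] F) (ok : V → Prop) (W : Submodule F V) : Prop :=
  (∀ x ∈ W, ok x) ∧ ∀ x ∈ W, ∀ y ∈ W, B x y = 0

/-- An isometry of period `N` prime to the characteristic. -/
structure PerIso (B : V →ₛₗ[σ] V →ₗ[F] F) (T : Module.End F V) (N : ℕ) : Prop where
  refl : B.IsRefl
  iso : ∀ x y, B (T x) (T y) = B x y
  per : T ^ N = 1
  unit : (N : F) ≠ 0

variable {B : V →ₛₗ[σ] V →ₗ[F] F} {T : Module.End F V} {N : ℕ}

theorem Inv.pow {W : Submodule F V} (hW : Inv T W) (n : ℕ) : ∀ x ∈ W, (T ^ n) x ∈ W := by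
  induction n with
  | zero => intro x hx; simpa using hx
  | succ n ih => intro x hx; rw [pow_succ', Module.End.mul_apply]; exact hW _ (ih x hx)

theorem Inv.aeval {W : Submodule F V} (hW : Inv T W) (P : F[X]) : ∀ x ∈ W, aeval T P x ∈ W := by
  induction P using Polynomial.induction_on' with
  | add a b ha hb => intro x hx; rw [map_add, LinearMap.add_apply]; exact add_mem (ha x hx) (hb x hx)
  | monomial n c =>
    intro x hx
    rw [aeval_monomial, Module.End.mul_apply, Module.algebraMap_end_apply]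
    exact W.smul_mem _ (hW.pow n x hx)

theorem Inv.inf {A C : Submodule F V} (hA : Inv T A) (hC : Inv T C) : Inv T (A ⊓ C) :=
  fun x hx => ⟨hA x hx.1, hC x hx.2⟩

theorem Inv.sup {A C : Submodule F V} (hA : Inv T A) (hC : Inv T C) : Inv T (A ⊔ C) := by
  intro x hx
  obtain ⟨a, ha, c, hc, rfl⟩ := Submodule.mem_sup.mp hx
  rw [map_add]
  exact Submodule.add_mem_sup (hA a ha) (hC c hc)

theorem inv_top : Inv T (⊤ : Submodule F V) := fun _ _ => Submodule.mem_top

theorem inv_bot : Inv T (⊥ : Submodule F V) := fun x hx => by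
  rw [Submodule.mem_bot] at hx ⊢; rw [hx, map_zero]

theorem aeval_comm (P : F[X]) (x : V) : aeval T P (T x) = T (aeval T P x) := by
  rw [← Module.End.mul_apply, ← Module.End.mul_apply]
  have h1 : aeval T P * T = aeval T (P * X) := by rw [map_mul, aeval_X]
  have h2 : T * aeval T P = aeval T (X * P) := by rw [map_mul, aeval_X]
  rw [h1, h2, mul_comm]

theorem inv_ker (P : F[X]) : Inv T (LinearMap.ker (aeval T P)) := fun x hx => by
  rw [LinearMap.mem_ker] at hx ⊢
  rw [aeval_comm, hx, map_zero]

theorem PerIso.pos (h : PerIso B T N) : 0 < N :=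
  Nat.pos_of_ne_zero fun e => h.unit (by rw [e, Nat.cast_zero])

theorem PerIso.pow (h : PerIso B T N) (n : ℕ) (x y : V) : B ((T ^ n) x) ((T ^ n) y) = B x y := by
  induction n with
  | zero => rfl
  | succ n ih => rw [pow_succ', Module.End.mul_apply, Module.End.mul_apply, h.iso, ih]

theorem PerIso.periodic (h : PerIso B T N) (n k : ℕ) : T ^ (n + k * N) = T ^ n := by
  rw [pow_add, mul_comm k, pow_mul, h.per, one_pow, mul_one]

theorem PerIso.semisimple (h : PerIso B T N) : T.IsSemisimple := by
  refine Module.End.isSemisimple_of_squarefree_aeval_eq_zero (p := X ^ N - C (1 : F)) ?_ ?_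
  · exact (separable_X_pow_sub_C (1 : F) h.unit one_ne_zero).squarefree
  · simp [h.per]

theorem PerIso.exists_compl (h : PerIso B T N) {W : Submodule F V} (hW : Inv T W) :
    ∃ C : Submodule F V, Inv T C ∧ IsCompl W C := by
  obtain ⟨C, hC, hWC⟩ := Module.End.isSemisimple_iff.mp h.semisimple W
    ((Module.End.mem_invtSubmodule _).mpr fun x hx => hW x hx)
  exact ⟨C, fun x hx => (Module.End.mem_invtSubmodule _).mp hC hx, hWC⟩

theorem ts_bot (ok : V → Prop) (h0 : ok 0) : TS B ok ⊥ :=
  ⟨fun x hx => (Submodule.mem_bot F).mp hx ▸ h0, fun x hx y _ => by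
    rw [(Submodule.mem_bot F).mp hx, map_zero, LinearMap.zero_apply]⟩

theorem ts_sup {ok : V → Prop} (hadd : ∀ x y, ok x → ok y → B x y = 0 → ok (x + y)) (hrefl : B.IsRefl)
    {A C : Submodule F V} (hA : TS B ok A) (hC : TS B ok C) (hAC : ∀ a ∈ A, ∀ c ∈ C, B a c = 0) :
    TS B ok (A ⊔ C) := by
  refine ⟨fun x hx => ?_, fun x hx y hy => ?_⟩
  · obtain ⟨a, ha, c, hc, rfl⟩ := Submodule.mem_sup.mp hx
    exact hadd a c (hA.1 a ha) (hC.1 c hc) (hAC a ha c hc)
  · obtain ⟨a, ha, c, hc, rfl⟩ := Submodule.mem_sup.mp hx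
    obtain ⟨a', ha', c', hc', rfl⟩ := Submodule.mem_sup.mp hy
    simp only [map_add, LinearMap.add_apply, hA.2 a ha a' ha', hC.2 c hc c' hc', hAC a ha c' hc',
      hrefl a' c (hAC a' ha' c hc), add_zero]

/-- A maximal invariant totally singular subspace of an invariant subspace is large. -/
theorem exists_max_ts (h : PerIso B T N) (ok : V → Prop) (h0 : ok 0)
    (hadd : ∀ x y, ok x → ok y → B x y = 0 → ok (x + y)) (P : Submodule F V) (hP : Inv T P) (s : ℕ)
    (hU : ∀ U ≤ P, Inv T U → (∀ X ≤ U, Inv T X → TS B ok X → X = ⊥) → finrank F U ≤ s) :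
    ∃ W ≤ P, Inv T W ∧ TS B ok W ∧ finrank F P ≤ 2 * finrank F W + s := by
  classical
  let good : ℕ → Prop := fun k => ∃ W ≤ P, Inv T W ∧ TS B ok W ∧ finrank F W = k
  set k := Nat.findGreatest good (finrank F P)
  have hgood : good k := Nat.findGreatest_spec (Nat.zero_le _)
    ⟨⊥, bot_le, inv_bot, ts_bot ok h0, finrank_bot F V⟩
  obtain ⟨W, hWP, hWT, hWts, hWk⟩ := hgood
  refine ⟨W, hWP, hWT, hWts, ?_⟩
  let b := Module.finBasis F W
  let L : P →ₗ[F] (Fin (finrank F W) → F) :=
    LinearMap.pi fun a => (B (b a : V)).comp P.subtype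
  let P' := (LinearMap.ker L).map P.subtype
  have hmem : ∀ x, x ∈ P' ↔ x ∈ P ∧ ∀ w ∈ W, B w x = 0 := by
    intro x
    constructor
    · rintro ⟨y, hy, rfl⟩
      refine ⟨y.2, fun w hw => ?_⟩
      have hsum : w = ∑ a, ((b.repr ⟨w, hw⟩ a • b a : W) : V) := by
        rw [← Submodule.coe_sum, b.sum_repr]
      rw [hsum]
      simp only [Submodule.coe_smul, map_sum, LinearMap.map_smulₛₗ, LinearMap.sum_apply,
        LinearMap.smul_apply]
      refine Finset.sum_eq_zero fun a _ => ?_
      have := congrFun (LinearMap.mem_ker.mp hy) a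
      simp [L] at this
      simp [this]
    · rintro ⟨hx, hw⟩
      exact ⟨⟨x, hx⟩, LinearMap.mem_ker.mpr (funext fun a => hw _ (b a).2), rfl⟩
  have hP'T : Inv T P' := fun x hx => by
    obtain ⟨hxP, hxW⟩ := (hmem x).mp hx
    refine (hmem _).mpr ⟨hP x hxP, fun w hw => ?_⟩
    have hw' : T ((T ^ (N - 1)) w) = w := by
      rw [← Module.End.mul_apply, ← pow_succ', Nat.sub_add_cancel h.pos, h.per, Module.End.one_apply]
    rw [← hw', h.iso]
    exact hxW _ (hWT.pow _ w hw)
  have hWP' : W ≤ P' := fun x hx => (hmem x).mpr ⟨hWP hx, fun w hw => hWts.2 w hw x hx⟩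
  obtain ⟨C, hCT, hWC⟩ := h.exists_compl hWT
  have hUle : C ⊓ P' ≤ P := inf_le_right.trans fun x hx => ((hmem x).mp hx).1
  have hUb := hU (C ⊓ P') hUle (hCT.inf hP'T) fun X hX hXT hXts => by
    by_contra hne
    have hts : TS B ok (W ⊔ X) := ts_sup hadd h.refl hWts hXts fun a ha x hx => ((hmem x).mp (hX hx).2).2 a ha
    have hlt : W < W ⊔ X := by
      refine lt_of_le_of_ne le_sup_left fun e => hne ?_
      rw [← le_bot_iff, ← hWC.inf_eq_bot]
      exact le_inf (e ▸ le_sup_right) (hX.trans inf_le_left)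
    have h1 := Submodule.finrank_lt_finrank_of_lt hlt
    have h2 : finrank F ↥(W ⊔ X) ≤ k := Nat.le_findGreatest
      (Submodule.finrank_mono (sup_le hWP (hX.trans hUle)))
      ⟨W ⊔ X, sup_le hWP (hX.trans hUle), hWT.sup hXT, hts, rfl⟩
    omega
  have h1 : finrank F P ≤ finrank F P' + finrank F W := by
    have h2 := LinearMap.finrank_range_add_finrank_ker L
    have h3 := Submodule.finrank_le (LinearMap.range L)
    rw [Module.finrank_fin_fun] at h3
    have h4 : finrank F P' = finrank F (LinearMap.ker L) := Submodule.finrank_map_subtype_eq _ _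
    omega
  have h2 := Submodule.finrank_sup_add_finrank_inf_eq C P'
  have h3 := Submodule.finrank_le (C ⊔ P')
  have h4 := Submodule.finrank_add_eq_of_isCompl hWC
  omega

/-- Killing polynomials, split into factors. -/
theorem finrank_ker_prod_le {U : Submodule F V} (hU : Inv T U) (m : Multiset F[X]) :
    finrank F ↥(U ⊓ LinearMap.ker (aeval T m.prod)) ≤
      (m.map fun g => finrank F ↥(U ⊓ LinearMap.ker (aeval T g))).sum := by
  induction m using Multiset.induction with
  | empty =>
    rw [Multiset.prod_zero, map_one, Module.End.one_eq_id, LinearMap.ker_id, inf_bot_eq, finrank_bot]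
    exact Nat.zero_le _
  | cons a m ih =>
    rw [Multiset.prod_cons, Multiset.map_cons, Multiset.sum_cons]
    set K := U ⊓ LinearMap.ker (aeval T (a * m.prod))
    let f := (aeval T m.prod).comp K.subtype
    have hr : LinearMap.range f ≤ U ⊓ LinearMap.ker (aeval T a) := by
      rintro _ ⟨x, rfl⟩
      refine ⟨hU.aeval _ _ x.2.1, LinearMap.mem_ker.mpr ?_⟩
      show aeval T a (aeval T m.prod x.1) = 0
      rw [← Module.End.mul_apply, ← map_mul]
      exact x.2.2
    have hk : (LinearMap.ker f).map K.subtype ≤ U ⊓ LinearMap.ker (aeval T m.prod) := by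
      rintro _ ⟨x, hx, rfl⟩
      exact ⟨x.2.1, hx⟩
    have h1 := LinearMap.finrank_range_add_finrank_ker f
    have h2 := Submodule.finrank_mono hr
    have h3 := Submodule.finrank_mono hk
    rw [Submodule.finrank_map_subtype_eq] at h3
    omega

/-- The cyclic subspace of a vector. -/
def cyc (T : Module.End F V) (x : V) : Submodule F V := Submodule.span F (Set.range fun n : ℕ => (T ^ n) x)

theorem mem_cyc (x : V) : x ∈ cyc T x := Submodule.subset_span ⟨0, rfl⟩

theorem inv_cyc (x : V) : Inv T (cyc T x) := by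
  intro y hy
  induction hy using Submodule.span_induction with
  | mem y hy =>
    obtain ⟨n, rfl⟩ := hy
    exact Submodule.subset_span ⟨n + 1, by show (T ^ (n + 1)) x = _; rw [pow_succ', Module.End.mul_apply]⟩
  | zero => rw [map_zero]; exact zero_mem _
  | add a c _ _ ha hc => rw [map_add]; exact add_mem ha hc
  | smul c a _ ha => rw [map_smul]; exact Submodule.smul_mem _ _ ha

theorem cyc_le {U : Submodule F V} (hU : Inv T U) {x : V} (hx : x ∈ U) : cyc T x ≤ U :=
  Submodule.span_le.mpr (by rintro _ ⟨n, rfl⟩; exact hU.pow n x hx)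

/-- A window of vanishing products makes all products vanish. -/
theorem window {g : F[X]} (hg : g.Monic) (h : PerIso B T N) {x : V} (hgx : aeval T g x = 0) (a : ℕ)
    (hw : ∀ k, k < g.natDegree → B x ((T ^ (a + k)) x) = 0) (n : ℕ) : B x ((T ^ n) x) = 0 := by
  have key : ∀ P : F[X], B x ((T ^ a) (aeval T P x)) = 0 := by
    intro P
    rcases eq_or_ne g 1 with rfl | hg1
    · rw [map_one, Module.End.one_apply] at hgx
      simp [hgx]
    rw [show aeval T P x = aeval T (P %ₘ g) x by
      conv_lhs => rw [← Polynomial.modByMonic_add_div P g]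
      rw [map_add, LinearMap.add_apply, mul_comm, map_mul, Module.End.mul_apply, hgx, map_zero, add_zero]]
    rw [aeval_eq_sum_range, LinearMap.sum_apply, map_sum, map_sum]
    refine Finset.sum_eq_zero fun k hk => ?_
    rw [LinearMap.smul_apply, map_smul, map_smul, ← Module.End.mul_apply, ← pow_add,
      hw k ?_, smul_zero]
    have := Polynomial.natDegree_modByMonic_lt P hg hg1
    have := Finset.mem_range.mp hk
    omega
  have := key (X ^ (n + (a * N - a)))
  rwa [map_pow, aeval_X, ← Module.End.mul_apply, ← pow_add,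
    show a + (n + (a * N - a)) = n + a * N by have := Nat.le_mul_of_pos_right a h.pos; omega, h.periodic] at this

/-- Vanishing products make the cyclic subspace totally singular. -/
theorem ts_cyc {ok : V → Prop} (h0 : ok 0) (hadd : ∀ x y, ok x → ok y → B x y = 0 → ok (x + y))
    (hsmul : ∀ (c : F) x, ok x → ok (c • x)) (hokT : ∀ x, ok x → ok (T x)) (h : PerIso B T N) {x : V}
    (hx : ok x) (hall : ∀ n : ℕ, B x ((T ^ n) x) = 0) : TS B ok (cyc T x) := by
  have hz : ∀ a c : ℕ, B ((T ^ a) x) ((T ^ c) x) = 0 := fun a c => by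
    rw [← h.periodic c a, show c + a * N = a + (c + (a * N - a)) by
      have := Nat.le_mul_of_pos_right a h.pos; omega, pow_add, Module.End.mul_apply, h.pow]
    exact hall _
  have hB : ∀ y ∈ cyc T x, ∀ z ∈ cyc T x, B y z = 0 := by
    intro y hy z hz'
    induction hy, hz' using Submodule.span_induction₂ with
    | mem_mem y z hy hz' => obtain ⟨a, rfl⟩ := hy; obtain ⟨c, rfl⟩ := hz'; exact hz a c
    | zero_left y hy => simp
    | zero_right y hy => simp
    | add_left a b c _ _ _ h1 h2 => simp [h1, h2]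
    | add_right a b c _ _ _ h1 h2 => simp [h1, h2]
    | smul_left r a b _ _ h1 => simp [LinearMap.map_smulₛₗ, h1]
    | smul_right r a b _ _ h1 => simp [h1]
  refine ⟨fun y hy => ?_, hB⟩
  induction hy using Submodule.span_induction with
  | mem y hy =>
    obtain ⟨n, rfl⟩ := hy
    show ok ((T ^ n) x)
    induction n with
    | zero => exact hx
    | succ n ih => rw [pow_succ', Module.End.mul_apply]; exact hokT _ ih
  | zero => exact h0
  | add a c ha hc iha ihc => exact hadd a c iha ihc (hB a ha c hc)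
  | smul c a _ iha => exact hsmul c a iha

/-- Products inside the kernel of a polynomial dividing its reverse vanish only at zero. -/
theorem ker_nondeg (hB : ∀ x, (∀ y, B x y = 0) → x = 0) (h : PerIso B T N) {P : F[X]}
    {R : F[X]} (hPR : P ∣ R) (hRdeg : R.natDegree ≤ P.natDegree)
    (hR : ∀ j ≤ P.natDegree, σ (R.coeff (P.natDegree - j)) = P.coeff j) {x : V} (hx : x ∈ LinearMap.ker (aeval T P))
    (hperp : ∀ y ∈ LinearMap.ker (aeval T P), B x y = 0) : x = 0 := by
  obtain ⟨C, hCT, hC⟩ := h.exists_compl (inv_ker P)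
  refine hB x fun y => ?_
  obtain ⟨a, ha, c, hc, rfl⟩ := Submodule.mem_sup.mp (hC.sup_eq_top.ge (Submodule.mem_top (x := y)))
  rw [map_add, hperp a ha, zero_add]
  have hinj : Function.Injective ((aeval T P).restrict (fun z hz => hCT.aeval P z hz) : C →ₗ[F] C) := by
    rw [← LinearMap.ker_eq_bot, Submodule.eq_bot_iff]
    intro z hz
    have : (z : V) ∈ LinearMap.ker (aeval T P) ⊓ C :=
      ⟨LinearMap.mem_ker.mpr (congrArg Subtype.val (LinearMap.mem_ker.mp hz)), z.2⟩
    rw [hC.inf_eq_bot, Submodule.mem_bot] at this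
    exact Subtype.ext this
  obtain ⟨⟨w, hw⟩, hwc⟩ := (LinearMap.injective_iff_surjective.mp hinj) ⟨c, hc⟩
  have hwc' : aeval T P w = c := congrArg Subtype.val hwc
  set i := P.natDegree with hi
  have hz : aeval T R x = 0 := by
    obtain ⟨Q, rfl⟩ := hPR
    rw [mul_comm, map_mul, Module.End.mul_apply, LinearMap.mem_ker.mp hx, map_zero]
  calc B x c = B x (aeval T P w) := by rw [hwc']
    _ = ∑ j ∈ Finset.range (i + 1), P.coeff j * B x ((T ^ j) w) := by
        rw [aeval_eq_sum_range, LinearMap.sum_apply, map_sum]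
        simp [hi]
    _ = ∑ l ∈ Finset.range (i + 1), σ (R.coeff l) * B ((T ^ l) x) ((T ^ i) w) := by
        rw [← Finset.sum_range_reflect (fun l => σ (R.coeff l) * B ((T ^ l) x) ((T ^ i) w)) (i + 1)]
        refine Finset.sum_congr rfl fun j hj => ?_
        have hj' : j ≤ i := Nat.le_of_lt_succ (Finset.mem_range.mp hj)
        rw [Nat.add_sub_cancel, hR j hj', ← h.pow (i - j) x, ← Module.End.mul_apply, ← pow_add,
          Nat.sub_add_cancel hj']
    _ = B (aeval T R x) ((T ^ i) w) := by
        rw [aeval_eq_sum_range' (Nat.lt_succ_of_le hRdeg), LinearMap.sum_apply, map_sum, LinearMap.sum_apply]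
        simp [LinearMap.map_smulₛₗ]
    _ = 0 := by rw [hz, map_zero, LinearMap.zero_apply]

end CfsgLib.PrimeIso
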