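/-
Isometries of finite period of alternating forms over finite fields: dimensions of invariant totally
isotropic subspaces.
-/
import Cfsg.Agent.Lib.PrimeIso.Basic

set_option autoImplicit false
set_option linter.unusedSectionVars false

namespace CfsgLib.PrimeIso

open Polynomial Module

universe u v

variable {F : Type u} [Field F] {V : Type v} [AddCommGroup V] [Module F V] [FiniteDimensional F V]
  {B : V →ₗ[F] V →ₗ[F] F} {T : Module.End F V} {N : ℕ}

/-- Quadratic equations in many variables have a common non-zero solution. -/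
theorem exists_common_zero [Fintype F] (U : Submodule F V) {n : ℕ} (β : Fin n → (V →ₗ[F] V →ₗ[F] F))
    (h : 2 * n < finrank F U) : ∃ x ∈ U, x ≠ 0 ∧ ∀ a, β a x x = 0 := by
  classical
  obtain ⟨p, hp⟩ := CharP.exists F
  obtain ⟨k, hpp, -⟩ := FiniteField.card F p
  have := Fact.mk hpp
  let e := Module.finBasis F U
  let f : Fin n → MvPolynomial (Fin (finrank F U)) F := fun a =>
    ∑ i, ∑ j, MvPolynomial.C (β a (e i : V) (e j : V)) * MvPolynomial.X i * MvPolynomial.X j
  have hdeg : ∀ a, (f a).totalDegree ≤ 2 := fun a => by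
    refine MvPolynomial.totalDegree_finsetSum_le fun i _ => MvPolynomial.totalDegree_finsetSum_le fun j _ => ?_
    refine (MvPolynomial.totalDegree_mul _ _).trans ?_
    rw [MvPolynomial.totalDegree_X]
    have := MvPolynomial.totalDegree_mul (MvPolynomial.C (β a (e i : V) (e j : V)) : MvPolynomial (Fin (finrank F U)) F)
      (MvPolynomial.X i)
    rw [MvPolynomial.totalDegree_C, MvPolynomial.totalDegree_X] at this
    omega
  have hlt : (∑ a, (f a).totalDegree) < Fintype.card (Fin (finrank F U)) := by
    rw [Fintype.card_fin]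
    refine lt_of_le_of_lt (Finset.sum_le_sum fun a _ => hdeg a) ?_
    simpa [mul_comm] using h
  have hdvd := char_dvd_card_solutions_of_fintype_sum_lt p hlt
  have heval : ∀ (c : Fin (finrank F U) → F) (a : Fin n),
      MvPolynomial.eval c (f a) = β a (∑ i, c i • (e i : V)) (∑ i, c i • (e i : V)) := by
    intro c a
    simp only [f, map_sum, map_mul, MvPolynomial.eval_C, MvPolynomial.eval_X, LinearMap.sum_apply,
      map_smul, LinearMap.smul_apply, smul_eq_mul, Finset.mul_sum]
    rw [Finset.sum_comm]
    exact Finset.sum_congr rfl fun i _ => Finset.sum_congr rfl fun j _ => by ring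
  have h0 : ∀ a, MvPolynomial.eval (0 : Fin (finrank F U) → F) (f a) = 0 := fun a => by
    rw [heval]; simp
  have : Nonempty {x : Fin (finrank F U) → F // ∀ a, MvPolynomial.eval x (f a) = 0} := ⟨⟨0, h0⟩⟩
  rw [Fintype.card_eq_nat_card] at hdvd
  have h1 : 1 < Nat.card {x : Fin (finrank F U) → F // ∀ a, MvPolynomial.eval x (f a) = 0} :=
    lt_of_lt_of_le hpp.one_lt (Nat.le_of_dvd Nat.card_pos hdvd)
  rw [Nat.card_eq_fintype_card] at h1
  obtain ⟨⟨c, hc⟩, hne⟩ := Fintype.exists_ne_of_one_lt_card h1 ⟨0, h0⟩
  refine ⟨((∑ i, c i • e i : U) : V), SetLike.coe_mem _, fun hz => hne (Subtype.ext ?_), fun a => ?_⟩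
  · have hz' : (∑ i, c i • e i : U) = 0 := Subtype.ext hz
    exact funext (Fintype.linearIndependent_iff.mp e.linearIndependent c hz')
  · have := hc a
    rw [heval] at this
    simpa using this

/-- The slack of a polynomial whose irreducible factors have degree `i`. -/
def slack (P : F[X]) (i : ℕ) : ℕ := if Even i then P.natDegree else 0

variable (halt : ∀ x, B x x = 0)
include halt

theorem alt_swap (x y : V) : B y x = -B x y := by
  have := halt (x + y)
  simp only [map_add, LinearMap.add_apply, halt, zero_add, add_zero] at this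
  linear_combination this

theorem alt_refl : B.IsRefl := fun x y h => by rw [alt_swap halt x y, h, neg_zero]

omit halt in
theorem ts_true_iff {W : Submodule F V} : TS B (fun _ => True) W ↔ ∀ x ∈ W, ∀ y ∈ W, B x y = 0 :=
  ⟨fun h => h.2, fun h => ⟨fun _ _ => trivial, h⟩⟩

/-- A component without singular invariant subspaces is small. -/
theorem component_le [Fintype F] (h : PerIso B T N) {U : Submodule F V} (hU : Inv T U)
    (hno : ∀ X ≤ U, Inv T X → TS B (fun _ => True) X → X = ⊥) {g : F[X]} (hgm : g.Monic) :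
    finrank F ↥(U ⊓ LinearMap.ker (aeval T g)) ≤ 2 * (g.natDegree / 2) := by
  by_contra hlt
  set q := g.natDegree / 2 with hq
  let β : Fin q → (V →ₗ[F] V →ₗ[F] F) := fun a => B.compl₂ (T ^ ((a : ℕ) + 1))
  obtain ⟨x, hx, hx0, hb⟩ := exists_common_zero (U ⊓ LinearMap.ker (aeval T g)) β (by omega)
  have hs : ∀ n, 1 ≤ n → n ≤ q → B x ((T ^ n) x) = 0 := fun n h1 h2 => by
    have := hb ⟨n - 1, by omega⟩
    simpa [β, Nat.sub_add_cancel h1] using this
  have hall := window (a := q * N - q) hgm h hx.2 fun k hk => by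
    have hN : q ≤ q * N := Nat.le_mul_of_pos_right q h.pos
    have hqN : T ^ (q * N) = 1 := by rw [mul_comm, pow_mul, h.per, one_pow]
    rcases lt_trichotomy k q with hkq | hkq | hkq
    · rw [← h.pow (q - k), ← Module.End.mul_apply, ← pow_add,
        show q - k + (q * N - q + k) = q * N by omega, hqN, Module.End.one_apply, alt_swap halt x,
        hs _ (by omega) (by omega), neg_zero]
    · rw [show q * N - q + k = q * N by omega, hqN, Module.End.one_apply, halt]
    · rw [show q * N - q + k = k - q + q * N by omega, h.periodic, hs _ (by omega) (by omega)]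
  refine hx0 ?_
  have h1 := hno (cyc T x) (cyc_le hU hx.1) (inv_cyc x)
    (ts_cyc trivial (fun _ _ _ _ _ => trivial) (fun _ _ _ => trivial) (fun _ _ => trivial) h trivial hall)
  exact (Submodule.mem_bot F).mp (h1 ▸ mem_cyc x)

omit halt in
/-- Dimensions of invariant subspaces of a piece killed by a polynomial with factors of degree `i`. -/
theorem dims_of_ker [Fintype F] {P : F[X]} {i : ℕ} (hi : ∀ g : F[X], Irreducible g → g.Monic → g ∣ P → g.natDegree = i)
    {U : Submodule F V} (hUT : Inv T U) (hker : U ≤ LinearMap.ker (aeval T P)) :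
    i ∣ finrank F U ∧ ∀ k, k * i ≤ finrank F U → ∃ X ≤ U, Inv T X ∧ finrank F X = k * i := by
  have hres : ∀ x ∈ U, T x ∈ U := hUT
  obtain ⟨h1, h2⟩ := CfsgLib.MaxSub.Elusive.invariant_dims hi (T.restrict hres)
    (LinearMap.ext fun x => Subtype.ext (by
      rw [CfsgLib.MaxSub.Elusive.aeval_restrict]
      exact LinearMap.mem_ker.mp (hker x.2)))
  refine ⟨h1, fun k hk => ?_⟩
  obtain ⟨X, hXd, hXT⟩ := h2 k hk
  refine ⟨X.map U.subtype, Submodule.map_subtype_le U X, ?_, (Submodule.finrank_map_subtype_eq U X).trans hXd⟩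
  rintro _ ⟨x, hx, rfl⟩
  exact ⟨_, hXT x hx, rfl⟩

/-- An invariant piece killed by a polynomial with factors of degree `i` has large isotropic parts. -/
theorem exists_ts [Fintype F] (h : PerIso B T N) {P : F[X]} (hPm : P.Monic) {i : ℕ}
    (hi : ∀ g : F[X], Irreducible g → g.Monic → g ∣ P → g.natDegree = i)
    {V₀ : Submodule F V} (hV : Inv T V₀) (hker : V₀ ≤ LinearMap.ker (aeval T P)) {k : ℕ}
    (hk : k = 0 ∨ 2 * (k * i) + slack P i < finrank F V₀ + 2 * i) :
    ∃ W ≤ V₀, Inv T W ∧ (∀ x ∈ W, ∀ y ∈ W, B x y = 0) ∧ finrank F W = k * i := by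
  classical
  rcases hk with rfl | hk
  · exact ⟨⊥, bot_le, inv_bot, fun x hx y _ => by simp [(Submodule.mem_bot F).mp hx], by simp⟩
  have hdims : ∀ U ≤ V₀, Inv T U → i ∣ finrank F U ∧
      ∀ k, k * i ≤ finrank F U → ∃ X ≤ U, Inv T X ∧ finrank F X = k * i :=
    fun U hUV hUT => dims_of_ker hi hUT (hUV.trans hker)
  obtain ⟨W, hWV, hWT, hWts, hW⟩ := exists_max_ts h (fun _ => True) trivial (fun _ _ _ _ _ => trivial) V₀ hV
    (slack P i) (fun U hUV hUT hno => by
      set m := UniqueFactorizationMonoid.normalizedFactors P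
      have hmem : ∀ g ∈ m, g.Monic ∧ g.natDegree = i := fun g hg => by
        have h1 := UniqueFactorizationMonoid.irreducible_of_normalized_factor g hg
        have h2 : g.Monic := by
          have := UniqueFactorizationMonoid.normalize_normalized_factor g hg
          exact this ▸ Polynomial.monic_normalize h1.ne_zero
        exact ⟨h2, hi g h1 h2 (UniqueFactorizationMonoid.dvd_of_mem_normalizedFactors hg)⟩
      have hprod : m.prod = P := Polynomial.eq_of_monic_of_associated
        (Polynomial.monic_multiset_prod_of_monic m id (fun g hg => (hmem g hg).1) |> fun e => by simpa using e)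
        hPm (UniqueFactorizationMonoid.prod_normalizedFactors hPm.ne_zero)
      have hdeg : P.natDegree = (m.map fun _ => i).sum := by
        conv_lhs => rw [← hprod]
        rw [Polynomial.natDegree_multiset_prod_of_monic _ fun g hg => (hmem g hg).1]
        exact congrArg Multiset.sum (Multiset.map_congr rfl fun g hg => (hmem g hg).2)
      have h1 := finrank_ker_prod_le (T := T) hUT m
      rw [hprod, inf_eq_left.mpr (hUV.trans hker)] at h1
      refine h1.trans ?_
      rw [slack]
      split_ifs with he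
      · rw [hdeg]
        refine Multiset.sum_map_le_sum_map _ _ fun g hg => ?_
        have := component_le halt h hUT hno (hmem g hg).1
        rw [(hmem g hg).2] at this
        omega
      · refine le_of_eq (Multiset.sum_eq_zero fun x hx => ?_)
        obtain ⟨g, hg, rfl⟩ := Multiset.mem_map.mp hx
        have h2 := component_le halt h hUT hno (hmem g hg).1
        rw [(hmem g hg).2] at h2
        have h3 := (hdims _ (inf_le_left.trans hUV) (hUT.inf (inv_ker g))).1
        refine Nat.eq_zero_of_dvd_of_lt h3 ?_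
        have : i % 2 = 1 := Nat.not_even_iff.mp he
        omega)
  obtain ⟨⟨w, hw⟩, hex⟩ := hdims W hWV hWT
  have hkw : k * i ≤ finrank F W := by
    rw [hw, mul_comm i w]
    rw [hw, mul_comm i w] at hW
    refine Nat.mul_le_mul_right i ?_
    by_contra hc
    have : (w + 1) * i ≤ k * i := Nat.mul_le_mul_right i (by omega)
    rw [add_mul, one_mul] at this
    omega
  obtain ⟨X, hXW, hXT, hXd⟩ := hex k hkw
  exact ⟨X, hXW.trans hWV, hXT, fun x hx y hy => hWts.2 x (hXW hx) y (hXW hy), hXd⟩

omit halt in
/-- An isotropic subspace is at most half of a non-degenerate one. -/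
theorem two_mul_finrank_le {X Y : Submodule F V} (hXY : X ≤ Y) (hX : ∀ x ∈ X, ∀ y ∈ X, B x y = 0)
    (hY : ∀ x ∈ Y, (∀ y ∈ Y, B x y = 0) → x = 0) : 2 * finrank F X ≤ finrank F Y := by
  let L : X →ₗ[F] Module.Dual F Y := (B.compl₂ Y.subtype).comp X.subtype
  let X' : Submodule F Y := X.comap Y.subtype
  have hinj : Function.Injective L := (injective_iff_map_eq_zero L).mpr fun x hx =>
    Subtype.ext (hY x (hXY x.2) fun y hy => LinearMap.congr_fun hx ⟨y, hy⟩)
  have hr : LinearMap.range L ≤ X'.dualAnnihilator := by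
    rintro _ ⟨x, rfl⟩
    rw [Submodule.mem_dualAnnihilator]
    exact fun y hy => hX x x.2 y hy
  have h1 := Submodule.finrank_mono hr
  rw [LinearMap.finrank_range_of_inj hinj] at h1
  have h2 := Subspace.finrank_add_finrank_dualAnnihilator_eq X'
  have h3 : finrank F X' = finrank F X := (Submodule.comapSubtypeEquivOfLe hXY).finrank_eq
  omega

omit halt in
/-- Fixed vectors are orthogonal to the kernel of the sum of powers. -/
theorem fix_perp {r : ℕ} (h : PerIso B T r) {x y : V} (hx : x ∈ LinearMap.ker (aeval T (X - C (1 : F))))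
    (hy : y ∈ LinearMap.ker (aeval T (CfsgLib.MaxSub.Elusive.geom F r))) : B x y = 0 ∧ (x = y → x = 0) := by
  have hTx : T x = x := by simpa [sub_eq_zero] using hx
  have hpow : ∀ n : ℕ, (T ^ n) x = x := by
    intro n
    induction n with
    | zero => rfl
    | succ n ih => rw [pow_succ, Module.End.mul_apply, hTx, ih]
  have hy' : ∑ j ∈ Finset.range r, (T ^ j) y = 0 := by
    simpa [CfsgLib.MaxSub.Elusive.geom] using hy
  refine ⟨?_, fun e => ?_⟩
  · have h1 : ∀ j : ℕ, B x ((T ^ j) y) = B x y := fun j => by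
      conv_lhs => rw [← hpow j, h.pow]
    have h2 := congrArg (B x) hy'
    rw [map_sum, map_zero, Finset.sum_congr rfl fun j _ => h1 j] at h2
    simpa [h.unit] using h2
  · subst e
    rw [Finset.sum_congr rfl fun j _ => hpow j] at hy'
    simp only [Finset.sum_const, Finset.card_range, ← Nat.cast_smul_eq_nsmul F] at hy'
    exact (smul_eq_zero.mp hy').resolve_left h.unit

omit halt in
/-- An invariant subspace splits into its fixed part and the rest. -/
theorem finrank_split {r : ℕ} (h : PerIso B T r) {W : Submodule F V} (hW : Inv T W) :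
    finrank F ↥(W ⊓ LinearMap.ker (aeval T (X - C (1 : F)))) +
      finrank F ↥(W ⊓ LinearMap.ker (aeval T (CfsgLib.MaxSub.Elusive.geom F r))) = finrank F W := by
  have h1 := finrank_ker_prod_le (T := T) hW {X - C (1 : F), CfsgLib.MaxSub.Elusive.geom F r}
  have h0 : aeval T (Multiset.prod {X - C (1 : F), CfsgLib.MaxSub.Elusive.geom F r}) = 0 := by
    rw [Multiset.prod_pair, CfsgLib.MaxSub.Elusive.geom, Polynomial.C_1, mul_comm, geom_sum_mul]
    simp [h.per]
  rw [h0, LinearMap.ker_zero, inf_top_eq] at h1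
  simp only [Multiset.insert_eq_cons, Multiset.map_cons, Multiset.map_singleton, Multiset.sum_cons,
    Multiset.sum_singleton] at h1
  have h2 := Submodule.finrank_sup_add_finrank_inf_eq (W ⊓ LinearMap.ker (aeval T (X - C (1 : F))))
    (W ⊓ LinearMap.ker (aeval T (CfsgLib.MaxSub.Elusive.geom F r)))
  have h3 : W ⊓ LinearMap.ker (aeval T (X - C (1 : F))) ⊓
      (W ⊓ LinearMap.ker (aeval T (CfsgLib.MaxSub.Elusive.geom F r))) = ⊥ :=
    (Submodule.eq_bot_iff _).mpr fun x hx => (fix_perp h hx.1.2 hx.2.2).2 rfl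
  have h4 := Submodule.finrank_mono (sup_le (inf_le_left : W ⊓ LinearMap.ker (aeval T (X - C (1 : F))) ≤ W)
    (inf_le_left : W ⊓ LinearMap.ker (aeval T (CfsgLib.MaxSub.Elusive.geom F r)) ≤ W))
  rw [h3, finrank_bot, add_zero] at h2
  omega

end CfsgLib.PrimeIso
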