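/-
Isometries of finite period of alternating forms: invariant non-degenerate blocks.
-/
import Cfsg.Agent.Lib.PrimeIso.Alt

set_option autoImplicit false
set_option linter.unusedSectionVars false

namespace CfsgLib.PrimeIso

open Polynomial Module

universe u v

variable {F : Type u} [Field F] {V : Type v} [AddCommGroup V] [Module F V] [FiniteDimensional F V]
  {B : V →ₗ[F] V →ₗ[F] F} {T : Module.End F V} {N : ℕ}

/-- Non-degeneracy on a subspace. -/
def ND (B : V →ₗ[F] V →ₗ[F] F) (W : Submodule F V) : Prop := ∀ x ∈ W, (∀ y ∈ W, B x y = 0) → x = 0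

/-- The part of `U` orthogonal to `Y`. -/
def perpIn (B : V →ₗ[F] V →ₗ[F] F) (Y U : Submodule F V) : Submodule F V where
  carrier := {x | x ∈ U ∧ ∀ y ∈ Y, B y x = 0}
  zero_mem' := ⟨zero_mem U, fun y _ => map_zero (B y)⟩
  add_mem' := fun ha hb => ⟨add_mem ha.1 hb.1, fun y hy => by rw [map_add, ha.2 y hy, hb.2 y hy, add_zero]⟩
  smul_mem' := fun c x hx => ⟨U.smul_mem c hx.1, fun y hy => by rw [map_smul, hx.2 y hy, smul_zero]⟩

theorem perpIn_le {Y U : Submodule F V} : perpIn B Y U ≤ U := fun _ hx => hx.1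

theorem inv_perpIn (h : PerIso B T N) {Y U : Submodule F V} (hY : Inv T Y) (hU : Inv T U) :
    Inv T (perpIn B Y U) := fun x hx => ⟨hU x hx.1, fun w hw => by
  have hw' : T ((T ^ (N - 1)) w) = w := by
    rw [← Module.End.mul_apply, ← pow_succ', Nat.sub_add_cancel h.pos, h.per, Module.End.one_apply]
  rw [← hw', h.iso]
  exact hx.2 _ (hY.pow _ w hw)⟩

theorem finrank_perpIn_ge {Y U : Submodule F V} : finrank F U ≤ finrank F (perpIn B Y U) + finrank F Y := by
  let L : U →ₗ[F] Module.Dual F Y := (B.compl₂ U.subtype).flip.compl₂ Y.subtype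
  have hk : (LinearMap.ker L).map U.subtype ≤ perpIn B Y U := by
    rintro _ ⟨x, hx, rfl⟩
    exact ⟨x.2, fun y hy => LinearMap.congr_fun hx ⟨y, hy⟩⟩
  have h1 := LinearMap.finrank_range_add_finrank_ker L
  have h2 := Submodule.finrank_le (LinearMap.range L)
  have h3 := Submodule.finrank_mono hk
  rw [Submodule.finrank_map_subtype_eq] at h3
  rw [Subspace.dual_finrank_eq] at h2
  omega

/-- An orthogonal complement inside a subspace. -/
theorem split_perpIn (hrefl : B.IsRefl) {Y U : Submodule F V} (hYU : Y ≤ U) (hY : ND B Y) (hU : ND B U) :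
    ND B (perpIn B Y U) ∧ Y ⊓ perpIn B Y U = ⊥ ∧ Y ⊔ perpIn B Y U = U ∧
      finrank F Y + finrank F (perpIn B Y U) = finrank F U := by
  have hinf : Y ⊓ perpIn B Y U = ⊥ := (Submodule.eq_bot_iff _).mpr fun x hx =>
    hY x hx.1 fun y hy => hrefl y x (hx.2.2 y hy)
  have h1 := Submodule.finrank_sup_add_finrank_inf_eq Y (perpIn B Y U)
  rw [hinf, finrank_bot, add_zero] at h1
  have hle : Y ⊔ perpIn B Y U ≤ U := sup_le hYU perpIn_le
  have h2 := finrank_perpIn_ge (B := B) (Y := Y) (U := U)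
  have h3 := Submodule.finrank_mono hle
  have heq : Y ⊔ perpIn B Y U = U := Submodule.eq_of_le_of_finrank_le hle (by omega)
  refine ⟨fun x hx hp => hU x hx.1 fun u hu => ?_, hinf, heq, by omega⟩
  obtain ⟨y, hy, z, hz, rfl⟩ := Submodule.mem_sup.mp (heq.ge hu)
  rw [map_add, hp z hz, add_zero]
  exact hrefl y x (hx.2 y hy)

/-- Pairing an isotropic subspace with a complement of its orthogonal. -/
theorem exists_pair (h : PerIso B T N) {X U : Submodule F V} (hXT : Inv T X) (hUT : Inv T U) (hXU : X ≤ U)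
    (hX : ∀ x ∈ X, ∀ y ∈ X, B x y = 0) (hU : ND B U) :
    ∃ Y ≤ U, Inv T Y ∧ ND B Y ∧ finrank F Y = 2 * finrank F X := by
  set Q := perpIn B X U
  have hXQ : X ≤ Q := fun x hx => ⟨hXU hx, fun y hy => hX y hy x hx⟩
  obtain ⟨C₀, hC₀T, hC₀⟩ := h.exists_compl (inv_perpIn h hXT hUT)
  set C := C₀ ⊓ U
  have hQC : Q ⊓ C = ⊥ := le_bot_iff.mp ((inf_le_inf_left _ inf_le_left).trans hC₀.inf_eq_bot.le)
  have hsup : Q ⊔ C = U := by
    refine le_antisymm (sup_le perpIn_le inf_le_right) fun u hu => ?_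
    obtain ⟨a, ha, c, hc, rfl⟩ := Submodule.mem_sup.mp (hC₀.sup_eq_top.ge (Submodule.mem_top (x := u)))
    exact Submodule.add_mem_sup ha ⟨hc, (Submodule.add_mem_iff_right U (perpIn_le ha)).mp hu⟩
  have hkey : ∀ x ∈ X, (∀ c ∈ C, B x c = 0) → x = 0 := fun x hx hp => hU x (hXU hx) fun u hu => by
    obtain ⟨a, ha, c, hc, rfl⟩ := Submodule.mem_sup.mp (hsup.ge hu)
    rw [map_add, ha.2 x hx, hp c hc, add_zero]
  have hXC : X ⊓ C = ⊥ := le_bot_iff.mp ((inf_le_inf_right _ hXQ).trans hQC.le)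
  have hd1 := Submodule.finrank_sup_add_finrank_inf_eq Q C
  rw [hQC, hsup, finrank_bot, add_zero] at hd1
  have hd2 : finrank F U ≤ finrank F Q + finrank F X := finrank_perpIn_ge (B := B) (Y := X) (U := U)
  have hd3 : finrank F X ≤ finrank F C := by
    let L : X →ₗ[F] Module.Dual F C := (B.compl₂ C.subtype).comp X.subtype
    have hinj : Function.Injective L := (injective_iff_map_eq_zero L).mpr fun x hx =>
      Subtype.ext (hkey x x.2 fun c hc => LinearMap.congr_fun hx ⟨c, hc⟩)
    exact (LinearMap.finrank_le_finrank_of_injective hinj).trans (le_of_eq Subspace.dual_finrank_eq)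
  have hd4 := Submodule.finrank_sup_add_finrank_inf_eq X C
  rw [hXC, finrank_bot, add_zero] at hd4
  refine ⟨X ⊔ C, sup_le hXU inf_le_right, hXT.sup (hC₀T.inf hUT), fun z hz hp => ?_, by omega⟩
  obtain ⟨x, hx, c, hc, rfl⟩ := Submodule.mem_sup.mp hz
  have hc0 : c = 0 := by
    refine (Submodule.mem_bot F).mp (hQC ▸ (⟨⟨hc.2, fun y hy => ?_⟩, hc⟩ : c ∈ Q ⊓ C))
    have h1 := h.refl _ y (hp y (Submodule.mem_sup_left hy))
    rwa [map_add, hX y hy x hx, zero_add] at h1
  subst hc0
  rw [add_zero] at hp ⊢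
  exact hkey x hx fun c' hc' => hp c' (Submodule.mem_sup_right hc')

/-- The restriction to an invariant subspace. -/
theorem perIso_restrict (h : PerIso B T N) {U : Submodule F V} (hUT : Inv T U) :
    PerIso (B.compl₁₂ U.subtype U.subtype) (T.restrict hUT) N where
  refl := fun x y hxy => h.refl (x : V) (y : V) hxy
  iso := fun x y => h.iso (x : V) (y : V)
  per := by
    refine LinearMap.ext fun x => Subtype.ext ?_
    have key : ∀ (n : ℕ) (x : U), (((T.restrict hUT) ^ n) x : V) = (T ^ n) (x : V) := fun n => by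
      induction n with
      | zero => intro x; rfl
      | succ n ih => intro x; rw [pow_succ, pow_succ, Module.End.mul_apply, Module.End.mul_apply, ih]; rfl
    rw [key, h.per]
    rfl
  unit := h.unit

variable (halt : ∀ x, B x x = 0)
include halt

/-- A non-degenerate invariant piece contains a non-degenerate block of the smallest size. -/
theorem exists_block [Fintype F] (h : PerIso B T N) {P : F[X]} (hPm : P.Monic) {i : ℕ} (hipos : 0 < i)
    (hi : ∀ g : F[X], Irreducible g → g.Monic → g ∣ P → g.natDegree = i)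
    (hself : Even i → ∀ g : F[X], Irreducible g → g.Monic → g ∣ P → g ∣ g.reverse)
    {U : Submodule F V} (hUT : Inv T U) (hker : U ≤ LinearMap.ker (aeval T P)) (hU : ND B U) (hne : U ≠ ⊥) :
    ∃ Y ≤ U, Inv T Y ∧ ND B Y ∧ finrank F Y = if Even i then i else 2 * i := by
  obtain ⟨hdU, hexU⟩ := dims_of_ker hi hUT hker
  have hUpos : i ≤ finrank F U := Nat.le_of_dvd (Nat.pos_of_ne_zero fun e => hne (Submodule.finrank_eq_zero.mp e)) hdU
  by_cases he : Even i
  swap
  · rw [if_neg he]
    obtain ⟨X, hXU, hXT, hXts, hXd⟩ := exists_ts halt h hPm hi hUT hker (k := 1)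
      (Or.inr (by rw [slack, if_neg he]; omega))
    obtain ⟨Y, hYU, hYT, hY, hYd⟩ := exists_pair h hXT hUT hXU hXts hU
    exact ⟨Y, hYU, hYT, hY, by rw [hYd, hXd, one_mul]⟩
  rw [if_pos he]
  have hi2 : 2 ≤ i := by obtain ⟨k, hk⟩ := he; omega
  by_contra hno
  push Not at hno
  -- some irreducible factor has a non-zero kernel in `U`
  obtain ⟨X₀, hX₀, hX₀T, hX₀d⟩ := hexU 1 (by rwa [one_mul])
  rw [one_mul] at hX₀d
  have : Nontrivial X₀ := Module.nontrivial_of_finrank_pos (R := F) (by omega)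
  obtain ⟨g, hgi, hgm, hgP, W, hWd, hWT, hWg⟩ := CfsgLib.MaxSub.Elusive.exists_cyclic (T.restrict hX₀T) (P := P)
    (LinearMap.ext fun x => Subtype.ext (by
      rw [CfsgLib.MaxSub.Elusive.aeval_restrict T X₀ hX₀T]
      exact LinearMap.mem_ker.mp (hker (hX₀ x.2))))
  set M := U ⊓ LinearMap.ker (aeval T g)
  have hMT : Inv T M := hUT.inf (inv_ker g)
  have hMne : ∃ w ∈ M, w ≠ 0 := by
    obtain ⟨w, hw, hw0⟩ := Submodule.exists_mem_ne_zero_of_ne_bot (p := W) fun e => by
      rw [e, finrank_bot] at hWd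
      exact hgi.natDegree_pos.ne hWd
    refine ⟨w.1, ⟨hX₀ w.2, LinearMap.mem_ker.mpr ?_⟩, fun e => hw0 (Subtype.ext e)⟩
    rw [← CfsgLib.MaxSub.Elusive.aeval_restrict T X₀ hX₀T, hWg w hw]
    rfl
  have hsmall : ∀ Z ≤ U, Inv T Z → finrank F Z ≤ i → Z = ⊥ ∨ finrank F Z = i := fun Z hZ hZT hle => by
    obtain ⟨⟨e, he'⟩, -⟩ := dims_of_ker hi hZT (hZ.trans hker)
    rcases e with _ | _ | e
    · left; rw [← Submodule.finrank_eq_zero, he', mul_zero]
    · right; simp [he']
    · exfalso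
      have : i * 2 ≤ i * (e + 1 + 1) := Nat.mul_le_mul_left i (by omega)
      omega
  have hcyc : ∀ x ∈ M, ∀ n : ℕ, B x ((T ^ n) x) = 0 := by
    intro x hx n
    have hle : finrank F (cyc T x) ≤ i := by
      have h2 : cyc T x ≤ (Polynomial.degreeLT F i).map ((LinearMap.applyₗ x).comp (aeval T).toLinearMap) := by
        refine Submodule.span_le.mpr ?_
        rintro _ ⟨k, rfl⟩
        refine ⟨Polynomial.X ^ k %ₘ g, Polynomial.mem_degreeLT.mpr ?_, ?_⟩
        · rw [← hi g hgi hgm hgP, ← Polynomial.degree_eq_natDegree hgm.ne_zero]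
          exact Polynomial.degree_modByMonic_lt _ hgm
        · show aeval T (Polynomial.X ^ k %ₘ g) x = (T ^ k) x
          rw [Polynomial.modByMonic_eq_sub_mul_div _ g, map_sub, LinearMap.sub_apply, mul_comm g,
            map_mul (aeval T) _ g, Module.End.mul_apply, LinearMap.mem_ker.mp hx.2, map_zero, sub_zero, map_pow,
            aeval_X]
      refine (Submodule.finrank_mono h2).trans ((Submodule.finrank_map_le _ _).trans ?_)
      rw [(Polynomial.degreeLTEquiv F i).finrank_eq, Module.finrank_fin_fun]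
    rcases hsmall _ (cyc_le hUT hx.1) (inv_cyc x) hle with h2 | h2
    · rw [(Submodule.mem_bot F).mp (h2 ▸ mem_cyc (T := T) x : x ∈ (⊥ : Submodule F V)), map_zero, LinearMap.zero_apply]
    set Z := cyc T x
    rcases hsmall (perpIn B Z Z) (perpIn_le.trans (cyc_le hUT hx.1)) (inv_perpIn h (inv_cyc x) (inv_cyc x))
        ((Submodule.finrank_mono perpIn_le).trans hle) with h3 | h3
    · refine absurd h2 (hno Z (cyc_le hUT hx.1) (inv_cyc x) fun z hz hp => (Submodule.mem_bot F).mp
        (h3 ▸ (⟨hz, fun y hy => h.refl z y (hp y hy)⟩ : z ∈ perpIn B Z Z)))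
    · have h4 : perpIn B Z Z = Z := Submodule.eq_of_le_of_finrank_le perpIn_le (by omega)
      exact (h4.ge ((inv_cyc x).pow n x (mem_cyc x))).2 x (mem_cyc x)
  have hanti : ∀ x ∈ M, ∀ y ∈ M, B x (T y) + B y (T x) = 0 := fun x hx y hy => by
    have h2 := hcyc (x + y) (add_mem hx hy) 1
    have h3 := hcyc x hx 1
    have h4 := hcyc y hy 1
    rw [pow_one] at h2 h3 h4
    simp only [map_add, LinearMap.add_apply, h3, h4, zero_add, add_zero] at h2
    rw [add_comm]; exact h2
  let D : M →ₗ[F] M := (T ^ 2 - 1 : Module.End F V).restrict fun x hx => sub_mem (hMT.pow 2 x hx) hx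
  have hDinj : Function.Injective D := by
    refine (injective_iff_map_eq_zero D).mpr fun y hy => Subtype.ext ?_
    have hy1 : aeval T (Polynomial.X ^ 2 - 1 : F[X]) (y : V) = 0 := by
      have := congrArg Subtype.val hy
      simpa [D] using this
    have hnd : ¬ g ∣ (Polynomial.X ^ 2 - 1 : F[X]) := fun hd => by
      rw [show (Polynomial.X ^ 2 - 1 : F[X]) = (Polynomial.X - C 1) * (Polynomial.X - C (-1)) by
        rw [map_neg, C_1]; ring] at hd
      rcases hgi.prime.dvd_or_dvd hd with hd | hd <;>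
      · have := Polynomial.natDegree_le_of_dvd hd (X_sub_C_ne_zero _)
        rw [natDegree_X_sub_C, hi g hgi hgm hgP] at this
        omega
    obtain ⟨a, b, hab⟩ := hgi.coprime_iff_not_dvd.mpr hnd
    have := congrArg (fun Q => aeval T Q (y : V)) hab
    simp only [map_add, map_mul, map_one, LinearMap.add_apply, Module.End.mul_apply, Module.End.one_apply,
      LinearMap.mem_ker.mp y.2.2, hy1, map_zero, add_zero] at this
    simp [← this]
  have hzero : ∀ x ∈ M, ∀ y ∈ M, B x y = 0 := by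
    intro x hx y hy
    obtain ⟨y', hy'⟩ := (LinearMap.injective_iff_surjective.mp hDinj) ⟨y, hy⟩
    have hy'' : T (T y'.1) - y'.1 = y := by
      have := congrArg Subtype.val hy'
      simpa [D, pow_two] using this
    rw [← hy'', map_sub]
    have h2 := hanti x hx (T y'.1) (hMT _ y'.2)
    rw [h.iso, alt_swap halt x] at h2
    linear_combination h2
  obtain ⟨w, hw, hw0⟩ := hMne
  have hres := perIso_restrict h hUT
  have := ker_nondeg (B := B.compl₁₂ U.subtype U.subtype)
    (fun x hp => Subtype.ext (hU x x.2 fun y hy => hp ⟨y, hy⟩)) hres (P := g) (R := g.reverse)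
    (hself he g hgi hgm hgP) (reverse_natDegree_le _)
    (fun j hj => by rw [Polynomial.coeff_reverse, Polynomial.revAt_le (Nat.sub_le _ _), Nat.sub_sub_self hj]; rfl)
    (x := ⟨w, hw.1⟩) (LinearMap.mem_ker.mpr (Subtype.ext (by
      rw [CfsgLib.MaxSub.Elusive.aeval_restrict T U hUT]
      exact hw.2))) fun y hy => hzero w hw y ⟨y.2, LinearMap.mem_ker.mpr (by
        rw [← CfsgLib.MaxSub.Elusive.aeval_restrict T U hUT, LinearMap.mem_ker.mp hy]
        rfl)⟩
  exact hw0 (congrArg Subtype.val this)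

/-- Invariant non-degenerate subspaces of every possible dimension. -/
theorem exists_nd_dim [Fintype F] (h : PerIso B T N) {P : F[X]} (hPm : P.Monic) {i c : ℕ} (hipos : 0 < i)
    (hc : c = if Even i then i else 2 * i)
    (hi : ∀ g : F[X], Irreducible g → g.Monic → g ∣ P → g.natDegree = i)
    (hself : Even i → ∀ g : F[X], Irreducible g → g.Monic → g ∣ P → g ∣ g.reverse)
    {U : Submodule F V} (hUT : Inv T U) (hker : U ≤ LinearMap.ker (aeval T P)) (hU : ND B U) :
    c ∣ finrank F U ∧ ∀ k, k * c ≤ finrank F U → ∃ Y ≤ U, Inv T Y ∧ ND B Y ∧ finrank F Y = k * c := by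
  induction hn : finrank F U using Nat.strong_induction_on generalizing U with
  | _ n ih =>
    subst hn
    by_cases hne : U = ⊥
    · refine ⟨by rw [hne, finrank_bot]; exact dvd_zero c, fun k hk => ⟨⊥, bot_le, inv_bot,
        fun x hx _ => (Submodule.mem_bot F).mp hx, ?_⟩⟩
      rw [hne, finrank_bot] at hk
      rw [finrank_bot]; omega
    obtain ⟨Y₀, hY₀, hY₀T, hY₀n, hY₀d⟩ := exists_block halt h hPm hipos hi hself hUT hker hU hne
    rw [← hc] at hY₀d
    have hcpos : 0 < c := by rw [hc]; split_ifs <;> omega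
    obtain ⟨hQn, hinf, hsup, hdim⟩ := split_perpIn h.refl hY₀ hY₀n hU
    obtain ⟨hdvd, hex⟩ := ih (finrank F (perpIn B Y₀ U)) (by omega) (inv_perpIn h hY₀T hUT)
      (perpIn_le.trans hker) hQn rfl
    refine ⟨by rw [← hdim, hY₀d]; exact dvd_add dvd_rfl hdvd, fun k hk => ?_⟩
    rcases k with _ | k
    · exact ⟨⊥, bot_le, inv_bot, fun x hx _ => (Submodule.mem_bot F).mp hx, by simp⟩
    rw [add_mul, one_mul] at hk ⊢
    obtain ⟨Y₁, hY₁, hY₁T, hY₁n, hY₁d⟩ := hex k (by omega)
    refine ⟨Y₀ ⊔ Y₁, sup_le hY₀ (hY₁.trans perpIn_le), hY₀T.sup hY₁T, fun z hz hp => ?_, ?_⟩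
    · obtain ⟨a, ha, b, hb, rfl⟩ := Submodule.mem_sup.mp hz
      have ha0 : a = 0 := hY₀n a ha fun y hy => by
        have h1 := hp y (Submodule.mem_sup_left hy)
        rwa [map_add, LinearMap.add_apply, h.refl y b ((hY₁ hb).2 y hy), add_zero] at h1
      subst ha0
      rw [zero_add] at hp ⊢
      exact hY₁n b hb fun y hy => hp y (Submodule.mem_sup_right hy)
    · have h1 := Submodule.finrank_sup_add_finrank_inf_eq Y₀ Y₁
      rw [le_bot_iff.mp ((inf_le_inf_left _ hY₁).trans hinf.le), finrank_bot, add_zero] at h1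
      omega

end CfsgLib.PrimeIso
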