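/-
Factors of the `r`-th cyclotomic polynomial over a finite field, their roots and their reverses.
-/
import Cfsg.Agent.Lib.MaxSub.Elusive

set_option autoImplicit false
set_option linter.unusedSectionVars false

namespace CfsgLib.PrimeIso

open Polynomial Module CfsgLib.MaxSub.Elusive

variable {F : Type*} [Field F] [Fintype F] {p r : ℕ} [Fact p.Prime] [CharP F p]

theorem card_ne_zero_mod [Fact r.Prime] (hrp : r ≠ p) : (Fintype.card F : ZMod r) ≠ 0 := by
  rw [Ne, ZMod.natCast_eq_zero_iff]
  obtain ⟨k, -, hq⟩ := FiniteField.card F p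
  intro h
  rw [hq] at h
  exact hrp ((Nat.prime_dvd_prime_iff_eq Fact.out (Fact.out : p.Prime)).mp ((Fact.out : r.Prime).dvd_of_dvd_pow h))

theorem order_pos [Fact r.Prime] (hrp : r ≠ p) : 0 < orderOf (Fintype.card F : ZMod r) :=
  orderOf_pos_iff.mpr (isOfFinOrder_iff_isUnit.mpr (Ne.isUnit (card_ne_zero_mod (F := F) hrp)))

theorem order_dvd_pred [Fact r.Prime] (hrp : r ≠ p) : orderOf (Fintype.card F : ZMod r) ∣ r - 1 :=
  ZMod.orderOf_dvd_card_sub_one (card_ne_zero_mod (F := F) hrp)

theorem dvd_pow_sub_one_iff [Fact r.Prime] (m : ℕ) :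
    r ∣ Fintype.card F ^ m - 1 ↔ orderOf (Fintype.card F : ZMod r) ∣ m := by
  rw [orderOf_dvd_iff_pow_eq_one, ← Nat.cast_pow]
  conv_rhs => rw [← Nat.cast_one, ZMod.natCast_eq_natCast_iff]
  exact (Nat.modEq_iff_dvd' (Nat.one_le_pow _ _ Fintype.card_pos)).symm.trans Nat.ModEq.comm

theorem geom_monic (hr : 0 < r) : (geom F r).Monic := Polynomial.monic_geom_sum_X hr.ne'

theorem geom_natDegree (hr : 0 < r) : (geom F r).natDegree = r - 1 := by
  have h := congrArg Polynomial.natDegree (geom_sum_mul (X : F[X]) r)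
  have hX : ((X : F[X]) - 1).Monic := by simpa using monic_X_sub_C (1 : F)
  change (geom F r * (X - 1)).natDegree = _ at h
  rw [(geom_monic hr).natDegree_mul hX, ← Polynomial.C_1, natDegree_X_sub_C, natDegree_X_pow_sub_C] at h
  omega

/-- The monic irreducible factors of the sum of powers. -/
theorem exists_factors [Fact r.Prime] (hrp : r ≠ p) : ∃ g : Fin ((r - 1) / orderOf (Fintype.card F : ZMod r)) → F[X],
    Function.Injective g ∧ (∀ a, Irreducible (g a) ∧ (g a).Monic ∧
      (g a).natDegree = orderOf (Fintype.card F : ZMod r) ∧ g a ∣ geom F r) ∧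
    (Finset.univ.val.map g).prod = geom F r := by
  classical
  have hr : r.Prime := Fact.out
  set i := orderOf (Fintype.card F : ZMod r)
  set P := geom F r
  have hPm : P.Monic := geom_monic hr.pos
  set m := UniqueFactorizationMonoid.normalizedFactors P
  have hsep : P.Separable := by
    refine Polynomial.Separable.of_dvd
      (CfsgLib.GLClassNumber.X_pow_sub_one_sep (F := F) (p := p) hr hrp) ⟨X - 1, ?_⟩
    rw [Polynomial.C_1]; exact (geom_sum_mul X r).symm
  have hnd : m.Nodup := (UniqueFactorizationMonoid.squarefree_iff_nodup_normalizedFactors hPm.ne_zero).mp hsep.squarefree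
  have hmem : ∀ g ∈ m, Irreducible g ∧ g.Monic ∧ g.natDegree = i ∧ g ∣ P := fun g hg => by
    have h1 := UniqueFactorizationMonoid.irreducible_of_normalized_factor g hg
    have h2 : g.Monic := by
      have := UniqueFactorizationMonoid.normalize_normalized_factor g hg
      exact this ▸ Polynomial.monic_normalize h1.ne_zero
    have h3 := UniqueFactorizationMonoid.dvd_of_mem_normalizedFactors hg
    exact ⟨h1, h2, geom_degree (p := p) hr hrp h1 h2 h3, h3⟩
  have hprod : m.prod = P := Polynomial.eq_of_monic_of_associated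
    (Polynomial.monic_multiset_prod_of_monic m id (fun g hg => (hmem g hg).2.1) |> fun e => by simpa using e)
    hPm (UniqueFactorizationMonoid.prod_normalizedFactors hPm.ne_zero)
  let S : Finset F[X] := ⟨m, hnd⟩
  have hcard : S.card = (r - 1) / i := by
    refine (Nat.div_eq_of_eq_mul_left (order_pos (F := F) hrp) ?_).symm
    rw [← geom_natDegree (F := F) hr.pos, show geom F r = P from rfl, ← hprod,
      Polynomial.natDegree_multiset_prod_of_monic _ fun g hg => (hmem g hg).2.1,
      Multiset.map_congr rfl fun g hg => (hmem g hg).2.2.1, Multiset.map_const', Multiset.sum_replicate, smul_eq_mul]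
    rfl
  let e : Fin ((r - 1) / i) ≃ S := (finCongr hcard.symm).trans S.equivFin.symm
  refine ⟨fun a => (e a : F[X]), Subtype.val_injective.comp e.injective, fun a => hmem _ (e a).2, ?_⟩
  rw [show (Finset.univ.val.map fun a => ((e a : S) : F[X])) = m from ?_, hprod]
  show Multiset.map ((fun x : S => (x : F[X])) ∘ e) Finset.univ.val = m
  rw [← Multiset.map_map, Multiset.map_univ_val_equiv]
  exact Multiset.attach_map_val m

theorem aeval_pow_card {K : Type*} [CommRing K] [Algebra F K] (f : F[X]) (a : K) (m : ℕ) :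
    aeval (a ^ Fintype.card F ^ m) f = aeval a f ^ Fintype.card F ^ m := by
  induction m generalizing a with
  | zero => simp
  | succ m ih =>
    rw [pow_succ', pow_mul, ih (a ^ Fintype.card F), ← Polynomial.expand_aeval, FiniteField.expand_card, map_pow,
      ← pow_mul]

/-- In even order the half power is `-1`. -/
theorem half_pow [Fact r.Prime] (hrp : r ≠ p) {h : ℕ} (hi : orderOf (Fintype.card F : ZMod r) = 2 * h) :
    r ∣ Fintype.card F ^ h + 1 := by
  have hpos := order_pos (F := F) (p := p) (r := r) hrp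
  have h1 : (Fintype.card F : ZMod r) ^ h * (Fintype.card F : ZMod r) ^ h = 1 := by
    rw [← pow_add, ← two_mul, ← hi, pow_orderOf_eq_one]
  rcases mul_self_eq_one_iff.mp h1 with h2 | h2
  · have := Nat.le_of_dvd (by omega) (orderOf_dvd_of_pow_eq_one h2)
    omega
  · rw [← ZMod.natCast_eq_zero_iff, Nat.cast_add, Nat.cast_pow, h2, Nat.cast_one, neg_add_cancel]

/-- Factors of even degree are self-reciprocal. -/
theorem dvd_reverse [Fact r.Prime] (hrp : r ≠ p) (he : Even (orderOf (Fintype.card F : ZMod r))) {g : F[X]}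
    (hgi : Irreducible g) (hg : g ∣ geom F r) : g ∣ g.reverse := by
  obtain ⟨h, hh⟩ := he
  have : Fact (Irreducible g) := ⟨hgi⟩
  set a := AdjoinRoot.root g
  have hga : aeval a g = 0 := by rw [AdjoinRoot.aeval_eq, AdjoinRoot.mk_self]
  have har : a ^ r = 1 := by
    obtain ⟨Q, hQ⟩ := hg
    have : aeval a (geom F r * (X - 1)) = 0 := by rw [hQ, map_mul, map_mul, hga, zero_mul, zero_mul]
    rw [geom, geom_sum_mul] at this
    simpa [sub_eq_zero] using this
  set b := a ^ Fintype.card F ^ h
  have hgb : aeval b g = 0 := by rw [aeval_pow_card, hga, zero_pow (pow_ne_zero _ Fintype.card_ne_zero)]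
  have hab : b * a = 1 := by
    obtain ⟨c, hc⟩ := half_pow (F := F) (p := p) (r := r) hrp (h := h) (by omega)
    rw [← pow_succ, hc, pow_mul, har, one_pow]
  rw [← AdjoinRoot.mk_eq_zero, ← AdjoinRoot.aeval_eq]
  let hinv : Invertible b := ⟨a, (mul_comm a b).trans hab, hab⟩
  exact (Polynomial.eval₂_reverse_eq_zero_iff (algebraMap F (AdjoinRoot g)) b g).mpr hgb

omit [Fintype F] in
theorem reverse_coeff (g : F[X]) {j : ℕ} (hj : j ≤ g.natDegree) : g.reverse.coeff (g.natDegree - j) = g.coeff j := by
  rw [Polynomial.coeff_reverse, Polynomial.revAt_le (Nat.sub_le _ _), Nat.sub_sub_self hj]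

end CfsgLib.PrimeIso
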