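/-
Model symplectic isometries of prime order built from commutative algebras with involution.
-/
import Cfsg.Agent.Lib.PrimeIso.Rev
import Cfsg.Agent.Lib.MaxSub.ElusiveSpTwo

set_option autoImplicit false
set_option linter.unusedSectionVars false

namespace CfsgLib.PrimeIso

open Polynomial Module
open scoped Matrix

universe u w

variable {F : Type u} [Field F] [Fintype F]

/-- The plane basis made into standard coordinates. -/
theorem exists_std {V : Type*} [AddCommGroup V] [Module F V] [FiniteDimensional F V] {d : ℕ}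
    (B : V →ₗ[F] V →ₗ[F] F) (halt : ∀ x, B x x = 0) (hnd : ∀ x, (∀ y, B x y = 0) → x = 0)
    (hd : finrank F V = 2 * d) :
    ∃ e : V ≃ₗ[F] (Fin d ⊕ Fin d → F), ∀ x y, Cfsg.sympForm d F (e x) (e y) = B x y := by
  classical
  let e₀ : V ≃ₗ[F] (Fin (2 * d) → F) := LinearEquiv.ofFinrankEq V _ (by rw [hd, Module.finrank_fin_fun])
  let f : (Fin (2 * d) → F) → (Fin (2 * d) → F) → F := fun u v => B (e₀.symm u) (e₀.symm v)
  have hswap : ∀ x y, B y x = - B x y := fun x y => by
    have := halt (x + y)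
    simp only [map_add, LinearMap.add_apply, halt, zero_add, add_zero] at this
    linear_combination this
  have hf : Cfsg.Geo.IsSymplecticForm f := by
    refine ⟨⟨fun x y v => by simp [f], fun c x v => by simp [f], fun v x y => by simp [f],
      fun c v x => by simp [f]⟩, fun v w => hswap _ _, fun v => halt _, fun v hv => ?_⟩
    have h2 : ∃ y, B (e₀.symm v) y ≠ 0 := by
      by_contra hc
      push Not at hc
      exact hv (e₀.symm.map_eq_zero_iff.mp (hnd _ hc))
    obtain ⟨y, hy⟩ := h2
    refine ⟨⟨e₀ y, ?_⟩, ⟨e₀ y, by simpa [f] using hy⟩⟩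
    simp only [f, LinearEquiv.symm_apply_apply]
    rw [hswap (e₀.symm v) y, neg_ne_zero]
    exact hy
  obtain ⟨S, hS1, hS2⟩ := CfsgLib.MaxSub.Elusive.exists_plane_basis hf (d := d) rfl
  let π : Fin d × Fin 2 ≃ Fin d ⊕ Fin d :=
    { toFun := fun x => if x.2 = 0 then Sum.inr x.1 else Sum.inl x.1
      invFun := Sum.elim (fun j => (j, 1)) (fun j => (j, 0))
      left_inv := fun x => by obtain ⟨j, a⟩ := x; fin_cases a <;> simp
      right_inv := fun x => by cases x <;> simp }
  let b : Basis (Fin d ⊕ Fin d) F V := (S.reindex π).map e₀.symm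
  refine ⟨b.equivFun, fun x y => ?_⟩
  have key : LinearMap.compl₁₂ (CfsgLib.IsotropicCount.sympB d F) b.equivFun.toLinearMap b.equivFun.toLinearMap = B := by
    refine b.ext fun i => b.ext fun j => ?_
    rw [LinearMap.compl₁₂_apply]
    simp only [LinearEquiv.coe_coe]
    rw [CfsgLib.IsotropicCount.sympB_apply]
    have hB : B (b i) (b j) = f (S (π.symm i)) (S (π.symm j)) := by
      simp [b, f]
    have he : ∀ i, b.equivFun (b i) = Pi.single i 1 := fun i => funext fun k => by
      simp [Pi.single_apply, eq_comm]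
    rw [hB, he, he, Cfsg.sympForm, Matrix.mulVec_single_one, single_dotProduct, one_mul]
    have hs : ∀ k, f (S (k, 1)) (S (k, 0)) = -1 := fun k => by rw [hf.skew, hS1]
    rcases i with a | a <;> rcases j with c | c <;>
      simp only [π, Equiv.coe_fn_symm_mk, Sum.elim_inl, Sum.elim_inr] <;>
      rcases eq_or_ne a c with rfl | hac <;>
      simp [Matrix.J, hf.alternating, *]
  have := LinearMap.congr_fun (LinearMap.congr_fun key x) y
  rwa [LinearMap.compl₁₂_apply, CfsgLib.IsotropicCount.sympB_apply] at this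

/-- The data of a model block. -/
structure Block (F : Type u) [Field F] (A : Type w) [CommRing A] [Algebra F A] where
  inv : A →ₐ[F] A
  fn : A →ₗ[F] F
  inv_inv : ∀ a, inv (inv a) = a
  fn_inv : ∀ a, fn (inv a) = -fn a
  fn_self : ∀ a, fn (a * inv a) = 0
  fn_nondeg : ∀ a, a ≠ 0 → ∃ b, fn (a * b) ≠ 0

/-- The model isometry with the prescribed kernels. -/
theorem exists_element {A : Type w} [CommRing A] [Algebra F A] [FiniteDimensional F A] (𝔅 : Block F A)
    {r d T k : ℕ} (z : Fin T → A) (hz : ∀ j, 𝔅.inv (z j) * z j = 1) (hr : ∀ j, z j ^ r = 1)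
    (hd : 2 * d = T * finrank F A + 2 * k) :
    ∃ x : Matrix.symplecticGroup (Fin d) F, x ^ r = 1 ∧
      ∀ g : F[X],
        (g.eval 1 ≠ 0 → finrank F (LinearMap.ker (aeval (Matrix.toLin' (x : Matrix (Fin d ⊕ Fin d) (Fin d ⊕ Fin d) F)) g)) =
          ∑ j, finrank F (LinearMap.ker (LinearMap.mulLeft F (aeval (z j) g)))) ∧
        (g.eval 1 = 0 → finrank F (LinearMap.ker (aeval (Matrix.toLin' (x : Matrix (Fin d ⊕ Fin d) (Fin d ⊕ Fin d) F)) g)) =
          (∑ j, finrank F (LinearMap.ker (LinearMap.mulLeft F (aeval (z j) g)))) + 2 * k) := by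
  classical
  let β : A →ₗ[F] A →ₗ[F] F := ((LinearMap.mul F A).compl₂ 𝔅.inv.toLinearMap).compr₂ 𝔅.fn
  have hβ : ∀ a c, β a c = 𝔅.fn (a * 𝔅.inv c) := fun a c => rfl
  let B : ((Fin T → A) × (Fin k ⊕ Fin k → F)) →ₗ[F] ((Fin T → A) × (Fin k ⊕ Fin k → F)) →ₗ[F] F :=
    (∑ j : Fin T, LinearMap.compl₁₂ β ((LinearMap.proj j).comp (LinearMap.fst F _ _))
      ((LinearMap.proj j).comp (LinearMap.fst F _ _))) +
    LinearMap.compl₁₂ (CfsgLib.IsotropicCount.sympB k F) (LinearMap.snd F _ _) (LinearMap.snd F _ _)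
  have hB : ∀ u v : ((Fin T → A) × (Fin k ⊕ Fin k → F)), B u v = (∑ j, 𝔅.fn (u.1 j * 𝔅.inv (v.1 j))) + Cfsg.sympForm k F u.2 v.2 := fun u v => by
    simp [B, hβ, LinearMap.sum_apply, CfsgLib.IsotropicCount.sympB_apply]
  have hsym0 : ∀ u, Cfsg.sympForm k F 0 u = 0 := fun u => by
    rw [← CfsgLib.IsotropicCount.sympB_apply, map_zero, LinearMap.zero_apply]
  have halt : ∀ u, B u u = 0 := fun u => by
    rw [hB, Finset.sum_eq_zero fun j _ => 𝔅.fn_self _, zero_add, ← CfsgLib.IsotropicCount.sympB_apply,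
      CfsgLib.IsotropicCount.sympB_alt]
  have hnd : ∀ u, (∀ v, B u v = 0) → u = 0 := fun u hu => by
    refine Prod.ext (funext fun j => ?_) ?_
    · by_contra h0
      obtain ⟨c, hc⟩ := 𝔅.fn_nondeg _ h0
      have := hu (Pi.single j (𝔅.inv c), 0)
      rw [hB, Finset.sum_eq_single j (fun i _ hi => by simp [Pi.single_eq_of_ne hi])
        (fun h => absurd (Finset.mem_univ j) h)] at this
      simp only [Pi.single_eq_same, 𝔅.inv_inv] at this
      rw [show Cfsg.sympForm k F u.2 0 = 0 by rw [← CfsgLib.IsotropicCount.sympB_apply, map_zero], add_zero] at this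
      exact hc this
    · refine CfsgLib.IsotropicCount.sympB_nondeg.1 _ fun v => ?_
      rw [CfsgLib.IsotropicCount.sympB_apply]
      simpa [hB] using hu (0, v)
  have hrank : finrank F ((Fin T → A) × (Fin k ⊕ Fin k → F)) = 2 * d := by
    rw [Module.finrank_prod, Module.finrank_pi_fintype, Module.finrank_pi, Fintype.card_sum, Fintype.card_fin,
      Finset.sum_const, Finset.card_univ, Fintype.card_fin, smul_eq_mul, hd]
    omega
  obtain ⟨e, he⟩ := exists_std B halt hnd hrank
  let X : Module.End F ((Fin T → A) × (Fin k ⊕ Fin k → F)) :=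
    (LinearMap.pi fun j => (LinearMap.mulLeft F (z j)).comp (LinearMap.proj j)).prodMap LinearMap.id
  have hXa : ∀ v, X v = (fun j => z j * v.1 j, v.2) := fun v => rfl
  have hXpow : ∀ (n : ℕ) (v : ((Fin T → A) × (Fin k ⊕ Fin k → F))), (X ^ n) v = (fun j => z j ^ n * v.1 j, v.2) := by
    intro n
    induction n with
    | zero => intro v; simp
    | succ n ih =>
      intro v
      rw [pow_succ, Module.End.mul_apply, ih, hXa]
      simp [pow_succ, mul_assoc]
  have hXB : ∀ u v, B (X u) (X v) = B u v := fun u v => by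
    rw [hB, hB]
    simp only [hXa, map_mul]
    congr 1
    refine Finset.sum_congr rfl fun j _ => congrArg _ ?_
    linear_combination (u.1 j * 𝔅.inv (v.1 j)) * hz j
  have haev : ∀ (g : F[X]) (v : ((Fin T → A) × (Fin k ⊕ Fin k → F))), aeval X g v = (fun j => aeval (z j) g * v.1 j, g.eval 1 • v.2) := by
    intro g v
    rw [aeval_eq_sum_range, LinearMap.sum_apply]
    refine Prod.ext (funext fun j => ?_) ?_
    · simp [Prod.fst_sum, hXpow, aeval_eq_sum_range, Finset.sum_apply, Finset.sum_mul]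
    · simp [Prod.snd_sum, hXpow, Polynomial.eval_eq_sum_range, Finset.sum_smul]
  set M := LinearMap.toMatrix' ((e.toLinearMap.comp X).comp e.symm.toLinearMap) with hMdef
  have hM : ∀ u, M *ᵥ u = e (X (e.symm u)) := fun u => LinearMap.toMatrix'_mulVec _ _
  have hMB : ∀ u v, Cfsg.sympForm d F (M *ᵥ u) (M *ᵥ v) = Cfsg.sympForm d F u v := fun u v => by
    rw [hM, hM, he, hXB, ← he, e.apply_symm_apply, e.apply_symm_apply]
  have hmem : M ∈ Matrix.symplecticGroup (Fin d) F := by
    refine SymplecticGroup.mem_iff'.mpr (Matrix.ext fun i j => ?_)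
    have h := hMB (Pi.single i 1) (Pi.single j 1)
    rw [Cfsg.sympForm, Cfsg.sympForm, Matrix.mulVec_mulVec, Matrix.dotProduct_mulVec, ← Matrix.vecMul_transpose,
      Matrix.vecMul_vecMul, ← Matrix.dotProduct_mulVec, Matrix.mulVec_single_one, single_dotProduct, one_mul,
      Matrix.mulVec_single_one, single_dotProduct, one_mul] at h
    rw [Matrix.mul_assoc]
    exact h
  have hlin : Matrix.toLin' M = e.conjAlgEquiv F X := by
    refine LinearMap.ext fun u => ?_
    rw [Matrix.toLin'_apply, hM, LinearEquiv.conjAlgEquiv_apply]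
    rfl
  refine ⟨⟨M, hmem⟩, Subtype.ext ?_, fun g => ?_⟩
  · have hX1 : X ^ r = 1 := LinearMap.ext fun v => by rw [hXpow]; simp [hr]
    apply Matrix.toLinAlgEquiv'.injective
    show Matrix.toLinAlgEquiv' (M ^ r) = Matrix.toLinAlgEquiv' 1
    rw [map_pow, map_one, show Matrix.toLinAlgEquiv' M = e.conjAlgEquiv F X from hlin, ← map_pow, hX1, map_one]
  · have hker : finrank F (LinearMap.ker (aeval (Matrix.toLin' M) g)) = finrank F (LinearMap.ker (aeval X g)) := by
      rw [hlin, Polynomial.aeval_algHom_apply (e.conjAlgEquiv F) X g]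
      have : LinearMap.ker (e.conjAlgEquiv F (aeval X g)) = (LinearMap.ker (aeval X g)).map e.toLinearMap := by
        ext v
        rw [Submodule.mem_map_equiv, LinearMap.mem_ker, LinearMap.mem_ker, LinearEquiv.conjAlgEquiv_apply]
        simp
      rw [this, LinearEquiv.finrank_map_eq]
    let E : LinearMap.ker (aeval X g) ≃ₗ[F]
        ((∀ j, LinearMap.ker (LinearMap.mulLeft F (aeval (z j) g))) ×
          LinearMap.ker ((g.eval 1) • (LinearMap.id : (Fin k ⊕ Fin k → F) →ₗ[F] _))) :=
      { toFun := fun v =>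
          (fun j => ⟨v.1.1 j, by
            have := v.2; rw [LinearMap.mem_ker, haev] at this
            exact congrFun (congrArg Prod.fst this) j⟩,
           ⟨v.1.2, by
            have := v.2; rw [LinearMap.mem_ker, haev] at this
            exact congrArg Prod.snd this⟩)
        invFun := fun v => ⟨(fun j => (v.1 j : A), (v.2 : Fin k ⊕ Fin k → F)), by
          rw [LinearMap.mem_ker, haev]
          exact Prod.ext (funext fun j => (v.1 j).2) v.2.2⟩
        map_add' := fun _ _ => rfl
        map_smul' := fun _ _ => rfl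
        left_inv := fun _ => rfl
        right_inv := fun _ => rfl }
    rw [hker, E.finrank_eq, Module.finrank_prod, Module.finrank_pi_fintype]
    constructor <;> intro hg
    · have : LinearMap.ker ((g.eval 1) • (LinearMap.id : (Fin k ⊕ Fin k → F) →ₗ[F] _)) = ⊥ := by
        rw [LinearMap.ker_smul _ _ hg, LinearMap.ker_id]
      rw [this, finrank_bot, add_zero]
    · rw [hg, zero_smul, LinearMap.ker_zero, finrank_top, Module.finrank_pi, Fintype.card_sum, Fintype.card_fin,
        two_mul]

/-- The paired block. -/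
theorem exists_swap_block {p r i : ℕ} [Fact p.Prime] [CharP F p] [Fact r.Prime] (hrp : r ≠ p)
    (hi : orderOf (Fintype.card F : ZMod r) = i) :
    ∃ (A : Type) (_ : CommRing A) (_ : Algebra F A) (_ : FiniteDimensional F A) (𝔅 : Block F A) (z : A),
      finrank F A = 2 * i ∧ 𝔅.inv z * z = 1 ∧ z ^ r = 1 ∧ IsUnit (z - 1) := by
  classical
  have : NeZero i := ⟨(hi ▸ order_pos (F := F) hrp).ne'⟩
  let E := FiniteField.Extension F p i
  have : Fintype E := Fintype.ofFinite E
  obtain ⟨ζ, hζ⟩ : ∃ ζ : Eˣ, orderOf ζ = r := by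
    refine exists_prime_orderOf_dvd_card' r ?_
    rw [Nat.card_units, FiniteField.natCard_extension, Nat.card_eq_fintype_card, dvd_pow_sub_one_iff, hi]
  obtain ⟨fn, hfn⟩ : ∃ fn : E →ₗ[F] F, fn 1 ≠ 0 := by
    by_contra hc
    push Not at hc
    exact one_ne_zero ((Module.forall_dual_apply_eq_zero_iff F (1 : E)).mp hc)
  refine ⟨E × E, inferInstance, inferInstance, inferInstance,
    { inv := (AlgHom.snd F E E).prod (AlgHom.fst F E E)
      fn := fn.comp (LinearMap.fst F E E) - fn.comp (LinearMap.snd F E E)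
      inv_inv := fun a => rfl
      fn_inv := fun a => by simp
      fn_self := fun a => by simp [mul_comm]
      fn_nondeg := fun a ha => ?_ }, ((ζ : E), ((ζ⁻¹ : Eˣ) : E)), ?_, ?_, ?_, ?_⟩
  · by_cases h1 : a.1 = 0
    · have h2 : a.2 ≠ 0 := fun h => ha (Prod.ext h1 h)
      exact ⟨(0, a.2⁻¹), by simp [h1, mul_inv_cancel₀ h2, hfn]⟩
    · exact ⟨(a.1⁻¹, 0), by simp [mul_inv_cancel₀ h1, hfn]⟩
  · rw [Module.finrank_prod, FiniteField.finrank_extension, two_mul]
  · show ((((ζ⁻¹ : Eˣ) : E)), (ζ : E)) * ((ζ : E), ((ζ⁻¹ : Eˣ) : E)) = 1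
    simp
  · have hp := pow_orderOf_eq_one ζ
    rw [hζ] at hp
    refine Prod.ext ?_ ?_ <;> simp [← Units.val_pow_eq_pow_val, inv_pow, hp]
  · have hne : ∀ η : Eˣ, orderOf η = r → (η : E) - 1 ≠ 0 := fun η hη h => by
      rw [sub_eq_zero, Units.val_eq_one] at h
      rw [h, orderOf_one] at hη
      exact (Fact.out : r.Prime).one_lt.ne hη
    rw [Prod.isUnit_iff]
    exact ⟨(hne ζ hζ).isUnit, (hne ζ⁻¹ (by rw [orderOf_inv, hζ])).isUnit⟩

/-- The field block with roots of all factors. -/
theorem exists_field_block {p r h : ℕ} [Fact p.Prime] [CharP F p] [Fact r.Prime] (hrp : r ≠ p)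
    (hi : orderOf (Fintype.card F : ZMod r) = 2 * h) :
    ∃ (A : Type) (_ : Field A) (_ : Algebra F A) (_ : FiniteDimensional F A) (𝔅 : Block F A),
      finrank F A = 2 * h ∧
      ∀ g : F[X], Irreducible g → g.Monic → g ∣ CfsgLib.MaxSub.Elusive.geom F r →
        ∃ z : A, aeval z g = 0 ∧ 𝔅.inv z * z = 1 ∧ z ^ r = 1 ∧ z ≠ 1 := by
  classical
  have hr : r.Prime := Fact.out
  have hh : 0 < h := by have := order_pos (F := F) (p := p) (r := r) hrp; omega
  have : NeZero (2 * h) := ⟨by omega⟩
  let E := FiniteField.Extension F p (2 * h)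
  have : Fintype E := Fintype.ofFinite E
  let σ := FiniteField.Extension.frob F p (2 * h) ^ h
  have hσ : ∀ a : E, σ a = a ^ Fintype.card F ^ h := fun a => by
    rw [FiniteField.Extension.frob_iterate_apply, Nat.card_eq_fintype_card]
  have hfr : ∀ a : E, a ^ Fintype.card F ^ (2 * h) = a := fun a => by
    have h1 := FiniteField.pow_card a
    rwa [← Nat.card_eq_fintype_card, FiniteField.natCard_extension, Nat.card_eq_fintype_card] at h1
  have hσσ : ∀ a : E, σ (σ a) = a := fun a => by
    rw [hσ, hσ, ← pow_mul, ← pow_add, ← two_mul, hfr]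
  obtain ⟨ζ, hζ⟩ : ∃ ζ : Eˣ, orderOf ζ = r := by
    refine exists_prime_orderOf_dvd_card' r ?_
    rw [Nat.card_units, FiniteField.natCard_extension, Nat.card_eq_fintype_card, dvd_pow_sub_one_iff, hi]
  obtain ⟨c, hc⟩ := half_pow (F := F) (p := p) (r := r) hrp hi
  have hroot : ∀ z : E, z ^ r = 1 → σ z * z = 1 := fun z hz => by
    rw [hσ, ← pow_succ, hc, pow_mul, hz, one_pow]
  have hζr : (ζ : E) ^ r = 1 := by
    have hp := pow_orderOf_eq_one ζ
    rw [hζ] at hp
    rw [← Units.val_pow_eq_pow_val, hp, Units.val_one]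
  have hne : (ζ : E) ≠ 1 := fun h1 => by
    rw [Units.val_eq_one] at h1
    rw [h1, orderOf_one] at hζ
    exact hr.one_lt.ne hζ
  obtain ⟨fn, hfn⟩ : ∃ fn : E →ₗ[F] F, fn (σ (ζ : E) - ζ) ≠ 0 := by
    by_contra hc'
    push Not at hc'
    have h0 := (Module.forall_dual_apply_eq_zero_iff F (σ (ζ : E) - ζ)).mp hc'
    rw [sub_eq_zero] at h0
    have h1 := hroot _ hζr
    rw [h0] at h1
    rcases mul_self_eq_one_iff.mp h1 with h2 | h2
    · exact hne h2
    · have h3 := hζr
      rw [h2, neg_pow, one_pow, mul_one] at h3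
      rcases hr.eq_two_or_odd' with h4 | h4
      · subst h4
        have h5 : Fintype.card F % 2 = 1 := by
          have h6 := card_ne_zero_mod (F := F) (p := p) (r := 2) hrp
          rw [Ne, ZMod.natCast_eq_zero_iff, Nat.dvd_iff_mod_eq_zero] at h6
          omega
        have : (Fintype.card F : ZMod 2) = 1 := by
          rw [← Nat.cast_one, ZMod.natCast_eq_natCast_iff]
          exact h5
        rw [this, orderOf_one] at hi
        omega
      · rw [h4.neg_one_pow] at h3
        exact hne (by rw [h2]; exact h3)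
  refine ⟨E, inferInstance, inferInstance, inferInstance,
    { inv := σ.toAlgHom
      fn := fn - fn.comp σ.toAlgHom.toLinearMap
      inv_inv := hσσ
      fn_inv := fun a => ?_
      fn_self := fun a => ?_
      fn_nondeg := fun a ha => ⟨a⁻¹ * (σ (ζ : E) - ζ) * 0 + a⁻¹ * (ζ : E), ?_⟩ }, ?_, fun g hgi hgm hg => ?_⟩
  · simp [hσσ]
  · show fn (a * σ a) - fn (σ (a * σ a)) = 0
    rw [show σ (a * σ a) = a * σ a from (map_mul σ a (σ a)).trans (by rw [hσσ]; exact mul_comm _ _), sub_self]
  · rw [mul_zero, zero_add, mul_inv_cancel_left₀ ha]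
    show fn (ζ : E) - fn (σ (ζ : E)) ≠ 0
    rw [← map_sub, ← neg_sub, map_neg, neg_ne_zero]
    exact hfn
  · exact FiniteField.finrank_extension F p (2 * h)
  · have hprim : IsPrimitiveRoot (ζ : E) r := by
      rw [IsPrimitiveRoot.coe_units_iff, ← hζ]
      exact IsPrimitiveRoot.orderOf ζ
    have hsp : ((X : F[X]) ^ r - 1).map (algebraMap F E) |>.Splits := by
      rw [Polynomial.map_sub, Polynomial.map_pow, Polynomial.map_X, Polynomial.map_one, ← Polynomial.C_1]
      exact Polynomial.X_pow_sub_one_splits hprim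
    have hdvd : g ∣ (X : F[X]) ^ r - 1 := by
      rw [← geom_sum_mul]
      exact dvd_mul_of_dvd_left hg _
    have hne' : ((X : F[X]) ^ r - 1).map (algebraMap F E) ≠ 0 :=
      (Polynomial.map_ne_zero_iff (algebraMap F E).injective).mpr (by
        rw [← Polynomial.C_1]; exact Polynomial.X_pow_sub_C_ne_zero hr.pos 1)
    obtain ⟨z, hz⟩ := Polynomial.Splits.exists_eval_eq_zero (hsp.of_dvd hne' (Polynomial.map_dvd _ hdvd))
      (by rw [Polynomial.degree_map]; exact (Polynomial.degree_pos_of_irreducible hgi).ne')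
    rw [Polynomial.eval_map, ← Polynomial.aeval_def] at hz
    obtain ⟨Q, hQ⟩ := hdvd
    have hzr : z ^ r = 1 := by
      have := congrArg (aeval z) hQ
      rw [map_mul, hz, zero_mul] at this
      simpa [sub_eq_zero] using this
    refine ⟨z, hz, hroot z hzr, hzr, fun h1 => ?_⟩
    obtain ⟨R, hR⟩ := hg
    have := congrArg (aeval z) hR
    rw [map_mul, hz, zero_mul, h1] at this
    have hne1 := CfsgLib.GLClassNumber.natCast_ne_zero_of_prime_ne (F := F) (p := p) hr hrp
    refine hne1 ((algebraMap F E).injective ?_)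
    simpa [CfsgLib.MaxSub.Elusive.geom] using this

end CfsgLib.PrimeIso
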