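/-
Elements of prime order of the symplectic group on totally isotropic subspaces.
-/
import Cfsg.Agent.Lib.PrimeIso.Alt
import Cfsg.Agent.Lib.PrimeIso.Models

set_option autoImplicit false
set_option linter.unusedSectionVars false

namespace CfsgLib.PrimeIso

open Polynomial Module CfsgLib.MaxSub.Elusive
open scoped Matrix

universe u

variable {F : Type u} [Field F] [Fintype F] {p r d : ℕ} [Fact p.Prime] [CharP F p]

theorem perIso_of_symp {N : ℕ} (hN : (N : F) ≠ 0) (x : Matrix.symplecticGroup (Fin d) F)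
    (hx : (x : Matrix (Fin d ⊕ Fin d) (Fin d ⊕ Fin d) F) ^ N = 1) :
    PerIso (CfsgLib.IsotropicCount.sympB d F) (Matrix.toLin' (x : Matrix (Fin d ⊕ Fin d) (Fin d ⊕ Fin d) F)) N where
  refl := alt_refl CfsgLib.IsotropicCount.sympB_alt
  iso := fun u v => by
    rw [CfsgLib.IsotropicCount.sympB_apply, CfsgLib.IsotropicCount.sympB_apply, Matrix.toLin'_apply,
      Matrix.toLin'_apply]
    exact CfsgLib.IsotropicCount.symp_preserves x u v
  per := by
    have : Matrix.toLinAlgEquiv' ((x : Matrix (Fin d ⊕ Fin d) (Fin d ⊕ Fin d) F) ^ N) = 1 := by rw [hx, map_one]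
    rwa [map_pow] at this
  unit := hN

theorem symp_scalar_sq (hd : 0 < d) (x : Matrix.symplecticGroup (Fin d) F) {z : F}
    (hz : (x : Matrix (Fin d ⊕ Fin d) (Fin d ⊕ Fin d) F) = z • 1) : z * z = 1 := by
  let j : Fin d := ⟨0, hd⟩
  have h := CfsgLib.IsotropicCount.symp_preserves x (Pi.single (Sum.inr j) 1) (Pi.single (Sum.inl j) 1)
  change Cfsg.sympForm d F ((x : Matrix (Fin d ⊕ Fin d) (Fin d ⊕ Fin d) F) *ᵥ _)
    ((x : Matrix (Fin d ⊕ Fin d) (Fin d ⊕ Fin d) F) *ᵥ _) = _ at h
  rw [hz, Matrix.smul_mulVec, Matrix.one_mulVec, Matrix.smul_mulVec, Matrix.one_mulVec,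
    ← CfsgLib.IsotropicCount.sympB_apply, map_smul, map_smul, LinearMap.smul_apply,
    CfsgLib.IsotropicCount.sympB_apply, Cfsg.sympForm, Matrix.mulVec_single_one, single_dotProduct] at h
  simpa [Matrix.J, smul_eq_mul] using h

/-- The kernel of the sum of powers and the fixed space are non-degenerate. -/
theorem nondeg_parts {T : Module.End F (Fin d ⊕ Fin d → F)} (hr : 0 < r)
    (h : PerIso (CfsgLib.IsotropicCount.sympB d F) T r) :
    (∀ x ∈ LinearMap.ker (aeval T (geom F r)), (∀ y ∈ LinearMap.ker (aeval T (geom F r)),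
      CfsgLib.IsotropicCount.sympB d F x y = 0) → x = 0) ∧
    (∀ x ∈ LinearMap.ker (aeval T (X - C (1 : F))), (∀ y ∈ LinearMap.ker (aeval T (X - C (1 : F))),
      CfsgLib.IsotropicCount.sympB d F x y = 0) → x = 0) := by
  have hB := (CfsgLib.IsotropicCount.sympB_nondeg (m := d) (F := F)).1
  refine ⟨fun x hx hp => ker_nondeg hB h (R := geom F r) dvd_rfl le_rfl (fun j hj => ?_) hx hp,
    fun x hx hp => ker_nondeg hB h (R := -(X - C (1 : F))) ((dvd_neg).mpr dvd_rfl)
      (le_of_eq (natDegree_neg _)) (fun j hj => ?_) hx hp⟩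
  · have hc : ∀ l, l < r → (geom F r).coeff l = 1 := fun l hl => by simp [geom, coeff_X_pow, hl]
    rw [geom_natDegree hr] at hj ⊢
    rw [hc _ (by omega), hc _ (by omega), map_one]
  · rw [natDegree_X_sub_C] at hj ⊢
    interval_cases j <;> simp [coeff_one, coeff_X]

/-- The arithmetic of the positive direction. -/
theorem pick {n m i t f R : ℕ} (hi : 0 < i) (hn : f + R = n) (hmn : 2 * m ≤ n) (hiR : i ∣ R)
    (hcond : 2 * (m % i) ≤ n % (if Even i then i else 2 * i) ∧ (Odd i ∨ t + 2 * (m / i) ≤ n / i))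
    (hodd : Odd i → 2 * i ∣ R) :
    ∃ k, (k = 0 ∨ 2 * (k * i) + (if Even i then t * i else 0) < R + 2 * i) ∧ k * i ≤ m ∧
      2 * (m - k * i) ≤ f := by
  obtain ⟨hl, ht⟩ := hcond
  have hm := Nat.div_add_mod' m i
  rcases Nat.even_or_odd i with he | ho
  · simp only [if_pos he] at hl ⊢
    replace ht := ht.resolve_left (Nat.not_odd_iff_even.mpr he)
    obtain ⟨e, rfl⟩ := hiR
    have hni := Nat.div_add_mod' n i
    have hf : n % i ≤ f := by
      rw [← hn, Nat.add_mul_mod_self_left]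
      exact Nat.mod_le _ _
    by_cases hk : 2 * (m / i) + t < e + 2
    · refine ⟨m / i, Or.inr ?_, Nat.div_mul_le_self m i, by omega⟩
      calc 2 * (m / i * i) + t * i = (2 * (m / i) + t) * i := by ring
        _ < (e + 2) * i := Nat.mul_lt_mul_of_pos_right hk hi
        _ = i * e + 2 * i := by ring
    · set K := (e + 1 - t) / 2 with hK
      refine ⟨K, ?_, (Nat.mul_le_mul_right i (by omega : K ≤ m / i)).trans (Nat.div_mul_le_self m i), ?_⟩
      · rcases Nat.eq_zero_or_pos K with h0 | h0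
        · exact Or.inl h0
        refine Or.inr ?_
        calc 2 * (K * i) + t * i = (2 * K + t) * i := by ring
          _ < (e + 2) * i := Nat.mul_lt_mul_of_pos_right (by omega) hi
          _ = i * e + 2 * i := by ring
      · have h1 : (2 * (m / i) + e) * i ≤ (n / i + 2 * K) * i := Nat.mul_le_mul_right i (by omega)
        have h2 : (2 * (m / i) + e) * i = 2 * (m / i * i) + i * e := by ring
        have h3 : (n / i + 2 * K) * i = n / i * i + 2 * (K * i) := by ring
        omega
  · simp only [if_neg (Nat.not_even_iff_odd.mpr ho)] at hl ⊢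
    obtain ⟨a, rfl⟩ := hodd ho
    have hf : n % (2 * i) ≤ f := by
      rw [← hn, Nat.add_mul_mod_self_left]
      exact Nat.mod_le _ _
    have hni := Nat.div_add_mod' n (2 * i)
    refine ⟨min a (m / i), Or.inr ?_, (Nat.mul_le_mul_right i (min_le_right _ _)).trans (Nat.div_mul_le_self m i), ?_⟩
    · have := Nat.mul_le_mul_right i (min_le_left a (m / i))
      have e1 : 2 * i * a = 2 * (a * i) := by ring
      omega
    · rcases le_total a (m / i) with h | h
      · rw [min_eq_left h]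
        have e1 : 2 * i * a = 2 * (a * i) := by ring
        by_contra hc
        have h1 : m / i * i ≤ m := Nat.div_mul_le_self m i
        omega
      · rw [min_eq_right h]
        omega

/-- Every element of order `r` fixes a totally isotropic `m`-space. -/
theorem exists_fixed [Fact r.Prime] (hrp : r ≠ p) (x : Matrix.symplecticGroup (Fin d) F)
    (hx : (x : Matrix (Fin d ⊕ Fin d) (Fin d ⊕ Fin d) F) ^ r = 1) {m i : ℕ}
    (hi : i = orderOf (Fintype.card F : ZMod r)) (hmd : m ≤ d)
    (hcond : 2 * (m % i) ≤ (2 * d) % (if Even i then i else 2 * i) ∧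
      (Odd i ∨ (r - 1) / i + 2 * (m / i) ≤ (2 * d) / i)) :
    ∃ W : Submodule F (Fin d ⊕ Fin d → F), finrank F ↥W = m ∧ (∀ u ∈ W, ∀ v ∈ W, Cfsg.sympForm d F u v = 0) ∧
      W.map (Matrix.toLin' (x : Matrix (Fin d ⊕ Fin d) (Fin d ⊕ Fin d) F)) ≤ W := by
  classical
  have hr : r.Prime := Fact.out
  set T := Matrix.toLin' (x : Matrix (Fin d ⊕ Fin d) (Fin d ⊕ Fin d) F)
  have h : PerIso (CfsgLib.IsotropicCount.sympB d F) T r :=
    perIso_of_symp (CfsgLib.GLClassNumber.natCast_ne_zero_of_prime_ne (p := p) hr hrp) x hx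
  have halt := CfsgLib.IsotropicCount.sympB_alt (m := d) (F := F)
  set R₀ := LinearMap.ker (aeval T (geom F r))
  set F₀ := LinearMap.ker (aeval T (X - C (1 : F)))
  have hdegR : ∀ g : F[X], Irreducible g → g.Monic → g ∣ geom F r → g.natDegree = i := fun g h1 h2 h3 =>
    hi ▸ geom_degree (p := p) hr hrp h1 h2 h3
  have hipos : 0 < i := hi ▸ order_pos (F := F) hrp
  have hidvd : i ∣ r - 1 := hi ▸ order_dvd_pred (F := F) hrp
  have hsum : finrank F F₀ + finrank F R₀ = 2 * d := by
    have hs := finrank_split (W := ⊤) h inv_top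
    rw [top_inf_eq, top_inf_eq, finrank_top, Module.finrank_pi, Fintype.card_sum, Fintype.card_fin] at hs
    exact hs.trans (two_mul d).symm
  have hiR : i ∣ finrank F R₀ := (dims_of_ker hdegR (inv_ker _) le_rfl).1
  have hslack : slack (geom F r) i = if Even i then (r - 1) / i * i else 0 := by
    rw [slack, geom_natDegree hr.pos, Nat.div_mul_cancel hidvd]
  have hodd : Odd i → 2 * i ∣ finrank F R₀ := fun ho => by
    obtain ⟨e, he⟩ := hiR
    rcases Nat.even_or_odd e with ⟨a, rfl⟩ | ⟨a, ha⟩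
    · exact ⟨a, by rw [he]; ring⟩
    exfalso
    obtain ⟨W, hW, -, hWts, hWd⟩ := exists_ts halt h (geom_monic hr.pos) hdegR (inv_ker _) le_rfl (k := a + 1)
      (Or.inr (by
        rw [slack, if_neg (Nat.not_even_iff_odd.mpr ho), he, ha]
        have e1 : i * (2 * a + 1) = 2 * (a * i) + i := by ring
        have e2 : (a + 1) * i = a * i + i := by ring
        omega))
    have := two_mul_finrank_le hW hWts (nondeg_parts hr.pos h).1
    rw [hWd, he, ha] at this
    have e1 : i * (2 * a + 1) = 2 * (a * i) + i := by ring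
    have e2 : (a + 1) * i = a * i + i := by ring
    omega
  obtain ⟨k, hk1, hk2, hk3⟩ := pick hipos hsum (by omega) hiR hcond hodd
  obtain ⟨W₁, hW₁, hW₁T, hW₁ts, hW₁d⟩ := exists_ts halt h (geom_monic hr.pos) hdegR (inv_ker _) le_rfl
    (k := k) (by rw [hslack]; exact hk1)
  obtain ⟨W₂, hW₂, hW₂T, hW₂ts, hW₂d⟩ := exists_ts halt h (monic_X_sub_C (1 : F)) (i := 1)
    (fun g h1 h2 h3 => by
      rw [eq_of_monic_of_associated h2 (monic_X_sub_C 1) (h1.associated_of_dvd (irreducible_X_sub_C 1) h3),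
        natDegree_X_sub_C]) (inv_ker (T := T) (X - C (1 : F))) le_rfl (k := m - k * i)
    (Or.inr (by rw [slack, if_neg (by decide)]; change _ < finrank F F₀ + _; omega))
  refine ⟨W₂ ⊔ W₁, ?_, fun u hu v hv => ?_, ?_⟩
  · have h1 := Submodule.finrank_sup_add_finrank_inf_eq W₂ W₁
    have h2 : W₂ ⊓ W₁ = ⊥ := (Submodule.eq_bot_iff _).mpr fun v hv => (fix_perp h (hW₂ hv.1) (hW₁ hv.2)).2 rfl
    rw [h2, finrank_bot, hW₁d, hW₂d, mul_one] at h1
    omega
  · rw [← CfsgLib.IsotropicCount.sympB_apply]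
    exact (ts_sup (ok := fun _ => True) (fun _ _ _ _ _ => trivial) h.refl ((ts_true_iff).mpr hW₂ts)
      ((ts_true_iff).mpr hW₁ts) fun a ha c hc => (fix_perp h (hW₂ ha) (hW₁ hc)).1).2 u hu v hv
  · rintro _ ⟨v, hv, rfl⟩
    exact (hW₂T.sup hW₁T) v hv

end CfsgLib.PrimeIso
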