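/-
Elements of prime order of the symplectic group without invariant totally isotropic subspaces, and the
number of such subspaces.
-/
import Cfsg.Agent.Lib.PrimeIso.Symp

set_option autoImplicit false
set_option linter.unusedSectionVars false

namespace CfsgLib.PrimeIso

open Polynomial Module CfsgLib.MaxSub.Elusive
open scoped Matrix

universe u

variable {F : Type u} [Field F] [Fintype F] {p r d : ℕ} [Fact p.Prime] [CharP F p] [Fact r.Prime]

/-- A prime dividing the number of totally isotropic `m`-spaces. -/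
theorem dvd_count {m : ℕ} (hmd : m ≤ d)
    (h : r ∣ Nat.card {W : Submodule F (Fin d ⊕ Fin d → F) // finrank F ↥W = m ∧
      ∀ u ∈ W, ∀ v ∈ W, Cfsg.sympForm d F u v = 0}) :
    r ≠ p ∧ ∃ j < m, orderOf (Fintype.card F : ZMod r) ∣ 2 * d - 2 * j := by
  have hr : r.Prime := Fact.out
  set q := Fintype.card F with hq
  have hf := CfsgLib.IsotropicCount.card_frame_eq (Cfsg.sympForm d F) CfsgLib.IsotropicCount.symp_span2 m
  rw [CfsgLib.IsotropicCount.card_sympFrame, Finset.prod_range, CfsgLib.IsotropicCount.glc,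
    Finset.prod_congr rfl fun (j : Fin m) _ => q_pow_factor (n := 2 * d - j) (j := j) (by omega) _,
    Finset.prod_congr rfl fun (j : Fin m) _ => q_pow_factor (n := m) (j := j) j.2.le _,
    Finset.prod_mul_distrib, Finset.prod_mul_distrib, mul_left_comm] at hf
  have h' := Nat.eq_of_mul_eq_mul_left (Finset.prod_pos fun (j : Fin m) _ => pow_pos Fintype.card_pos _) hf
  have hd' : r ∣ ∏ j : Fin m, (q ^ (2 * d - j - j) - 1) := h' ▸ dvd_mul_of_dvd_left h _
  obtain ⟨j, -, hj⟩ := (Prime.dvd_finsetProd_iff hr.prime _).mp hd'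
  refine ⟨fun hrp => ?_, j, j.2, ?_⟩
  · have h1 : r ∣ q := (dvd_q_iff (F := F) (p := p) hr).mpr hrp
    have h2 : r ∣ q ^ (2 * d - j - j) := dvd_trans h1 (dvd_pow_self _ (by omega))
    have h3 := Nat.dvd_sub h2 hj
    rw [Nat.sub_sub_self (Nat.one_le_pow _ _ Fintype.card_pos)] at h3
    exact hr.not_dvd_one h3
  · rwa [dvd_pow_sub_one_iff, show 2 * d - (j : ℕ) - j = 2 * d - 2 * j by omega] at hj

theorem geom_eval_one (hrp : r ≠ p) : (geom F r).eval 1 ≠ 0 := by
  simpa [geom, eval_finsetSum] using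
    CfsgLib.GLClassNumber.natCast_ne_zero_of_prime_ne (F := F) (p := p) (Fact.out : r.Prime) hrp

/-- The shape of an invariant totally isotropic subspace. -/
theorem split_dims (hrp : r ≠ p) {T : Module.End F (Fin d ⊕ Fin d → F)}
    (h : PerIso (CfsgLib.IsotropicCount.sympB d F) T r) {W : Submodule F (Fin d ⊕ Fin d → F)} (hW : Inv T W)
    (hWts : ∀ u ∈ W, ∀ v ∈ W, CfsgLib.IsotropicCount.sympB d F u v = 0) :
    ∃ b k, finrank F W = b + k * orderOf (Fintype.card F : ZMod r) ∧
      finrank F ↥(W ⊓ LinearMap.ker (aeval T (geom F r))) = k * orderOf (Fintype.card F : ZMod r) ∧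
      2 * b ≤ finrank F (LinearMap.ker (aeval T (X - C (1 : F)))) := by
  obtain ⟨⟨k, hk⟩, -⟩ := dims_of_ker (fun g h1 h2 h3 => geom_degree (p := p) (Fact.out : r.Prime) hrp h1 h2 h3)
    (hW.inf (inv_ker (T := T) (geom F r))) inf_le_right
  refine ⟨finrank F ↥(W ⊓ LinearMap.ker (aeval T (X - C (1 : F)))), k, ?_, hk.trans (mul_comm _ _),
    two_mul_finrank_le inf_le_right (fun u hu v hv => hWts u hu.1 v hv.1) (nondeg_parts (Fact.out : r.Prime).pos h).2⟩
  rw [← finrank_split h hW, hk, mul_comm k]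

theorem ker_mulLeft_unit {A : Type*} [CommRing A] [Algebra F A] {a : A} (ha : IsUnit a) :
    LinearMap.ker (LinearMap.mulLeft F a) = ⊥ :=
  LinearMap.ker_eq_bot.mpr ha.mul_right_injective

/-- An element with a fixed space of prescribed dimension. -/
theorem exists_blocks_fix (hrp : r ≠ p) {i c : ℕ} (hi : i = orderOf (Fintype.card F : ZMod r))
    (hc : c = if Even i then i else 2 * i) {e k : ℕ} (hd : 2 * d = e * c + 2 * k) :
    ∃ x : Matrix.symplecticGroup (Fin d) F, x ^ r = 1 ∧
      finrank F (LinearMap.ker (aeval (Matrix.toLin' (x : Matrix (Fin d ⊕ Fin d) (Fin d ⊕ Fin d) F))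
        (X - C (1 : F)))) = 2 * k := by
  have hipos : 0 < i := hi ▸ order_pos (F := F) hrp
  by_cases he : Even i
  · obtain ⟨h, hh⟩ := he
    rw [if_pos ⟨h, hh⟩] at hc
    obtain ⟨A, _, _, _, 𝔅, hdim, hroots⟩ := exists_field_block (F := F) (p := p) (r := r) (h := h) hrp (by omega)
    obtain ⟨g, -, hg, -⟩ := exists_factors (F := F) (p := p) (r := r) hrp
    have ht : 0 < (r - 1) / i := Nat.div_pos (Nat.le_of_dvd (by have := (Fact.out : r.Prime).two_le; omega)
      (hi ▸ order_dvd_pred (F := F) hrp)) hipos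
    obtain ⟨z, -, hz1, hz2, hz3⟩ := hroots (g ⟨0, by rw [← hi]; exact ht⟩) (hg _).1 (hg _).2.1 (hg _).2.2.2
    obtain ⟨x, hx, hker⟩ := exists_element 𝔅 (T := e) (k := k) (fun _ => z) (fun _ => hz1) (fun _ => hz2)
      (d := d) (by rw [hdim, show 2 * h = c by omega]; exact hd)
    refine ⟨x, hx, ?_⟩
    rw [(hker _).2 (by simp), Finset.sum_eq_zero fun j _ => ?_, zero_add]
    rw [ker_mulLeft_unit ?_, finrank_bot]
    rw [map_sub, aeval_X, aeval_C, map_one]
    exact isUnit_iff_ne_zero.mpr (sub_ne_zero.mpr hz3)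
  · rw [if_neg he] at hc
    obtain ⟨A, _, _, _, 𝔅, z, hdim, hz1, hz2, hz3⟩ := exists_swap_block (F := F) (p := p) (r := r) hrp hi.symm
    obtain ⟨x, hx, hker⟩ := exists_element 𝔅 (T := e) (k := k) (fun _ => z) (fun _ => hz1) (fun _ => hz2)
      (d := d) (by rw [hdim, ← hc]; exact hd)
    refine ⟨x, hx, ?_⟩
    rw [(hker _).2 (by simp), Finset.sum_eq_zero fun j _ => ?_, zero_add]
    rw [ker_mulLeft_unit ?_, finrank_bot]
    rw [map_sub, aeval_X, aeval_C, map_one]
    exact hz3

/-- An element with smallest fixed space. -/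
theorem exists_small_fix (hrp : r ≠ p) {i c : ℕ} (hi : i = orderOf (Fintype.card F : ZMod r))
    (hc : c = if Even i then i else 2 * i) :
    ∃ x : Matrix.symplecticGroup (Fin d) F, x ^ r = 1 ∧
      finrank F (LinearMap.ker (aeval (Matrix.toLin' (x : Matrix (Fin d ⊕ Fin d) (Fin d ⊕ Fin d) F))
        (X - C (1 : F)))) = (2 * d) % c := by
  have hce : Even c := by
    rw [hc]; split_ifs with h
    · exact h
    · exact even_two_mul i
  obtain ⟨k, hk⟩ : Even ((2 * d) % c) := by
    obtain ⟨a, ha⟩ := hce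
    have h1 := Nat.div_add_mod' (2 * d) c
    have h2 : (2 * d) / c * c = 2 * ((2 * d) / c * a) := by rw [ha]; ring
    exact ⟨d - (2 * d) / c * a, by omega⟩
  obtain ⟨x, hx, hf⟩ := exists_blocks_fix (d := d) hrp hi hc (e := (2 * d) / c) (k := k) (by
    have := Nat.div_add_mod' (2 * d) c
    omega)
  exact ⟨x, hx, by omega⟩

/-- An element whose components are as unbalanced as possible. -/
theorem exists_unbalanced (hrp : r ≠ p) {i : ℕ} (hi : i = orderOf (Fintype.card F : ZMod r)) (he : Even i)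
    {e k : ℕ} (hd : 2 * d = e * i + 2 * k) (hpar : e ≤ (r - 1) / i ∨ Even (e - (r - 1) / i)) :
    ∃ x : Matrix.symplecticGroup (Fin d) F, x ^ r = 1 ∧
      finrank F (LinearMap.ker (aeval (Matrix.toLin' (x : Matrix (Fin d ⊕ Fin d) (Fin d ⊕ Fin d) F))
        (X - C (1 : F)))) = 2 * k ∧
      ∀ (W : Submodule F (Fin d ⊕ Fin d → F)),
        Inv (Matrix.toLin' (x : Matrix (Fin d ⊕ Fin d) (Fin d ⊕ Fin d) F)) W →
        (∀ u ∈ W, ∀ v ∈ W, CfsgLib.IsotropicCount.sympB d F u v = 0) →
        2 * finrank F ↥(W ⊓ LinearMap.ker (aeval (Matrix.toLin' (x : Matrix (Fin d ⊕ Fin d) (Fin d ⊕ Fin d) F))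
          (geom F r))) ≤ (e - (r - 1) / i) * i := by
  classical
  obtain ⟨h, hh⟩ := he
  have hipos : 0 < i := hi ▸ order_pos (F := F) hrp
  obtain ⟨A, _, _, _, 𝔅, hdim, hroots⟩ := exists_field_block (F := F) (p := p) (r := r) (h := h) hrp (by omega)
  obtain ⟨g, hginj, hg, hgprod⟩ := exists_factors (F := F) (p := p) (r := r) hrp
  set t := (r - 1) / i with ht_def
  have ht : 0 < t := Nat.div_pos (Nat.le_of_dvd (by have := (Fact.out : r.Prime).two_le; omega)
    (hi ▸ order_dvd_pred (F := F) hrp)) hipos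
  have htt : (r - 1) / orderOf (Fintype.card F : ZMod r) = t := by rw [ht_def, hi]
  let cls : ℕ → Fin ((r - 1) / orderOf (Fintype.card F : ZMod r)) := fun j =>
    if hj : j < t then ⟨j, by omega⟩ else ⟨0, by omega⟩
  choose z hz0 hz1 hz2 hz3 using fun a => hroots (g a) (hg a).1 (hg a).2.1 (hg a).2.2.2
  obtain ⟨x, hx, hker⟩ := exists_element 𝔅 (T := e) (k := k) (fun j : Fin e => z (cls j)) (fun j => hz1 _) (fun j => hz2 _)
    (d := d) (by rw [hdim, show 2 * h = i by omega]; exact hd)
  refine ⟨x, hx, ?_, fun W hW hWts => ?_⟩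
  · rw [(hker _).2 (by simp), Finset.sum_eq_zero fun j _ => ?_, zero_add]
    rw [ker_mulLeft_unit ?_, finrank_bot]
    rw [map_sub, aeval_X, aeval_C, map_one]
    exact isUnit_iff_ne_zero.mpr (sub_ne_zero.mpr (hz3 _))
  set T := Matrix.toLin' (x : Matrix (Fin d ⊕ Fin d) (Fin d ⊕ Fin d) F)
  have hr : r.Prime := Fact.out
  have hper : PerIso (CfsgLib.IsotropicCount.sympB d F) T r :=
    perIso_of_symp (CfsgLib.GLClassNumber.natCast_ne_zero_of_prime_ne (p := p) hr hrp) x (by
      have := congrArg Subtype.val hx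
      simpa using this)
  have hkerdim : ∀ a, finrank F (LinearMap.ker (aeval T (g a))) =
      (Finset.univ.filter fun j : Fin e => cls j = a).card * i := by
    intro a
    rw [(hker _).1 ?_, Finset.sum_congr rfl fun (j : Fin e) _ =>
      show _ = if cls j = a then i else 0 from ?_, Finset.sum_ite, Finset.sum_const, Finset.sum_const_zero,
      smul_eq_mul, add_zero]
    · split_ifs with hja
      · rw [hja, hz0, LinearMap.mulLeft_zero_eq_zero, LinearMap.ker_zero, finrank_top, hdim]
        omega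
      · rw [ker_mulLeft_unit ?_, finrank_bot]
        refine isUnit_iff_ne_zero.mpr fun h0 => hja (hginj ?_)
        have h1 := minpoly.eq_of_irreducible_of_monic (hg (cls j)).1 (hz0 (cls j)) (hg (cls j)).2.1
        have h2 := minpoly.eq_of_irreducible_of_monic (hg a).1 h0 (hg a).2.1
        rw [h1, ← h2]
    · intro h0
      obtain ⟨Q, hQ⟩ := (hg a).2.2.2
      exact geom_eval_one (F := F) hrp (by rw [hQ, eval_mul, h0, zero_mul])
  have hbound : ∀ a, 2 * finrank F ↥(W ⊓ LinearMap.ker (aeval T (g a))) ≤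
      if (a : ℕ) = 0 then (e - t) * i else 0 := by
    intro a
    have h2 : 2 * finrank F ↥(W ⊓ LinearMap.ker (aeval T (g a))) ≤
        (Finset.univ.filter fun j : Fin e => cls j = a).card * i := by
      rw [← hkerdim]
      refine two_mul_finrank_le inf_le_right (fun u hu v hv => hWts u hu.1 v hv.1) fun u hu hp => ?_
      exact ker_nondeg (CfsgLib.IsotropicCount.sympB_nondeg (m := d) (F := F)).1 hper (R := (g a).reverse)
        (dvd_reverse (p := p) hrp (hi ▸ ⟨h, hh⟩) (hg a).1 (hg a).2.2.2) (reverse_natDegree_le _)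
        (fun j hj => reverse_coeff _ hj) hu hp
    obtain ⟨kk, hkk⟩ := (dims_of_ker (P := g a) (i := i) (fun q h1 h2 h3 => by
      rw [eq_of_monic_of_associated h2 (hg a).2.1 (h1.associated_of_dvd (hg a).1 h3), (hg a).2.2.1, hi])
      (hW.inf (inv_ker _)) inf_le_right).1
    rw [hkk] at h2 ⊢
    set N := (Finset.univ.filter fun j : Fin e => cls j = a).card with hN
    have h3 : 2 * kk ≤ N := by
      refine Nat.le_of_mul_le_mul_right ?_ hipos
      rw [mul_assoc, mul_comm kk i]; exact h2
    split_ifs with ha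
    · have h4 : N ≤ e - t + 1 := by
        have hs : (Finset.univ.filter fun j : Fin e => cls j = a) ⊆
            Finset.univ.filter fun j : Fin e => (j : ℕ) = 0 ∨ t ≤ (j : ℕ) := fun j hj => by
          rw [Finset.mem_filter] at hj ⊢
          refine ⟨hj.1, ?_⟩
          by_contra hc
          push Not at hc
          have := congrArg Fin.val hj.2
          simp only [cls, dif_pos hc.2] at this
          omega
        refine le_trans (Finset.card_le_card hs) ?_
        refine le_trans (Finset.card_le_card_of_injOn (t := Finset.range (e - t + 1))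
          (fun j : Fin e => if (j : ℕ) = 0 then 0 else (j : ℕ) + 1 - t) (fun j hj => ?_) fun j hj j' hj' hjj => ?_)
          (Finset.card_range _).le
        · simp only [Finset.coe_filter, Finset.mem_univ, true_and, Set.mem_ofPred_eq] at hj
          simp only [Finset.coe_range, Set.mem_Iio]
          split_ifs <;> omega
        · simp only [Finset.coe_filter, Finset.mem_univ, true_and, Set.mem_ofPred_eq] at hj hj'
          refine Fin.ext ?_
          simp only at hjj
          split_ifs at hjj <;> omega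
      have h5 : 2 * kk ≤ e - t := by
        rcases hpar with hp | ⟨s, hs⟩ <;> omega
      rw [mul_comm i kk, ← mul_assoc]
      exact Nat.mul_le_mul_right i h5
    · have h4 : N ≤ 1 := Finset.card_le_one.mpr fun j hj j' hj' => by
        rw [Finset.mem_filter] at hj hj'
        have h5 := congrArg Fin.val hj.2
        have h6 := congrArg Fin.val hj'.2
        simp only [cls] at h5 h6
        refine Fin.ext ?_
        split_ifs at h5 h6 <;> simp only at h5 h6 <;> omega
      have : kk = 0 := by omega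
      simp [this]
  have hsum := finrank_ker_prod_le (T := T) (hW.inf (inv_ker (T := T) (geom F r))) (Finset.univ.val.map g)
  rw [hgprod, inf_eq_left.mpr (inf_le_right : W ⊓ LinearMap.ker (aeval T (geom F r)) ≤ _), Multiset.map_map] at hsum
  refine (Nat.mul_le_mul_left 2 hsum).trans ?_
  change 2 * ∑ a, finrank F ↥(W ⊓ LinearMap.ker (aeval T (geom F r)) ⊓ LinearMap.ker (aeval T (g a))) ≤ _
  rw [Finset.mul_sum]
  refine (Finset.sum_le_sum (g := fun a : Fin ((r - 1) / orderOf (Fintype.card F : ZMod r)) => if (a : ℕ) = 0 then (e - t) * i else 0) fun a _ =>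
    le_trans (Nat.mul_le_mul_left 2 (Submodule.finrank_mono (inf_le_inf_right _ inf_le_left))) (hbound a)).trans ?_
  rw [Finset.sum_eq_single (⟨0, by omega⟩ : Fin ((r - 1) / orderOf (Fintype.card F : ZMod r)))
    (fun b _ hb => if_neg fun hb0 => hb (Fin.ext hb0)) (fun hc => absurd (Finset.mem_univ _) hc), if_pos rfl]

/-- An element fixing no totally isotropic `m`-space. -/
theorem exists_free (hrp : r ≠ p) {m i c : ℕ} (hi : i = orderOf (Fintype.card F : ZMod r))
    (hc : c = if Even i then i else 2 * i) (hcd : c ≤ 2 * d)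
    (hfail : ¬ (2 * (m % i) ≤ (2 * d) % c ∧ (Odd i ∨ (r - 1) / i + 2 * (m / i) ≤ (2 * d) / i))) (him : i ≤ m ∨ (2 * d) % c < 2 * m) :
    ∃ x : Matrix.symplecticGroup (Fin d) F, x ^ r = 1 ∧ x ≠ 1 ∧
      ∀ (W : Submodule F (Fin d ⊕ Fin d → F)), finrank F W = m →
        (∀ u ∈ W, ∀ v ∈ W, Cfsg.sympForm d F u v = 0) →
        ¬ W.map (Matrix.toLin' (x : Matrix (Fin d ⊕ Fin d) (Fin d ⊕ Fin d) F)) ≤ W := by
  have hipos : 0 < i := hi ▸ order_pos (F := F) hrp
  have hcpos : 0 < c := by rw [hc]; split_ifs <;> omega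
  have key : ∀ (x : Matrix.symplecticGroup (Fin d) F), x ^ r = 1 →
      finrank F (LinearMap.ker (aeval (Matrix.toLin' (x : Matrix (Fin d ⊕ Fin d) (Fin d ⊕ Fin d) F))
        (X - C (1 : F)))) < 2 * d → x ≠ 1 := by
    intro x _ hlt e
    subst e
    rw [show aeval (Matrix.toLin' ((1 : Matrix.symplecticGroup (Fin d) F) : Matrix (Fin d ⊕ Fin d) (Fin d ⊕ Fin d) F))
      (X - C (1 : F)) = 0 by simp [← Module.End.one_eq_id], LinearMap.ker_zero, finrank_top, Module.finrank_pi,
      Fintype.card_sum, Fintype.card_fin] at hlt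
    omega
  have hcoe : ∀ (x : Matrix.symplecticGroup (Fin d) F), x ^ r = 1 →
      (x : Matrix (Fin d ⊕ Fin d) (Fin d ⊕ Fin d) F) ^ r = 1 := fun x hx => by
    simpa using congrArg Subtype.val hx
  by_cases h1 : 2 * (m % i) ≤ (2 * d) % c
  · have h2 : Even i ∧ (2 * d) / i < (r - 1) / i + 2 * (m / i) := by
      push Not at hfail
      exact ⟨Nat.not_odd_iff_even.mp (hfail h1).1, (hfail h1).2⟩
    obtain ⟨he, h2⟩ := h2
    rw [if_pos he] at hc
    rw [hc] at hcd hcpos h1 him
    have him' : i ≤ m := by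
      by_contra hmi
      rw [Nat.mod_eq_of_lt (by omega)] at h1
      rcases him with h | h <;> omega
    set t := (r - 1) / i with ht
    set T₀ := (2 * d) / i with hT
    have hdm := Nat.div_add_mod' (2 * d) i
    rw [← hT] at hdm
    obtain ⟨e, he1, he2, hpar⟩ : ∃ e, (e = T₀ ∨ e + 1 = T₀) ∧ 0 < e ∧ (e ≤ t ∨ Even (e - t)) := by
      have hT0 : 0 < T₀ := hT ▸ Nat.div_pos hcd hipos
      by_cases hle : T₀ ≤ t
      · exact ⟨T₀, Or.inl rfl, hT0, Or.inl hle⟩
      · rcases Nat.even_or_odd (T₀ - t) with hev | ⟨s, hs⟩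
        · exact ⟨T₀, Or.inl rfl, hT0, Or.inr hev⟩
        · have ht0 : 0 < t := ht ▸ Nat.div_pos (Nat.le_of_dvd (by have := (Fact.out : r.Prime).two_le; omega)
            (hi ▸ order_dvd_pred (F := F) hrp)) hipos
          exact ⟨T₀ - 1, Or.inr (by omega), by omega, Or.inr ⟨s, by omega⟩⟩
    have hle : e * i ≤ 2 * d := le_trans (Nat.mul_le_mul_right i (by omega : e ≤ T₀)) (by omega)
    obtain ⟨k, hk⟩ : Even (2 * d - e * i) := (Nat.even_sub hle).mpr (iff_of_true (even_two_mul d) (he.mul_left e))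
    obtain ⟨x, hx, hfix, hbound⟩ := exists_unbalanced (F := F) (p := p) (d := d) hrp hi he (e := e) (k := k)
      (by omega) hpar
    have hf2 : 2 * k < 2 * i := by
      have h3 : T₀ * i ≤ e * i + i := by rw [← Nat.succ_mul]; exact Nat.mul_le_mul_right i (by omega)
      have := Nat.mod_lt (2 * d) hipos
      omega
    refine ⟨x, hx, key x hx (by
      rw [hfix]
      have := Nat.le_mul_of_pos_left i he2
      omega), fun W hWm hWts hWT => ?_⟩
    have hWts' : ∀ u ∈ W, ∀ v ∈ W, CfsgLib.IsotropicCount.sympB d F u v = 0 := fun u hu v hv => by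
      rw [CfsgLib.IsotropicCount.sympB_apply]; exact hWts u hu v hv
    have hinv : Inv (Matrix.toLin' (x : Matrix (Fin d ⊕ Fin d) (Fin d ⊕ Fin d) F)) W :=
      fun v hv => hWT ⟨v, hv, rfl⟩
    obtain ⟨b, kk, hdim, hkk, hb⟩ := split_dims (p := p) hrp (perIso_of_symp
      (CfsgLib.GLClassNumber.natCast_ne_zero_of_prime_ne (p := p) (Fact.out : r.Prime) hrp) x (hcoe x hx)) hinv hWts'
    have h3 := hbound W hinv hWts'
    rw [← hi] at hdim hkk
    rw [hkk, ← mul_assoc] at h3
    have h4 := Nat.le_of_mul_le_mul_right h3 hipos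
    rw [hfix] at hb
    have h5 : kk + 1 ≤ m / i := by
      have := Nat.div_pos him' hipos
      omega
    have h6 := Nat.mul_le_mul_right i h5
    rw [add_mul, one_mul] at h6
    have := Nat.div_mul_le_self m i
    omega
  · push Not at h1
    obtain ⟨x, hx, hfix⟩ := exists_small_fix (F := F) (p := p) (d := d) hrp hi hc
    have hflt : (2 * d) % c < c := Nat.mod_lt _ hcpos
    refine ⟨x, hx, key x hx (by omega), fun W hWm hWts hWT => ?_⟩
    obtain ⟨b, kk, hdim, -, hb⟩ := split_dims (p := p) hrp (perIso_of_symp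
      (CfsgLib.GLClassNumber.natCast_ne_zero_of_prime_ne (p := p) (Fact.out : r.Prime) hrp) x (hcoe x hx))
      (fun v hv => hWT ⟨v, hv, rfl⟩) (W := W) fun u hu v hv => by
        rw [CfsgLib.IsotropicCount.sympB_apply]; exact hWts u hu v hv
    rw [← hi] at hdim
    rw [hfix] at hb
    have hbi : b < i := by
      rw [hc] at hflt hb
      split_ifs at hflt hb <;> omega
    rw [hdim] at hWm
    rw [← hWm, Nat.add_mul_mod_self_right, Nat.mod_eq_of_lt hbi] at h1
    omega

end CfsgLib.PrimeIso
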