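/-
Isometries of order `p` of alternating forms in odd characteristic `p`: orthogonal decomposition into
cyclic blocks and the multiset of block sizes.
-/
import Cfsg.Agent.Lib.PrimeIso.AltBlocks

set_option autoImplicit false
set_option linter.unusedSectionVars false

namespace CfsgLib.PrimeIso

open Polynomial Module

universe u v

variable {F : Type u} [Field F] {V : Type v} [AddCommGroup V] [Module F V] [FiniteDimensional F V]
  {B : V →ₗ[F] V →ₗ[F] F} {T : Module.End F V} {p : ℕ}

/-- A multiset of block sizes. -/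
def Shape (p : ℕ) (μ : Multiset ℕ) : Prop :=
  (∀ a ∈ μ, 0 < a ∧ a ≤ p) ∧ ∀ a : ℕ, Odd a → Even (μ.count a)

/-- The rank profile of a multiset of block sizes. -/
def profile (μ : Multiset ℕ) (j : ℕ) : ℕ := (μ.map fun a => a - j).sum

theorem profile_zero (μ : Multiset ℕ) : profile μ 0 = μ.sum := by simp [profile]

theorem profile_add (μ ν : Multiset ℕ) (j : ℕ) : profile (μ + ν) j = profile μ j + profile ν j := by
  simp [profile]

theorem profile_count (μ : Multiset ℕ) {a : ℕ} (ha : 0 < a) :
    profile μ (a - 1) + profile μ (a + 1) = 2 * profile μ a + μ.count a := by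
  induction μ using Multiset.induction_on with
  | empty => simp [profile]
  | cons x μ ih =>
    simp only [profile, Multiset.map_cons, Multiset.sum_cons, Multiset.count_cons] at ih ⊢
    split_ifs with h
    · subst h; omega
    · omega

theorem eq_of_profile {μ ν : Multiset ℕ} (hμ : ∀ a ∈ μ, 0 < a) (hν : ∀ a ∈ ν, 0 < a)
    (h : ∀ j, profile μ j = profile ν j) : μ = ν := by
  refine Multiset.ext.mpr fun a => ?_
  rcases Nat.eq_zero_or_pos a with rfl | ha
  · rw [Multiset.count_eq_zero.mpr fun h0 => lt_irrefl _ (hμ 0 h0),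
      Multiset.count_eq_zero.mpr fun h0 => lt_irrefl _ (hν 0 h0)]
  · have h1 := profile_count μ ha
    have h2 := profile_count ν ha
    rw [h, h, h] at h1
    omega

/-- An isometry of order dividing the characteristic. -/
structure UniIso (B : V →ₗ[F] V →ₗ[F] F) (T : Module.End F V) (p : ℕ) : Prop where
  alt : ∀ x, B x x = 0
  iso : ∀ x y, B (T x) (T y) = B x y
  per : T ^ p = 1
  char : ringChar F = p
  prime : p.Prime

namespace UniIso

variable (h : UniIso B T p)
include h

theorem skew (x y : V) : B y x = -B x y := alt_swap h.alt x y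

theorem refl : B.IsRefl := alt_refl h.alt

theorem nilp : (T - 1) ^ p = 0 := by
  have : CharP F p := ringChar.of_eq h.char
  have := Fact.mk h.prime
  have h1 : ((X : F[X]) - 1) ^ p = X ^ p - 1 := by rw [sub_pow_char, one_pow]
  have h2 := congrArg (aeval T) h1
  simpa [h.per] using h2

theorem inv_sub {W : Submodule F V} (hW : Inv T W) (i : ℕ) : ∀ x ∈ W, ((T - 1) ^ i) x ∈ W := by
  induction i with
  | zero => intro x hx; simpa using hx
  | succ i ih =>
    intro x hx
    rw [pow_succ', Module.End.mul_apply, LinearMap.sub_apply, Module.End.one_apply]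
    exact W.sub_mem (hW _ (ih x hx)) (ih x hx)

theorem inv_perp {Y U : Submodule F V} (hY : Inv T Y) (hU : Inv T U) : Inv T (perpIn B Y U) :=
  fun x hx => ⟨hU x hx.1, fun w hw => by
    have hw' : T ((T ^ (p - 1)) w) = w := by
      rw [← Module.End.mul_apply, ← pow_succ', Nat.sub_add_cancel h.prime.pos, h.per, Module.End.one_apply]
    rw [← hw', h.iso]
    exact hx.2 _ (hY.pow _ w hw)⟩

theorem relation (x y : V) : B ((T - 1) x) y + B x ((T - 1) y) + B ((T - 1) x) ((T - 1) y) = 0 := by
  have := h.iso x y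
  simp only [LinearMap.sub_apply, Module.End.one_apply, map_sub]
  linear_combination this

theorem step (x y : V) (i j : ℕ) :
    B (((T - 1) ^ (i + 1)) x) (((T - 1) ^ j) y) + B (((T - 1) ^ i) x) (((T - 1) ^ (j + 1)) y) +
      B (((T - 1) ^ (i + 1)) x) (((T - 1) ^ (j + 1)) y) = 0 := by
  simpa only [pow_succ', Module.End.mul_apply] using h.relation (((T - 1) ^ i) x) (((T - 1) ^ j) y)

omit h in
theorem pow_vanish {x : V} {k i : ℕ} (hx : ((T - 1) ^ k) x = 0) (hi : k ≤ i) : ((T - 1) ^ i) x = 0 := by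
  obtain ⟨l, rfl⟩ := Nat.exists_eq_add_of_le hi
  rw [add_comm, pow_add, Module.End.mul_apply, hx, map_zero]

theorem vanish {x y : V} {k : ℕ} (hx : ((T - 1) ^ k) x = 0) (hy : ((T - 1) ^ k) y = 0) :
    ∀ i j, k ≤ i + j → B (((T - 1) ^ i) x) (((T - 1) ^ j) y) = 0 := by
  suffices key : ∀ n i j, k ≤ i + j → 2 * k ≤ i + j + n → B (((T - 1) ^ i) x) (((T - 1) ^ j) y) = 0 from
    fun i j hij => key (2 * k) i j hij (by omega)
  intro n
  induction n with
  | zero =>
    intro i j _ h2
    rcases le_total k i with hi | hi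
    · rw [pow_vanish hx hi, map_zero, LinearMap.zero_apply]
    · rw [pow_vanish hy (i := j) (by omega), map_zero]
  | succ n ih =>
    intro i
    induction i with
    | zero =>
      intro j hj _
      rw [pow_vanish hy (i := j) (by omega), map_zero]
    | succ i ih' =>
      intro j hj h2
      have h3 := h.step x y i j
      rw [ih' (j + 1) (by omega) (by omega), ih (i + 1) (j + 1) (by omega) (by omega), add_zero, add_zero] at h3
      exact h3

theorem diag {x y : V} {k : ℕ} (hx : ((T - 1) ^ k) x = 0) (hy : ((T - 1) ^ k) y = 0) :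
    ∀ i j, i + j + 1 = k → B (((T - 1) ^ i) x) (((T - 1) ^ j) y) = (-1 : F) ^ i * B x (((T - 1) ^ (k - 1)) y) := by
  intro i
  induction i with
  | zero =>
    intro j hj
    rw [show j = k - 1 by omega]
    simp
  | succ i ih =>
    intro j hj
    have h3 := h.step x y i j
    rw [ih (j + 1) (by omega), h.vanish hx hy (i + 1) (j + 1) (by omega), add_zero] at h3
    rw [pow_succ (-1 : F)]
    linear_combination h3

/-- The span of a family of chains. -/
theorem chain {ι : Type} [Fintype ι] [DecidableEq ι] (w : ι → V) (σ : ι → ι) {k : ℕ} (_hk : 1 ≤ k)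
    (hw : ∀ l, ((T - 1) ^ k) (w l) = 0)
    (h0 : ∀ l m, l ≠ m → B (w l) (((T - 1) ^ (k - 1)) (w (σ m))) = 0)
    (h1 : ∀ l, B (w l) (((T - 1) ^ (k - 1)) (w (σ l))) ≠ 0) {U : Submodule F V} (hU : Inv T U)
    (hwU : ∀ l, w l ∈ U) :
    ∃ P ≤ U, Inv T P ∧ ND B P ∧ ∀ j, finrank F (P.map ((T - 1) ^ j)) = Fintype.card ι * (k - j) := by
  classical
  let L : ∀ j, (ι × Fin (k - j) → F) →ₗ[F] V := fun j =>
    Fintype.linearCombination F (fun q : ι × Fin (k - j) => ((T - 1) ^ (j + q.2.val)) (w q.1))
  have hL : ∀ j c, L j c = ∑ q : ι × Fin (k - j), c q • ((T - 1) ^ (j + q.2.val)) (w q.1) :=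
    fun j c => Fintype.linearCombination_apply ..
  have hkey : ∀ j (c : ι × Fin (k - j) → F), (∀ (l : ι) (m : ℕ), B (L j c) (((T - 1) ^ m) (w l)) = 0) → c = 0 := by
    intro j c hc
    suffices ∀ (n : ℕ) (q : ι × Fin (k - j)), q.2.val = n → c q = 0 from funext fun q => this _ q rfl
    intro n
    induction n using Nat.strong_induction_on with
    | _ n ih =>
      rintro ⟨l, i⟩ rfl
      have h3 := hc (σ l) (k - 1 - (j + i.val))
      rw [hL, map_sum, LinearMap.sum_apply, Finset.sum_eq_single (l, i)] at h3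
      · rw [map_smul, LinearMap.smul_apply,
          h.diag (hw l) (hw (σ l)) _ _ (by have := i.2; dsimp only; omega), smul_eq_mul] at h3
        exact (mul_eq_zero.mp h3).resolve_right (mul_ne_zero (pow_ne_zero _ (neg_ne_zero.mpr one_ne_zero)) (h1 l))
      · rintro ⟨l', i'⟩ - hne
        rw [map_smul, LinearMap.smul_apply]
        rcases lt_trichotomy i'.val i.val with h4 | h4 | h4
        · rw [ih _ h4 (l', i') rfl, zero_smul]
        · have hll : l' ≠ l := fun e => hne (by rw [e, Fin.ext h4])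
          rw [h.diag (hw l') (hw (σ l)) _ _ (by have := i'.2; dsimp only; omega), h0 l' l hll, mul_zero, smul_zero]
        · rw [h.vanish (hw l') (hw (σ l)) _ _ (by have := i.2; dsimp only; omega), smul_zero]
      · exact fun hm => absurd (Finset.mem_univ _) hm
  have hinj : ∀ j, Function.Injective (L j) := fun j => (injective_iff_map_eq_zero _).mpr fun c hc =>
    hkey j c fun l m => by rw [hc, map_zero, LinearMap.zero_apply]
  have hgen : ∀ j i l, ((T - 1) ^ (j + i)) (w l) ∈ LinearMap.range (L j) := by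
    intro j i l
    by_cases hi : i < k - j
    · refine ⟨Pi.single (l, ⟨i, hi⟩) 1, ?_⟩
      rw [hL, Finset.sum_eq_single (l, ⟨i, hi⟩) (fun q _ hq => by rw [Pi.single_eq_of_ne hq, zero_smul])
        (fun hm => absurd (Finset.mem_univ _) hm), Pi.single_eq_same, one_smul]
    · rw [pow_vanish (hw l) (show k ≤ j + i by omega)]
      exact zero_mem _
  have hgen0 : ∀ (i : ℕ) (l : ι), ((T - 1) ^ i) (w l) ∈ LinearMap.range (L 0) := fun i l => by
    simpa using hgen 0 i l
  have hmap : ∀ j, (LinearMap.range (L 0)).map ((T - 1) ^ j) = LinearMap.range (L j) := by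
    intro j
    refine le_antisymm ?_ ?_
    · rintro _ ⟨_, ⟨c, rfl⟩, rfl⟩
      rw [hL, map_sum]
      refine Submodule.sum_mem _ fun q _ => ?_
      rw [map_smul, ← Module.End.mul_apply, ← pow_add, ← add_assoc, add_zero]
      exact Submodule.smul_mem _ _ (hgen _ _ _)
    · rintro _ ⟨c, rfl⟩
      rw [hL]
      refine Submodule.sum_mem _ fun q _ => Submodule.smul_mem _ _ ?_
      refine ⟨_, hgen0 q.2.val q.1, ?_⟩
      rw [pow_add, Module.End.mul_apply]
  refine ⟨LinearMap.range (L 0), ?_, ?_, ?_, fun j => ?_⟩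
  · rintro _ ⟨c, rfl⟩
    rw [hL]
    exact Submodule.sum_mem _ fun q _ => U.smul_mem _ (h.inv_sub hU _ _ (hwU _))
  · rintro _ ⟨c, rfl⟩
    rw [show T (L 0 c) = (T - 1) (L 0 c) + L 0 c by simp]
    refine add_mem ?_ ⟨c, rfl⟩
    rw [hL, map_sum]
    refine Submodule.sum_mem _ fun q _ => ?_
    rw [map_smul, ← Module.End.mul_apply, ← pow_succ']
    exact Submodule.smul_mem _ _ (hgen0 _ _)
  · rintro _ ⟨c, rfl⟩ hp
    rw [hkey 0 c fun l m => hp _ (hgen0 m l), map_zero]
  · rw [hmap, LinearMap.finrank_range_of_inj (hinj j), Module.finrank_fintype_fun_eq_card, Fintype.card_prod,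
      Fintype.card_fin]

/-- One block inside a non-degenerate invariant subspace. -/
theorem exists_chain_block (hp : p ≠ 2) {U : Submodule F V} (hU : Inv T U) (hn : ND B U) (hne : U ≠ ⊥) :
    ∃ (k c : ℕ) (P : Submodule F V), 0 < k ∧ k ≤ p ∧ (c = 1 ∧ Even k ∨ c = 2 ∧ Odd k) ∧ P ≤ U ∧ Inv T P ∧
      ND B P ∧ ∀ j, finrank F (P.map ((T - 1) ^ j)) = c * (k - j) := by
  classical
  have hex : ∃ k : ℕ, ∀ x ∈ U, ((T - 1) ^ k) x = 0 := ⟨p, fun x _ => by rw [h.nilp, LinearMap.zero_apply]⟩
  set k := Nat.find hex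
  have hk : ∀ x ∈ U, ((T - 1) ^ k) x = 0 := Nat.find_spec hex
  have hkp : k ≤ p := Nat.find_le fun x _ => by rw [h.nilp, LinearMap.zero_apply]
  have hk0 : 0 < k := Nat.pos_of_ne_zero fun h0 => by
    obtain ⟨x, hx, hx0⟩ := Submodule.exists_mem_ne_zero_of_ne_bot hne
    exact hx0 (by simpa [h0] using hk x hx)
  have h2 : (2 : F) ≠ 0 := fun h2 => by
    have : CharP F p := ringChar.of_eq h.char
    have : ((2 : ℕ) : F) = 0 := by exact_mod_cast h2
    rw [CharP.cast_eq_zero_iff F p, Nat.prime_dvd_prime_iff_eq h.prime Nat.prime_two] at this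
    exact hp this
  obtain ⟨v, hv, w, hw, hvw⟩ : ∃ v ∈ U, ∃ w ∈ U, B v (((T - 1) ^ (k - 1)) w) ≠ 0 := by
    by_contra hno
    push Not at hno
    refine Nat.find_min hex (show k - 1 < k by omega) fun x hx => ?_
    refine hn _ (h.inv_sub hU _ x hx) fun y hy => ?_
    rw [h.skew, hno y hy x hx, neg_zero]
  have hsym : ∀ a ∈ U, ∀ b ∈ U, B b (((T - 1) ^ (k - 1)) a) =
      -((-1 : F) ^ (k - 1) * B a (((T - 1) ^ (k - 1)) b)) := fun a ha b hb => by
    rw [h.skew, ← h.diag (hk a ha) (hk b hb) (k - 1) 0 (by omega), pow_zero, Module.End.one_apply]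
  rcases Nat.even_or_odd k with hke | hko
  · have hs : ∀ a ∈ U, ∀ b ∈ U, B b (((T - 1) ^ (k - 1)) a) = B a (((T - 1) ^ (k - 1)) b) := fun a ha b hb => by
      rw [hsym a ha b hb, (Nat.Even.sub_odd hk0 hke odd_one).neg_one_pow]; ring
    obtain ⟨x, hx, hxx⟩ : ∃ x ∈ U, B x (((T - 1) ^ (k - 1)) x) ≠ 0 := by
      by_contra hno
      push Not at hno
      have h3 := hno (v + w) (add_mem hv hw)
      simp only [map_add, LinearMap.add_apply, hno v hv, hno w hw, hs v hv w hw] at h3
      refine hvw ((mul_eq_zero.mp (?_ : (2 : F) * _ = 0)).resolve_left h2)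
      linear_combination h3
    obtain ⟨P, hPU, hPT, hPn, hPr⟩ := h.chain (ι := Unit) (fun _ => x) id hk0 (fun _ => hk x hx)
      (fun l m hlm => absurd (Subsingleton.elim l m) hlm) (fun _ => hxx) hU (fun _ => hx)
    exact ⟨k, 1, P, hk0, hkp, Or.inl ⟨rfl, hke⟩, hPU, hPT, hPn, fun j => by rw [hPr, Fintype.card_unit]⟩
  · have hs : ∀ a ∈ U, ∀ b ∈ U, B b (((T - 1) ^ (k - 1)) a) = -B a (((T - 1) ^ (k - 1)) b) := fun a ha b hb => by
      rw [hsym a ha b hb, (Nat.Odd.sub_odd hko odd_one).neg_one_pow, one_mul]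
    have hz : ∀ a ∈ U, B a (((T - 1) ^ (k - 1)) a) = 0 := fun a ha =>
      (mul_eq_zero.mp (by linear_combination hs a ha a ha : (2 : F) * _ = 0)).resolve_left h2
    obtain ⟨P, hPU, hPT, hPn, hPr⟩ := h.chain (ι := Bool) (fun l => if l then v else w) not hk0
      (fun l => by cases l <;> [exact hk w hw; exact hk v hv])
      (fun l m hlm => by cases l <;> cases m <;> first | exact absurd rfl hlm | simp [hz v hv, hz w hw])
      (fun l => by
        cases l
        · simpa [hs v hv w hw] using hvw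
        · simpa using hvw) hU (fun l => by cases l <;> [exact hw; exact hv])
    exact ⟨k, 2, P, hk0, hkp, Or.inr ⟨rfl, hko⟩, hPU, hPT, hPn, fun j => by rw [hPr, Fintype.card_bool]⟩

/-- The block sizes of an isometry, with all their admissible partial sums. -/
theorem decomp (hp : p ≠ 2) : ∀ (n : ℕ) (U : Submodule F V), finrank F U ≤ n → Inv T U → ND B U →
    ∃ μ : Multiset ℕ, Shape p μ ∧ (∀ j, finrank F (U.map ((T - 1) ^ j)) = profile μ j) ∧
      ∀ ν ≤ μ, (∀ a : ℕ, Odd a → Even (ν.count a)) →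
        ∃ W ≤ U, Inv T W ∧ ND B W ∧ finrank F W = ν.sum := by
  intro n
  induction n using Nat.strong_induction_on with
  | _ n ih =>
    intro U hdim hU hn
    rcases eq_or_ne U ⊥ with rfl | hne
    · refine ⟨0, ⟨by simp, by simp⟩, fun j => by simp [profile], fun ν hν _ => ?_⟩
      exact ⟨⊥, le_rfl, inv_bot, fun x hx _ => (Submodule.mem_bot F).mp hx, by
        simp [Multiset.le_zero.mp hν]⟩
    obtain ⟨k, c, P, hk0, hkp, hkc, hPU, hPT, hPn, hPr⟩ := h.exists_chain_block hp hU hn hne
    obtain ⟨hQn, hinf, hsup, hdims⟩ := split_perpIn h.refl hPU hPn hn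
    set Q := perpIn B P U
    have hQT : Inv T Q := h.inv_perp hPT hU
    have hPd : finrank F P = c * k := by
      have h3 := hPr 0
      rwa [pow_zero, Module.End.one_eq_id, Submodule.map_id, Nat.sub_zero] at h3
    have hlt : finrank F Q < n := by
      have : 0 < c * k := Nat.mul_pos (by rcases hkc with ⟨rfl, -⟩ | ⟨rfl, -⟩ <;> omega) hk0
      omega
    obtain ⟨μ, ⟨hμp, hμe⟩, hμr, hμw⟩ := ih _ hlt Q le_rfl hQT hQn
    refine ⟨Multiset.replicate c k + μ, ⟨fun a ha => ?_, fun a ha => ?_⟩, fun j => ?_, fun ν hν hνe => ?_⟩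
    · rcases Multiset.mem_add.mp ha with ha | ha
      · rw [Multiset.eq_of_mem_replicate ha]; exact ⟨hk0, hkp⟩
      · exact hμp a ha
    · rw [Multiset.count_add, Multiset.count_replicate]
      refine Even.add ?_ (hμe a ha)
      split_ifs with hak
      · rcases hkc with ⟨-, hke⟩ | ⟨rfl, -⟩
        · exact absurd hke (Nat.not_even_iff_odd.mpr (hak ▸ ha))
        · exact even_two
      · exact Even.zero
    · rw [← hsup, Submodule.map_sup, profile_add, ← hμr j,
        show profile (Multiset.replicate c k) j = c * (k - j) by simp [profile], ← hPr j]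
      have hd := Submodule.finrank_sup_add_finrank_inf_eq (P.map ((T - 1) ^ j)) (Q.map ((T - 1) ^ j))
      have hle : P.map ((T - 1) ^ j) ⊓ Q.map ((T - 1) ^ j) ≤ P ⊓ Q := inf_le_inf
        (Submodule.map_le_iff_le_comap.mpr (h.inv_sub hPT j)) (Submodule.map_le_iff_le_comap.mpr (h.inv_sub hQT j))
      rw [hinf, le_bot_iff] at hle
      rwa [hle, finrank_bot, add_zero] at hd
    · have hνc : ∀ a, a ≠ k → ν.count a ≤ μ.count a := fun a ha => by
        have := Multiset.le_iff_count.mp hν a
        rwa [Multiset.count_add, Multiset.count_replicate, if_neg (Ne.symm ha), zero_add] at this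
      have hνk : ν.count k ≤ c + μ.count k := by
        have := Multiset.le_iff_count.mp hν k
        rwa [Multiset.count_add, Multiset.count_replicate, if_pos rfl] at this
      by_cases hle : ν.count k ≤ μ.count k
      · obtain ⟨W, hW, hWT, hWn, hWd⟩ := hμw ν (Multiset.le_iff_count.mpr fun a => by
          rcases eq_or_ne a k with rfl | ha
          · exact hle
          · exact hνc a ha) hνe
        exact ⟨W, hW.trans perpIn_le, hWT, hWn, hWd⟩
      · have hck : c ≤ ν.count k := by
          rcases hkc with ⟨rfl, -⟩ | ⟨rfl, hko⟩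
          · omega
          · obtain ⟨e, he⟩ := hμe k hko
            obtain ⟨e', he'⟩ := hνe k hko
            omega
        obtain ⟨ν', rfl⟩ : ∃ ν', ν = Multiset.replicate c k + ν' :=
          Multiset.le_iff_exists_add.mp (Multiset.le_count_iff_replicate_le.mp hck)
        obtain ⟨W, hW, hWT, hWn, hWd⟩ := hμw ν' (add_le_add_iff_left _ |>.mp hν) (fun a ha => by
          have h3 := hνe a ha
          rw [Multiset.count_add, Multiset.count_replicate] at h3
          split_ifs at h3 with hak
          · rcases hkc with ⟨-, hke⟩ | ⟨rfl, -⟩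
            · exact absurd hke (Nat.not_even_iff_odd.mpr (hak ▸ ha))
            · exact (Nat.even_add.mp h3).mp even_two
          · simpa using h3)
        refine ⟨P ⊔ W, sup_le hPU (hW.trans perpIn_le), hPT.sup hWT, fun z hz hp' => ?_, ?_⟩
        · obtain ⟨a, ha, b, hb, rfl⟩ := Submodule.mem_sup.mp hz
          have hab : ∀ x ∈ P, ∀ y ∈ W, B x y = 0 := fun x hx y hy => (hW hy).2 x hx
          have ha0 : a = 0 := hPn a ha fun y hy => by
            have h3 := hp' y (Submodule.mem_sup_left hy)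
            rwa [map_add, LinearMap.add_apply, h.refl y b (hab y hy b hb), add_zero] at h3
          subst ha0
          rw [zero_add] at hp' ⊢
          exact hWn b hb fun y hy => hp' y (Submodule.mem_sup_right hy)
        · have h3 := Submodule.finrank_sup_add_finrank_inf_eq P W
          have h4 : P ⊓ W = ⊥ := le_bot_iff.mp ((inf_le_inf_left P hW).trans hinf.le)
          rw [h4, finrank_bot, add_zero, hPd, hWd] at h3
          rw [h3, Multiset.sum_add, Multiset.sum_replicate, smul_eq_mul]

/-- An invariant non-degenerate subspace takes some of the blocks. -/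
theorem sub_shape (hp : p ≠ 2) {U W : Submodule F V} (hU : Inv T U) (hn : ND B U) (hWU : W ≤ U) (hW : Inv T W)
    (hWn : ND B W) {μ : Multiset ℕ} (hμ : Shape p μ) (hr : ∀ j, finrank F (U.map ((T - 1) ^ j)) = profile μ j) :
    ∃ ν ≤ μ, (∀ a : ℕ, Odd a → Even (ν.count a)) ∧ ν.sum = finrank F W := by
  obtain ⟨hQn, hinf, hsup, -⟩ := split_perpIn h.refl hWU hWn hn
  set Q := perpIn B W U
  have hQT : Inv T Q := h.inv_perp hW hU
  obtain ⟨ν, hν, hνr, -⟩ := h.decomp hp _ W le_rfl hW hWn
  obtain ⟨ν', hν', hνr', -⟩ := h.decomp hp _ Q le_rfl hQT hQn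
  have heq : ν + ν' = μ := eq_of_profile
    (fun a ha => by rcases Multiset.mem_add.mp ha with ha | ha <;> [exact (hν.1 a ha).1; exact (hν'.1 a ha).1])
    (fun a ha => (hμ.1 a ha).1) fun j => by
    rw [← hr j, profile_add, ← hνr j, ← hνr' j, ← hsup, Submodule.map_sup]
    have hd := Submodule.finrank_sup_add_finrank_inf_eq (W.map ((T - 1) ^ j)) (Q.map ((T - 1) ^ j))
    have hle : W.map ((T - 1) ^ j) ⊓ Q.map ((T - 1) ^ j) ≤ W ⊓ Q := inf_le_inf
      (Submodule.map_le_iff_le_comap.mpr (h.inv_sub hW j)) (Submodule.map_le_iff_le_comap.mpr (h.inv_sub hQT j))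
    rw [hinf, le_bot_iff] at hle
    rw [hle, finrank_bot, add_zero] at hd
    exact hd.symm
  exact ⟨ν, heq ▸ Multiset.le_add_right ν ν', hν.2, by
    rw [← profile_zero, ← hνr 0, pow_zero, Module.End.one_eq_id, Submodule.map_id]⟩

end UniIso

end CfsgLib.PrimeIso
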