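/-
Invariant non-degenerate subspaces of involutions of alternating forms.
-/
import Cfsg.Agent.Lib.PrimeIso.UniAlt

set_option autoImplicit false
set_option linter.unusedSectionVars false

namespace CfsgLib.PrimeIso

open Polynomial Module

universe u v

variable {F : Type u} [Field F] {V : Type v} [AddCommGroup V] [Module F V] [FiniteDimensional F V]
  {B : V →ₗ[F] V →ₗ[F] F} {T : Module.End F V}

/-- An orthogonal sum of non-degenerate subspaces. -/
theorem nd_sup (hrefl : B.IsRefl) {P W : Submodule F V} (hP : ND B P) (hW : ND B W)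
    (ho : ∀ x ∈ P, ∀ y ∈ W, B x y = 0) : ND B (P ⊔ W) := by
  intro z hz hp
  obtain ⟨a, ha, b, hb, rfl⟩ := Submodule.mem_sup.mp hz
  have ha0 : a = 0 := hP a ha fun y hy => by
    have h3 := hp y (Submodule.mem_sup_left hy)
    rwa [map_add, LinearMap.add_apply, hrefl y b (ho y hy b hb), add_zero] at h3
  subst ha0
  rw [zero_add] at hp ⊢
  exact hW b hb fun y hy => hp y (Submodule.mem_sup_right hy)

/-- A block and a piece of its orthogonal complement. -/
theorem glue (hrefl : B.IsRefl) {P W U : Submodule F V} (hPU : P ≤ U) (hP : ND B P) (hPT : Inv T P)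
    (hW : W ≤ perpIn B P U) (hWn : ND B W) (hWT : Inv T W) :
    P ⊔ W ≤ U ∧ Inv T (P ⊔ W) ∧ ND B (P ⊔ W) ∧ finrank F ↥(P ⊔ W) = finrank F P + finrank F W := by
  refine ⟨sup_le hPU (hW.trans perpIn_le), hPT.sup hWT, nd_sup hrefl hP hWn fun x hx y hy => (hW hy).2 x hx, ?_⟩
  have h := Submodule.finrank_sup_add_finrank_inf_eq P W
  have h4 : P ⊓ W = ⊥ := (Submodule.eq_bot_iff _).mpr fun x hx =>
    hP x hx.1 fun y hy => hrefl y x ((hW hx.2).2 y hy)
  rw [h4, finrank_bot, add_zero] at h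
  exact h

/-- A plane spanned by two vectors. -/
theorem nd_plane (halt : ∀ x, B x x = 0) {a b : V} (hab : B a b ≠ 0) :
    ND B (Submodule.span F {a, b}) ∧ finrank F (Submodule.span F ({a, b} : Set V)) = 2 := by
  have key : ∀ α β : F, B (α • a + β • b) a = 0 → B (α • a + β • b) b = 0 → α = 0 ∧ β = 0 := fun α β h1 h2 => by
    simp only [map_add, map_smul, LinearMap.add_apply, LinearMap.smul_apply, halt, smul_eq_mul, mul_zero, zero_add,
      add_zero, alt_swap halt a b, mul_neg, neg_eq_zero, mul_eq_zero, hab, or_false] at h1 h2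
    exact ⟨h2, h1⟩
  refine ⟨fun z hz hp => ?_, ?_⟩
  · obtain ⟨α, β, rfl⟩ := Submodule.mem_span_pair.mp hz
    obtain ⟨rfl, rfl⟩ := key α β (hp a (Submodule.subset_span (Or.inl rfl))) (hp b (Submodule.subset_span (Or.inr rfl)))
    simp
  · have hli : LinearIndependent F ![a, b] := LinearIndependent.pair_iff.mpr fun α β h =>
      key α β (by rw [h]; simp) (by rw [h]; simp)
    rw [show ({a, b} : Set V) = Set.range ![a, b] from (Matrix.range_cons_cons_empty a b ![]).symm,
      finrank_span_eq_card hli, Fintype.card_fin]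

/-- In odd characteristic an involution up to sign has invariant planes. -/
theorem exists_plane (halt : ∀ x, B x x = 0) (hiso : ∀ x y, B (T x) (T y) = B x y) (h2 : (2 : F) ≠ 0) {z : F}
    (hz : z * z = 1) (hT : ∀ x, T (T x) = z • x) {U : Submodule F V} (hU : Inv T U) (hn : ND B U) (hne : U ≠ ⊥) :
    ∃ P ≤ U, Inv T P ∧ ND B P ∧ finrank F P = 2 := by
  have mk : ∀ a ∈ U, ∀ b ∈ U, B a b ≠ 0 → T a ∈ Submodule.span F ({a, b} : Set V) →
      T b ∈ Submodule.span F ({a, b} : Set V) → ∃ P ≤ U, Inv T P ∧ ND B P ∧ finrank F P = 2 := by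
    intro a ha b hb hab hTa hTb
    refine ⟨_, Submodule.span_le.mpr (by rintro u (rfl | rfl) <;> assumption), fun u hu => ?_, nd_plane halt hab⟩
    obtain ⟨α, β, rfl⟩ := Submodule.mem_span_pair.mp hu
    rw [map_add, map_smul, map_smul]
    exact add_mem (Submodule.smul_mem _ _ hTa) (Submodule.smul_mem _ _ hTb)
  by_cases hA : ∃ v ∈ U, B v (T v) ≠ 0
  · obtain ⟨v, hv, hvv⟩ := hA
    exact mk v hv (T v) (hU v hv) hvv (Submodule.subset_span (Or.inr rfl))
      (by rw [hT]; exact Submodule.smul_mem _ _ (Submodule.subset_span (Or.inl rfl)))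
  push Not at hA
  have hsym : ∀ a ∈ U, ∀ b ∈ U, B a (T b) = B (T a) b := fun a ha b hb => by
    have h := hA _ (add_mem ha hb)
    simp only [map_add, LinearMap.add_apply, hA a ha, hA b hb, zero_add, add_zero, alt_swap halt (T a) b] at h
    linear_combination h
  obtain ⟨y, hy, hy0⟩ := Submodule.exists_mem_ne_zero_of_ne_bot hne
  rcases mul_self_eq_one_iff.mp hz with rfl | rfl
  · obtain ⟨s, e, hs, he, he0, hTe⟩ : ∃ (s : F) (e : V), s * s = 1 ∧ e ∈ U ∧ e ≠ 0 ∧ T e = s • e := by
      by_cases h0 : y + T y = 0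
      · exact ⟨-1, y, by ring, hy, hy0, by rw [neg_one_smul, eq_neg_iff_add_eq_zero, add_comm, h0]⟩
      · exact ⟨1, y + T y, mul_one 1, add_mem hy (hU y hy), h0, by rw [map_add, hT, one_smul, one_smul, add_comm]⟩
    obtain ⟨w, hw, hew⟩ : ∃ w ∈ U, B e w ≠ 0 := by
      by_contra hno
      push Not at hno
      exact he0 (hn e he hno)
    refine mk e he (w + s • T w) (add_mem hw (U.smul_mem _ (hU w hw))) ?_
      (by rw [hTe]; exact Submodule.smul_mem _ _ (Submodule.subset_span (Or.inl rfl))) ?_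
    · rw [map_add, map_smul, hsym e he w hw, hTe, map_smul, LinearMap.smul_apply, smul_eq_mul, smul_eq_mul, ← mul_assoc,
        hs, one_mul, ← two_mul]
      exact mul_ne_zero h2 hew
    · have : T (w + s • T w) = s • (w + s • T w) := by
        rw [map_add, map_smul, hT, one_smul, smul_add, smul_smul, hs, one_smul, add_comm]
      rw [this]
      exact Submodule.smul_mem _ _ (Submodule.subset_span (Or.inr rfl))
  · exfalso
    refine hy0 (hn y hy fun u hu => ?_)
    have h3 := hiso y u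
    have h4 : B (T y) (T u) = -B y u := by
      rw [← hsym y hy (T u) (hU u hu), hT, map_smul, smul_eq_mul, neg_one_mul]
    refine (mul_eq_zero.mp (?_ : (2 : F) * _ = 0)).resolve_left h2
    linear_combination h4 - h3

/-- In odd characteristic all even dimensions occur. -/
theorem exists_sub_odd (halt : ∀ x, B x x = 0) (h2 : (2 : F) ≠ 0) {z : F} (hz : z * z = 1)
    (hT : ∀ x, T (T x) = z • x) (hiso : ∀ x y, B (T x) (T y) = B x y)
    (hperp : ∀ P U : Submodule F V, Inv T P → Inv T U → Inv T (perpIn B P U)) :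
    ∀ (k : ℕ) (U : Submodule F V), Inv T U → ND B U → 2 * k ≤ finrank F U →
      ∃ W ≤ U, Inv T W ∧ ND B W ∧ finrank F W = 2 * k := by
  intro k
  induction k with
  | zero => intro U _ _ _; exact ⟨⊥, bot_le, inv_bot, fun x hx _ => (Submodule.mem_bot F).mp hx, finrank_bot F V⟩
  | succ k ih =>
    intro U hU hn hdim
    obtain ⟨P, hPU, hPT, hPn, hPd⟩ := exists_plane halt hiso h2 hz hT hU hn (fun e => by
      rw [e, finrank_bot] at hdim; omega)
    obtain ⟨hQn, -, -, hd⟩ := split_perpIn (alt_refl halt) hPU hPn hn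
    obtain ⟨W, hW, hWT, hWn, hWd⟩ := ih _ (hperp P U hPT hU) hQn (by omega)
    obtain ⟨h1, h3, h4, h5⟩ := glue (alt_refl halt) hPU hPn hPT hW hWn hWT
    exact ⟨_, h1, h3, h4, by omega⟩

/-- In characteristic two: a plane or a block of dimension four. -/
theorem exists_block_two (h : UniIso B T 2) {U : Submodule F V} (hU : Inv T U) (hn : ND B U) (hne : U ≠ ⊥) :
    ∃ P ≤ U, Inv T P ∧ ND B P ∧ ((finrank F P = 2 ∧
        ((∃ v ∈ U, B v (T v) ≠ 0) ∨ ∃ v ∈ U, ∃ w ∈ U, T v = v ∧ T w = w ∧ B v w ≠ 0)) ∨ finrank F P = 4) := by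
  classical
  have hvan : ∀ x : V, ((T - 1 : Module.End F V) ^ 2) x = 0 := fun x => by rw [h.nilp, LinearMap.zero_apply]
  have hdim : ∀ {P : Submodule F V}, finrank F (P.map ((T - 1) ^ 0)) = finrank F P := fun {P} => by
    rw [pow_zero, Module.End.one_eq_id, Submodule.map_id]
  have hN : ∀ a b, B a ((T - 1) b) = B a (T b) - B a b := fun a b => by
    rw [LinearMap.sub_apply, Module.End.one_apply, map_sub]
  by_cases hA : ∃ v ∈ U, B v (T v) ≠ 0
  · obtain ⟨v, hv, hvv⟩ := hA
    obtain ⟨P, hPU, hPT, hPn, hPr⟩ := h.chain (ι := Unit) (k := 2) (fun _ => v) id (by omega) (fun _ => hvan v)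
      (fun l m hlm => absurd (Subsingleton.elim l m) hlm)
      (fun _ => by rw [show 2 - 1 = 1 from rfl, pow_one, hN, h.alt, sub_zero]; exact hvv) hU (fun _ => hv)
    exact ⟨P, hPU, hPT, hPn, Or.inl ⟨by rw [← hdim, hPr]; simp, Or.inl ⟨v, hv, hvv⟩⟩⟩
  push Not at hA
  by_cases hF : ∃ v ∈ U, ∃ w ∈ U, T v = v ∧ T w = w ∧ B v w ≠ 0
  · obtain ⟨v, hv, w, hw, hTv, hTw, hvw⟩ := hF
    have hfix : ∀ x : V, T x = x → ((T - 1 : Module.End F V) ^ 1) x = 0 := fun x hx => by
      rw [pow_one, LinearMap.sub_apply, Module.End.one_apply, hx, sub_self]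
    obtain ⟨P, hPU, hPT, hPn, hPr⟩ := h.chain (ι := Bool) (k := 1) (fun l => if l then v else w) not le_rfl
      (fun l => by cases l <;> [exact hfix w hTw; exact hfix v hTv])
      (fun l m hlm => by cases l <;> cases m <;> first | exact absurd rfl hlm | simp [h.alt])
      (fun l => by
        cases l
        · simpa [h.skew v w] using hvw
        · simpa using hvw) hU (fun l => by cases l <;> [exact hw; exact hv])
    exact ⟨P, hPU, hPT, hPn, Or.inl ⟨by rw [← hdim, hPr]; simp, Or.inr ⟨v, hv, w, hw, hTv, hTw, hvw⟩⟩⟩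
  push Not at hF
  obtain ⟨v, hv, w, hw, hvw⟩ : ∃ v ∈ U, ∃ w ∈ U, B v ((T - 1) w) ≠ 0 := by
    by_contra hno
    push Not at hno
    obtain ⟨y, hy, hy0⟩ := Submodule.exists_mem_ne_zero_of_ne_bot hne
    have hfix : ∀ x ∈ U, T x = x := fun x hx => by
      refine sub_eq_zero.mp (hn _ (sub_mem (hU x hx) hx) fun u hu => ?_)
      have := hno u hu x hx
      rw [LinearMap.sub_apply, Module.End.one_apply] at this
      exact h.refl _ _ this
    exact hy0 (hn y hy fun u hu => hF y hy u hu (hfix y hy) (hfix u hu))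
  have hz : ∀ a ∈ U, B a ((T - 1) a) = 0 := fun a ha => by rw [hN, hA a ha, h.alt, sub_zero]
  have hwv : B w ((T - 1) v) = B v ((T - 1) w) := by
    have := h.diag (hvan v) (hvan w) 1 0 rfl
    simp only [Nat.reduceSub, pow_one, pow_zero, Module.End.one_apply] at this
    rw [h.skew, this]
    ring
  obtain ⟨P, hPU, hPT, hPn, hPr⟩ := h.chain (ι := Bool) (k := 2) (fun l => if l then v else w) not (by omega)
    (fun l => by cases l <;> [exact hvan w; exact hvan v])
    (fun l m hlm => by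
      rw [show 2 - 1 = 1 from rfl, pow_one]
      cases l <;> cases m <;> first | exact absurd rfl hlm | simpa using hz v hv | simpa using hz w hw)
    (fun l => by
      rw [show 2 - 1 = 1 from rfl, pow_one]
      cases l
      · simp only [Bool.not_false, if_true, Bool.false_eq_true, if_false]
        rwa [hwv]
      · simpa using hvw) hU (fun l => by cases l <;> [exact hw; exact hv])
  exact ⟨P, hPU, hPT, hPn, Or.inr (by rw [← hdim, hPr]; simp)⟩

/-- In dimension two modulo four some vector pairs with its image or two fixed vectors pair. -/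
theorem two_mod_four (h : UniIso B T 2) : ∀ (n : ℕ) (U : Submodule F V), finrank F U ≤ n → Inv T U → ND B U →
    finrank F U % 4 = 2 → ∃ P ≤ U, Inv T P ∧ ND B P ∧ finrank F P = 2 ∧
      ((∃ v ∈ U, B v (T v) ≠ 0) ∨ ∃ v ∈ U, ∃ w ∈ U, T v = v ∧ T w = w ∧ B v w ≠ 0) := by
  intro n
  induction n using Nat.strong_induction_on with
  | _ n ih =>
    intro U hle hU hn hmod
    obtain ⟨P, hPU, hPT, hPn, ⟨hd, hw⟩ | hd⟩ := exists_block_two h hU hn (fun e => by
      rw [e, finrank_bot] at hmod; omega)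
    · exact ⟨P, hPU, hPT, hPn, hd, hw⟩
    · obtain ⟨hQn, -, -, hs⟩ := split_perpIn h.refl hPU hPn hn
      obtain ⟨R, hR, hRT, hRn, hRd, hw⟩ := ih (finrank F (perpIn B P U)) (by omega) _ le_rfl
        (h.inv_perp hPT hU) hQn (by omega)
      refine ⟨R, hR.trans perpIn_le, hRT, hRn, hRd, ?_⟩
      rcases hw with ⟨v, hv, hvv⟩ | ⟨v, hv, w, hw, h1, h2, h3⟩
      · exact Or.inl ⟨v, perpIn_le hv, hvv⟩
      · exact Or.inr ⟨v, perpIn_le hv, w, perpIn_le hw, h1, h2, h3⟩

/-- Invariant non-degenerate subspaces in characteristic two. -/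
theorem exists_sub_two (h : UniIso B T 2) : ∀ (n : ℕ) (U : Submodule F V) (m : ℕ), finrank F U ≤ n → Inv T U → ND B U →
    Even (finrank F U) → Even m → m ≤ finrank F U → (m % 4 = 0 ∨ finrank F U % 4 = 2) →
      ∃ W ≤ U, Inv T W ∧ ND B W ∧ finrank F W = m := by
  intro n
  induction n using Nat.strong_induction_on with
  | _ n ih =>
    intro U m hle hU hn hev hme hm hcond
    rcases Nat.eq_zero_or_pos m with rfl | hm0
    · exact ⟨⊥, bot_le, inv_bot, fun x hx _ => (Submodule.mem_bot F).mp hx, finrank_bot F V⟩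
    rcases eq_or_lt_of_le hm with rfl | hlt
    · exact ⟨U, le_rfl, hU, hn, rfl⟩
    obtain ⟨w, hw⟩ := hev
    obtain ⟨w', hw'⟩ := hme
    obtain ⟨P, hPU, hPT, hPn, hPd, hcase⟩ : ∃ P ≤ U, Inv T P ∧ ND B P ∧ (finrank F P = 2 ∨ finrank F P = 4) ∧
        (finrank F P = 4 → m % 4 = 0) := by
      by_cases h4 : finrank F U % 4 = 2
      · obtain ⟨P, h1, h2, h3, h5, -⟩ := two_mod_four h _ U le_rfl hU hn h4
        exact ⟨P, h1, h2, h3, Or.inl h5, by omega⟩
      · obtain ⟨P, h1, h2, h3, h5⟩ := exists_block_two h hU hn (fun e => by rw [e, finrank_bot] at hlt; omega)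
        exact ⟨P, h1, h2, h3, h5.imp_left And.left, fun _ => hcond.resolve_right h4⟩
    obtain ⟨hQn, -, -, hs⟩ := split_perpIn h.refl hPU hPn hn
    set Q := perpIn B P U
    have hQev : Even (finrank F Q) := ⟨w - finrank F P / 2, by omega⟩
    by_cases hskip : finrank F P = 2 ∧ m % 4 = 0
    · obtain ⟨W, hW, hWT, hWn, hWd⟩ := ih _ (by omega) Q m le_rfl (h.inv_perp hPT hU) hQn hQev ⟨w', hw'⟩
        (by omega) (Or.inl hskip.2)
      exact ⟨W, hW.trans perpIn_le, hWT, hWn, hWd⟩
    · obtain ⟨W, hW, hWT, hWn, hWd⟩ := ih _ (by omega) Q (m - finrank F P) le_rfl (h.inv_perp hPT hU) hQn hQev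
        ⟨w' - finrank F P / 2, by omega⟩ (by omega) (Or.inl (by omega))
      obtain ⟨h1, h3, h4, h5⟩ := glue h.refl hPU hPn hPT hW hWn hWT
      exact ⟨_, h1, h3, h4, by omega⟩

end CfsgLib.PrimeIso
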