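/-
Elements of prime order of the projective symplectic group on totally isotropic subspaces.
-/
import Cfsg.Agent.Lib.PrimeIso.SympNeg

set_option autoImplicit false
set_option linter.unusedSectionVars false

namespace CfsgLib.PrimeIso

open Polynomial Module CfsgLib.MaxSub.Elusive
open scoped Matrix

universe u

variable {F : Type u} [Field F] [Fintype F] {p d : ℕ} [Fact p.Prime] [CharP F p]

theorem two_ne_zero_of_ne_char (hp2 : p ≠ 2) : (2 : F) ≠ 0 := by
  have := CfsgLib.GLClassNumber.natCast_ne_zero_of_prime_ne (F := F) (p := p) Nat.prime_two (Ne.symm hp2)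
  simpa using this

theorem card_odd (hp2 : p ≠ 2) : Fintype.card F % 2 = 1 :=
  FiniteField.odd_card_of_char_ne_two (by rw [ringChar.eq F p]; exact hp2)

/-- Involutions of the projective group with a fixed totally isotropic subspace. -/
theorem exists_fixed_two (hp2 : p ≠ 2) {m : ℕ} (hmd : m ≤ d) (hcond : Even m ∨ Fintype.card F % 4 = 1)
    (x : Matrix.symplecticGroup (Fin d) F) {z : F} (hz : z * z = 1)
    (hx : (x : Matrix (Fin d ⊕ Fin d) (Fin d ⊕ Fin d) F) ^ 2 = z • 1) :
    ∃ W : Submodule F (Fin d ⊕ Fin d → F), finrank F ↥W = m ∧ (∀ u ∈ W, ∀ v ∈ W, Cfsg.sympForm d F u v = 0) ∧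
      W.map (Matrix.toLin' (x : Matrix (Fin d ⊕ Fin d) (Fin d ⊕ Fin d) F)) ≤ W := by
  set T := Matrix.toLin' (x : Matrix (Fin d ⊕ Fin d) (Fin d ⊕ Fin d) F)
  have halt := CfsgLib.IsotropicCount.sympB_alt (m := d) (F := F)
  have h2 : (2 : F) ≠ 0 := two_ne_zero_of_ne_char (p := p) hp2
  have hT2 : T ^ 2 = z • 1 := by
    have h := congrArg (fun M => Matrix.toLinAlgEquiv' M) hx
    simp only [map_pow, map_smul, map_one] at h
    exact h
  have hfr : finrank F (⊤ : Submodule F (Fin d ⊕ Fin d → F)) = 2 * d := by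
    rw [finrank_top, Module.finrank_pi, Fintype.card_sum, Fintype.card_fin, two_mul]
  suffices ∃ W ≤ (⊤ : Submodule F (Fin d ⊕ Fin d → F)), Inv T W ∧
      (∀ u ∈ W, ∀ v ∈ W, CfsgLib.IsotropicCount.sympB d F u v = 0) ∧ finrank F W = m by
    obtain ⟨W, -, hWT, hWts, hWd⟩ := this
    exact ⟨W, hWd, fun u hu v hv => by rw [← CfsgLib.IsotropicCount.sympB_apply]; exact hWts u hu v hv,
      by rintro _ ⟨v, hv, rfl⟩; exact hWT v hv⟩
  have hlin : ∀ (s : F) (P : F[X]), P = (X - C s) * (X + C s) →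
      ∀ g : F[X], Irreducible g → g.Monic → g ∣ P → g.natDegree = 1 := fun s P hP g hgi hgm hg => by
    rw [hP] at hg
    rcases hgi.prime.dvd_or_dvd hg with h | h
    · rw [eq_of_monic_of_associated hgm (monic_X_sub_C s) (hgi.associated_of_dvd (irreducible_X_sub_C s) h),
        natDegree_X_sub_C]
    · have hi' : Irreducible (X + C s) := by simpa using irreducible_X_sub_C (-s)
      rw [eq_of_monic_of_associated hgm (monic_X_add_C s) (hgi.associated_of_dvd hi' h), natDegree_X_add_C]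
  rcases mul_self_eq_one_iff.mp hz with rfl | rfl
  · rw [one_smul] at hT2
    have h : PerIso (CfsgLib.IsotropicCount.sympB d F) T 2 :=
      perIso_of_symp (by exact_mod_cast h2) x (by rw [hx, one_smul])
    obtain ⟨W, hW, hWT, hWts, hWd⟩ := exists_ts halt h (P := (X - C (1 : F)) * (X + C 1))
      ((monic_X_sub_C 1).mul (monic_X_add_C 1)) (hlin 1 _ rfl) inv_top (fun v _ => by
        rw [LinearMap.mem_ker, show (X - C (1 : F)) * (X + C 1) = X ^ 2 - 1 by rw [C_1]; ring, map_sub, map_pow,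
          aeval_X, map_one, hT2, sub_self, LinearMap.zero_apply]) (k := m)
      (Or.inr (by rw [slack, if_neg (by decide), hfr]; omega))
    exact ⟨W, hW, hWT, hWts, by rw [hWd, mul_one]⟩
  · have hT4 : (x : Matrix (Fin d ⊕ Fin d) (Fin d ⊕ Fin d) F) ^ 4 = 1 := by
      rw [show 4 = 2 * 2 from rfl, pow_mul, hx, _root_.smul_pow, one_pow, neg_one_sq, one_smul]
    have h4 : ((4 : ℕ) : F) ≠ 0 := by
      rw [show ((4 : ℕ) : F) = 2 * 2 by norm_num]
      exact mul_ne_zero h2 h2
    have h : PerIso (CfsgLib.IsotropicCount.sympB d F) T 4 := perIso_of_symp h4 x hT4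
    have hker : ∀ v ∈ (⊤ : Submodule F (Fin d ⊕ Fin d → F)), v ∈ LinearMap.ker (aeval T (X ^ 2 + 1 : F[X])) :=
      fun v _ => by
        rw [LinearMap.mem_ker, map_add, map_pow, aeval_X, map_one, hT2]
        simp
    have hmon : (X ^ 2 + 1 : F[X]).Monic := by simpa using monic_X_pow_add_C (1 : F) two_ne_zero
    by_cases hq : Fintype.card F % 4 = 1
    · obtain ⟨s, hs⟩ := FiniteField.isSquare_neg_one_iff.mpr (show Fintype.card F % 4 ≠ 3 by omega)
      obtain ⟨W, hW, hWT, hWts, hWd⟩ := exists_ts halt h hmon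
        (hlin s _ (by
          rw [show (X - C s) * (X + C s) = X ^ 2 - C s * C s by ring, ← C_mul, ← hs, C_neg, C_1, sub_neg_eq_add]))
        inv_top hker (k := m) (Or.inr (by rw [slack, if_neg (by decide), hfr]; omega))
      exact ⟨W, hW, hWT, hWts, by rw [hWd, mul_one]⟩
    · obtain ⟨k, hk⟩ := hcond.resolve_right hq
      have hnot : ¬ IsSquare (-1 : F) := fun hsq => by
        have := FiniteField.isSquare_neg_one_iff.mp hsq
        have := card_odd (F := F) (p := p) hp2
        omega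
      have hirr : Irreducible (X ^ 2 + 1 : F[X]) := by
        have hd2 : (X ^ 2 + 1 : F[X]).natDegree = 2 := by simpa using natDegree_X_pow_add_C (n := 2) (r := (1 : F))
        rw [Polynomial.irreducible_iff_roots_eq_zero_of_degree_le_three (by omega) (by omega),
          Multiset.eq_zero_iff_forall_notMem]
        intro s hs
        rw [mem_roots'] at hs
        have h0 := hs.2
        simp only [IsRoot.def, eval_add, eval_pow, eval_X, eval_one] at h0
        exact hnot ⟨s, by linear_combination -h0⟩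
      obtain ⟨W, hW, hWT, hWts, hWd⟩ := exists_ts halt h hmon (i := 2) (fun g hgi hgm hg => by
          rw [eq_of_monic_of_associated hgm hmon (hgi.associated_of_dvd hirr hg)]
          simpa using natDegree_X_pow_add_C (n := 2) (r := (1 : F)))
        inv_top hker (k := k) (Or.inr (by
          rw [slack, if_pos (by decide), hfr, show (X ^ 2 + 1 : F[X]).natDegree = 2 by
            simpa using natDegree_X_pow_add_C (n := 2) (r := (1 : F))]
          omega))
      exact ⟨W, hW, hWT, hWts, by rw [hWd]; omega⟩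

/-- A quarter turn fixing no totally isotropic subspace of odd dimension. -/
theorem quarter_turn_free {m : ℕ} (hm : Odd m) (hq : Fintype.card F % 4 = 3) :
    ∀ W : Submodule F (Fin d ⊕ Fin d → F), finrank F ↥W = m →
      ¬ W.map (Matrix.toLin' (Matrix.J (Fin d) F)) ≤ W := by
  intro W hWm hW
  set T := Matrix.toLin' (Matrix.J (Fin d) F)
  let S : W →ₗ[F] W := T.restrict fun v hv => hW ⟨v, hv, rfl⟩
  have hS : S * S = (-1 : F) • 1 := LinearMap.ext fun v => Subtype.ext (by
    show T (T v.1) = (-1 : F) • v.1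
    rw [Matrix.toLin'_apply, Matrix.toLin'_apply, Matrix.mulVec_mulVec, Matrix.J_squared, Matrix.neg_mulVec,
      Matrix.one_mulVec, neg_one_smul])
  have h := congrArg LinearMap.det hS
  rw [map_mul, LinearMap.det_smul, map_one, mul_one, hWm, hm.neg_one_pow] at h
  exact (FiniteField.isSquare_neg_one_iff.mp ⟨_, h.symm⟩) hq

/-- The criterion for totally isotropic subspaces. -/
theorem symp_isotropic (hd : 2 ≤ d) {m : ℕ} (hmd : m ≤ d) {r : ℕ} [Fact r.Prime]
    (hrΩ : r ∣ Nat.card {W : Submodule F (Fin d ⊕ Fin d → F) // Module.finrank F ↥W = m ∧ (∀ u ∈ W, ∀ v ∈ W, Cfsg.sympForm d F u v = 0)})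
    (i c : ℕ) (hi : i = orderOf (Fintype.card F : ZMod r)) (hc : c = if Even i then i else 2 * i) :
    (∀ x : ↥(Matrix.symplecticGroup (Fin d) F),
      (∃ z : F, ((x ^ r : ↥(Matrix.symplecticGroup (Fin d) F)) : Matrix (Fin d ⊕ Fin d) (Fin d ⊕ Fin d) F) = z • (1 : Matrix (Fin d ⊕ Fin d) (Fin d ⊕ Fin d) F)) →
      (∀ z : F, (x : Matrix (Fin d ⊕ Fin d) (Fin d ⊕ Fin d) F) ≠ z • (1 : Matrix (Fin d ⊕ Fin d) (Fin d ⊕ Fin d) F)) →
      ∃ W : Submodule F (Fin d ⊕ Fin d → F), Module.finrank F ↥W = m ∧ (∀ u ∈ W, ∀ v ∈ W, Cfsg.sympForm d F u v = 0) ∧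
        W.map (Matrix.toLin' (x : Matrix (Fin d ⊕ Fin d) (Fin d ⊕ Fin d) F)) ≤ W) ↔
    ((r = 2 ∧ p ≠ 2 ∧ (Even m ∨ Fintype.card F % 4 = 1)) ∨
     (r ≠ p ∧ 2 < r ∧ i ≤ m ∧ 2 * (m % i) ≤ (2 * d) % c ∧ (Odd i ∨ (r - 1) / i + 2 * (m / i) ≤ (2 * d) / i))) := by
  have hr : r.Prime := Fact.out
  obtain ⟨hrp, j, hj, hdvd⟩ := dvd_count (F := F) (p := p) hmd hrΩ
  rw [← hi] at hdvd
  have hipos : 0 < i := hi ▸ order_pos (F := F) hrp
  rcases hr.eq_two_or_odd' with rfl | hodd
  · have hp2 : p ≠ 2 := Ne.symm hrp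
    constructor
    · intro H
      by_contra hc'
      push Not at hc'
      obtain ⟨hmo, hq⟩ := hc'.1 rfl hp2
      have hq3 : Fintype.card F % 4 = 3 := by
        have := card_odd (F := F) (p := p) hp2
        omega
      let J : Matrix.symplecticGroup (Fin d) F := ⟨Matrix.J (Fin d) F, SymplecticGroup.J_mem _ _⟩
      obtain ⟨W, hWm, -, hW⟩ := H J ⟨-1, by
          show Matrix.J (Fin d) F ^ 2 = _
          rw [pow_two, Matrix.J_squared, neg_one_smul]⟩ (fun z hz => by
          have h0 := congrFun (congrFun hz (Sum.inl ⟨0, by omega⟩)) (Sum.inr ⟨0, by omega⟩)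
          simp [J, Matrix.J] at h0)
      exact quarter_turn_free (Nat.not_even_iff_odd.mp hmo) hq3 W hWm hW
    · rintro (⟨-, -, hcond⟩ | ⟨-, h2, -⟩)
      · rintro x ⟨z, hz⟩ -
        refine exists_fixed_two (p := p) hp2 hmd hcond x (z := z) ?_ (by simpa using hz)
        exact symp_scalar_sq (by omega) (x ^ 2) hz
      · omega
  · have h2 : 2 < r := by have := hr.two_le; rcases hodd with ⟨s, rfl⟩; omega
    have hcdvd : c ∣ 2 * d - 2 * j := by
      rw [hc]
      split_ifs with he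
      · exact hdvd
      · rw [← Nat.mul_sub] at hdvd ⊢
        exact Nat.mul_dvd_mul_left 2
          (((Nat.coprime_two_right).mpr (Nat.not_even_iff_odd.mp he)).dvd_of_dvd_mul_left hdvd)
    have hcpos : 0 < c := by rw [hc]; split_ifs <;> omega
    have hcd : c ≤ 2 * d := le_trans (Nat.le_of_dvd (by omega) hcdvd) (Nat.sub_le _ _)
    have hlt : (2 * d) % c < 2 * m := by
      obtain ⟨e, he⟩ := hcdvd
      have h1 : 2 * d = 2 * j + c * e := by omega
      rw [h1, Nat.add_mul_mod_self_left]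
      exact lt_of_le_of_lt (Nat.mod_le _ _) (by omega)
    constructor
    · intro H
      refine Or.inr ⟨hrp, h2, ?_⟩
      by_contra hfail
      push Not at hfail
      have hfail' : ¬ (2 * (m % i) ≤ (2 * d) % c ∧ (Odd i ∨ (r - 1) / i + 2 * (m / i) ≤ (2 * d) / i)) := by
        rintro ⟨h3, h4⟩
        by_cases him : i ≤ m
        · obtain ⟨h5, h6⟩ := hfail him h3
          rcases h4 with h4 | h4
          · exact h5 h4
          · omega
        · rw [Nat.mod_eq_of_lt (by omega)] at h3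
          omega
      obtain ⟨x, hx, hx1, hfree⟩ := exists_free (F := F) (p := p) (d := d) hrp hi hc hcd hfail' (Or.inr hlt)
      obtain ⟨W, hWm, hWts, hW⟩ := H x ⟨1, by rw [hx, one_smul]; rfl⟩ (fun z hz => hx1 (Subtype.ext (by
        have hsq := symp_scalar_sq (by omega) x hz
        have hxr : (x : Matrix (Fin d ⊕ Fin d) (Fin d ⊕ Fin d) F) ^ r = 1 := by simpa using congrArg Subtype.val hx
        rcases mul_self_eq_one_iff.mp hsq with rfl | rfl
        · rw [hz, one_smul]; rfl
        · rw [hz, _root_.smul_pow, one_pow, hodd.neg_one_pow] at hxr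
          rw [hz, hxr]; rfl)))
      exact hfree W hWm hWts hW
    · rintro (⟨h3, -⟩ | ⟨-, -, -, h4, h5⟩)
      · omega
      rintro x ⟨z, hz⟩ -
      have hxr : (x : Matrix (Fin d ⊕ Fin d) (Fin d ⊕ Fin d) F) ^ r = z • 1 := by simpa using hz
      rcases mul_self_eq_one_iff.mp (symp_scalar_sq (by omega) (x ^ r) hz) with rfl | rfl
      · exact exists_fixed (p := p) hrp x (by rw [hxr, one_smul]) hi hmd ⟨hc ▸ h4, h5⟩
      · obtain ⟨W, hWm, hWts, hW⟩ := exists_fixed (p := p) hrp
          (⟨-(x : Matrix (Fin d ⊕ Fin d) (Fin d ⊕ Fin d) F), SymplecticGroup.neg_mem x.2⟩ : Matrix.symplecticGroup (Fin d) F) (by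
          rw [hodd.neg_pow, hxr, neg_one_smul, neg_neg]) hi hmd ⟨hc ▸ h4, h5⟩
        refine ⟨W, hWm, hWts, ?_⟩
        rintro _ ⟨v, hv, rfl⟩
        have h6 := hW ⟨v, hv, rfl⟩
        rw [Matrix.toLin'_apply, Matrix.neg_mulVec, neg_mem_iff] at h6
        rwa [Matrix.toLin'_apply]

end CfsgLib.PrimeIso
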