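/-
Elements of odd prime order of the projective symplectic group on orthogonal decompositions into
non-degenerate subspaces of equal dimension.
-/
import Cfsg.Agent.Lib.PrimeIso.SympIsotropic
import Cfsg.Agent.Lib.PrimeIso.AltBlocks
import Cfsg.Agent.Lib.MaxSub.ElusiveImprimTools

set_option autoImplicit false
set_option linter.unusedSectionVars false

namespace CfsgLib.PrimeIso

open Polynomial Module CfsgLib.MaxSub.Elusive
open scoped Matrix

universe u v

variable {F : Type u} [Field F] [Fintype F] {p r d : ℕ} [Fact p.Prime] [CharP F p]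

section general

variable {V : Type v} [AddCommGroup V] [Module F V] [FiniteDimensional F V] {B : V →ₗ[F] V →ₗ[F] F}
  {T : Module.End F V}

/-- The fixed part and the rest of a non-degenerate invariant subspace. -/
theorem nd_split (h : PerIso B T r) {W : Submodule F V} (hW : Inv T W) (hn : ND B W) :
    ND B (W ⊓ LinearMap.ker (aeval T (X - C (1 : F)))) ∧ ND B (W ⊓ LinearMap.ker (aeval T (geom F r))) ∧
      (W ⊓ LinearMap.ker (aeval T (X - C (1 : F)))) ⊔ (W ⊓ LinearMap.ker (aeval T (geom F r))) = W := by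
  set A := W ⊓ LinearMap.ker (aeval T (X - C (1 : F))) with hA
  set C' := W ⊓ LinearMap.ker (aeval T (geom F r)) with hC
  have hsum : finrank F A + finrank F C' = finrank F W := finrank_split h hW
  have hinf : A ⊓ C' = ⊥ := (Submodule.eq_bot_iff _).mpr fun x hx => (fix_perp h hx.1.2 hx.2.2).2 rfl
  have hd := Submodule.finrank_sup_add_finrank_inf_eq A C'
  rw [hinf, finrank_bot, add_zero] at hd
  have hsup : A ⊔ C' = W := Submodule.eq_of_le_of_finrank_eq (sup_le inf_le_left inf_le_left) (by omega)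
  refine ⟨fun x hx hp => hn x hx.1 fun y hy => ?_, fun x hx hp => hn x hx.1 fun y hy => ?_, hsup⟩
  · obtain ⟨a, ha, c, hc, rfl⟩ := Submodule.mem_sup.mp (hsup.ge hy)
    rw [map_add, hp a ha, (fix_perp h hx.2 hc.2).1, add_zero]
  · obtain ⟨a, ha, c, hc, rfl⟩ := Submodule.mem_sup.mp (hsup.ge hy)
    rw [map_add, hp c hc, h.refl a x (fix_perp h ha.2 hx.2).1, add_zero]

variable [Fact r.Prime]

/-- Invariant non-degenerate subspaces inside the two parts. -/
theorem exists_part_dims (halt : ∀ x, B x x = 0) (hrp : r ≠ p) (h : PerIso B T r) {i c : ℕ}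
    (hi : i = orderOf (Fintype.card F : ZMod r)) (hc : c = if Even i then i else 2 * i) {W : Submodule F V}
    (hW : Inv T W) (hn : ND B W) :
    (c ∣ finrank F ↥(W ⊓ LinearMap.ker (aeval T (geom F r))) ∧
      ∀ k, k * c ≤ finrank F ↥(W ⊓ LinearMap.ker (aeval T (geom F r))) →
        ∃ Y ≤ W ⊓ LinearMap.ker (aeval T (geom F r)), Inv T Y ∧ ND B Y ∧ finrank F Y = k * c) ∧
    (2 ∣ finrank F ↥(W ⊓ LinearMap.ker (aeval T (X - C (1 : F)))) ∧
      ∀ k, k * 2 ≤ finrank F ↥(W ⊓ LinearMap.ker (aeval T (X - C (1 : F)))) →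
        ∃ Y ≤ W ⊓ LinearMap.ker (aeval T (X - C (1 : F))), Inv T Y ∧ ND B Y ∧ finrank F Y = k * 2) := by
  obtain ⟨h1, h2, -⟩ := nd_split h hW hn
  have hr : r.Prime := Fact.out
  refine ⟨exists_nd_dim halt h (geom_monic hr.pos) (hi ▸ order_pos (F := F) hrp) hc
      (fun g a b e => hi ▸ geom_degree (p := p) hr hrp a b e)
      (fun he g a _ e => dvd_reverse (p := p) hrp (hi ▸ he) a e) (hW.inf (inv_ker _)) inf_le_right h2,
    exists_nd_dim halt h (monic_X_sub_C (1 : F)) (i := 1) Nat.one_pos (by simp)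
      (fun g a b e => by
        rw [eq_of_monic_of_associated b (monic_X_sub_C 1) (a.associated_of_dvd (irreducible_X_sub_C 1) e),
          natDegree_X_sub_C])
      (fun he => absurd he (by decide)) (hW.inf (inv_ker _)) inf_le_right h1⟩

/-- Splitting a non-degenerate invariant subspace into invariant blocks of dimension `a`. -/
theorem exists_parts_blocks (halt : ∀ x, B x x = 0) (hrp : r ≠ p) (h : PerIso B T r) {i c a : ℕ}
    (hi : i = orderOf (Fintype.card F : ZMod r)) (hc : c = if Even i then i else 2 * i) (hae : Even a) :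
    ∀ (t : ℕ) (U : Submodule F V), Inv T U → ND B U → finrank F U = a * t →
      t * (a % c) ≤ finrank F ↥(U ⊓ LinearMap.ker (aeval T (X - C (1 : F)))) →
      ∃ D : Fin t → Submodule F V, (∀ j, D j ≤ U ∧ Inv T (D j) ∧ ND B (D j) ∧ finrank F (D j) = a) ∧
        (∀ j j', j ≠ j' → ∀ x ∈ D j, ∀ y ∈ D j', B x y = 0) ∧ iSup D = U := by
  intro t
  induction t with
  | zero =>
    intro U _ _ hdim _
    refine ⟨Fin.elim0, fun j => j.elim0, fun j => j.elim0, ?_⟩
    rw [mul_zero, Submodule.finrank_eq_zero] at hdim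
    rw [hdim]
    exact eq_bot_iff.mpr (iSup_le fun j => j.elim0)
  | succ t ih =>
    intro U hU hn hdim hfix
    obtain ⟨⟨⟨e, he⟩, hR⟩, ⟨-, hF⟩⟩ := exists_part_dims (p := p) halt hrp h hi hc hU hn
    set f := finrank F ↥(U ⊓ LinearMap.ker (aeval T (X - C (1 : F)))) with hf
    have hfe : f + c * e = a * t + a := by
      rw [hf, ← he, finrank_split h hU, hdim, Nat.mul_succ]
    have hcpos : 0 < c := by
      have := order_pos (F := F) (p := p) (r := r) hrp
      rw [hc]; split_ifs <;> omega
    have hce : Even c := by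
      rw [hc]; split_ifs with h'
      · exact h'
      · exact even_two_mul i
    have hdm := Nat.div_add_mod' a c
    set kk := min (a / c) e with hkk
    have hkc : kk * c ≤ a := le_trans (Nat.mul_le_mul_right c (min_le_left _ _)) (by omega)
    obtain ⟨w, hw⟩ : Even (a - kk * c) := (Nat.even_sub hkc).mpr (iff_of_true hae (hce.mul_left kk))
    have hwf : a - kk * c ≤ f := by
      rcases le_total (a / c) e with h1 | h1
      · rw [hkk, min_eq_left h1]
        have : a % c ≤ f := le_trans (Nat.le_mul_of_pos_left _ (Nat.succ_pos t)) hfix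
        omega
      · rw [hkk, min_eq_right h1, mul_comm e c]; omega
    obtain ⟨Y₁, hY₁, hY₁T, hY₁n, hY₁d⟩ := hR kk (by rw [he, mul_comm c e]; exact Nat.mul_le_mul_right c (min_le_right _ _))
    obtain ⟨Y₂, hY₂, hY₂T, hY₂n, hY₂d⟩ := hF w (by omega)
    set Y := Y₂ ⊔ Y₁
    have hYU : Y ≤ U := sup_le (hY₂.trans inf_le_left) (hY₁.trans inf_le_left)
    have hYn : ND B Y := by
      intro z hz hp
      obtain ⟨a', ha', b', hb', rfl⟩ := Submodule.mem_sup.mp hz
      have hperp : ∀ x ∈ Y₂, ∀ y ∈ Y₁, B x y = 0 := fun x hx y hy => (fix_perp h (hY₂ hx).2 (hY₁ hy).2).1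
      have ha0 : a' = 0 := hY₂n a' ha' fun y hy => by
        have h1 := hp y (Submodule.mem_sup_left hy)
        rwa [map_add, LinearMap.add_apply, h.refl y b' (hperp y hy b' hb'), add_zero] at h1
      subst ha0
      rw [zero_add] at hp ⊢
      exact hY₁n b' hb' fun y hy => hp y (Submodule.mem_sup_right hy)
    have hYd : finrank F Y = a := by
      have h1 := Submodule.finrank_sup_add_finrank_inf_eq Y₂ Y₁
      have h0 : Y₂ ⊓ Y₁ = ⊥ := (Submodule.eq_bot_iff _).mpr fun x hx => (fix_perp h (hY₂ hx.1).2 (hY₁ hx.2).2).2 rfl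
      rw [h0, finrank_bot, add_zero] at h1
      change finrank F Y = _ at h1
      omega
    obtain ⟨hQn, hinf, hsup, hQd⟩ := split_perpIn h.refl hYU hYn hn
    set Q := perpIn B Y U
    have hQT : Inv T Q := inv_perpIn h (hY₂T.sup hY₁T) hU
    have hQdim : finrank F Q = a * t := by rw [hdim, Nat.mul_succ] at hQd; omega
    have hQR : finrank F ↥(Q ⊓ LinearMap.ker (aeval T (geom F r))) + kk * c ≤ c * e := by
      have h1 := Submodule.finrank_sup_add_finrank_inf_eq (Q ⊓ LinearMap.ker (aeval T (geom F r))) Y₁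
      have h2 : Q ⊓ LinearMap.ker (aeval T (geom F r)) ⊓ Y₁ = ⊥ :=
        le_bot_iff.mp (((inf_le_inf inf_le_left (le_sup_right : Y₁ ≤ Y)).trans (inf_comm _ _).le).trans hinf.le)
      have h3 := Submodule.finrank_mono (sup_le (inf_le_inf_right _ perpIn_le) hY₁ :
        Q ⊓ LinearMap.ker (aeval T (geom F r)) ⊔ Y₁ ≤ U ⊓ LinearMap.ker (aeval T (geom F r)))
      rw [h2, finrank_bot, add_zero, hY₁d] at h1
      rw [he] at h3
      omega
    have hQfix : t * (a % c) ≤ finrank F ↥(Q ⊓ LinearMap.ker (aeval T (X - C (1 : F)))) := by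
      have h1 := finrank_split h hQT
      rw [Nat.succ_mul] at hfix
      have h2 : t * (a % c) ≤ a * t := by rw [mul_comm a]; exact Nat.mul_le_mul_left t (Nat.mod_le a c)
      rcases le_total (a / c) e with h3 | h3
      · rw [hkk, min_eq_left h3] at hQR; omega
      · rw [hkk, min_eq_right h3, mul_comm e c] at hQR; omega
    obtain ⟨D, hD, hDo, hDs⟩ := ih Q hQT hQn hQdim hQfix
    refine ⟨Fin.cons Y D, Fin.cases ⟨hYU, hY₂T.sup hY₁T, hYn, hYd⟩
      (fun j => ⟨(hD j).1.trans perpIn_le, (hD j).2.1, (hD j).2.2.1, (hD j).2.2.2⟩), ?_, ?_⟩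
    · refine Fin.cases (Fin.cases (fun hne => absurd rfl hne) fun j' _ x hx y hy => ?_)
        (fun j => Fin.cases (fun _ x hx y hy => ?_) fun j' hne => ?_)
      · rw [Fin.cons_zero] at hx
        rw [Fin.cons_succ] at hy
        exact ((hD j').1 hy).2 x hx
      · rw [Fin.cons_succ] at hx
        rw [Fin.cons_zero] at hy
        exact h.refl y x (((hD j).1 hx).2 y hy)
      · simp only [Fin.cons_succ]
        exact hDo j j' fun e' => hne (congrArg Fin.succ e')
    · rw [← hsup, ← hDs]
      refine le_antisymm (iSup_le (Fin.cases ?h1 fun j => ?h2)) (sup_le ?h3 (iSup_le fun j => ?h4))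
      case h1 => rw [Fin.cons_zero]; exact le_sup_left
      case h2 => rw [Fin.cons_succ]; exact le_sup_of_le_right (le_iSup D j)
      case h3 => simpa using le_iSup (Fin.cons Y D : Fin (t + 1) → Submodule F V) 0
      case h4 => simpa using le_iSup (Fin.cons Y D : Fin (t + 1) → Submodule F V) j.succ

end general

section decomp

variable {V : Type v} [AddCommGroup V] [Module F V] [FiniteDimensional F V] {t a : ℕ}
  (D : Fin t → Submodule F V)

/-- The coordinates of a decomposition. -/
theorem exists_coords (hd : ∀ j, finrank F (D j) = a) (hn : finrank F V = a * t) (htop : iSup D = ⊤) :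
    ∃ Φ : (∀ j, D j) ≃ₗ[F] V, ∀ w, Φ w = ∑ j, (w j : V) := by
  let L : (∀ j, D j) →ₗ[F] V := ∑ j, (D j).subtype.comp (LinearMap.proj j)
  have hL : ∀ w, L w = ∑ j, (w j : V) := fun w => by simp [L, LinearMap.sum_apply]
  have hsurj : Function.Surjective L := by
    rw [← LinearMap.range_eq_top, eq_top_iff, ← htop]
    refine iSup_le fun j v hv => ⟨Pi.single j ⟨v, hv⟩, ?_⟩
    rw [hL, Finset.sum_eq_single j (fun i _ hi => by simp [Pi.single_eq_of_ne hi])
      (fun hj => absurd (Finset.mem_univ j) hj)]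
    simp
  have hdim : finrank F (∀ j, D j) = finrank F V := by
    rw [Module.finrank_pi_fintype, hn, Finset.sum_congr rfl fun j _ => hd j]
    simp [mul_comm]
  exact ⟨LinearEquiv.ofBijective L ⟨(LinearMap.injective_iff_surjective_of_finrank_eq_finrank hdim).mpr hsurj, hsurj⟩,
    fun w => hL w⟩

variable {D} (T : Module.End F V) {σ : Equiv.Perm (Fin t)} (hσ : ∀ j, (D j).map T = D (σ j))
include hσ

/-- A moved part costs fixed vectors and spares some. -/
theorem cycle_bounds {r : ℕ} (hr : r.Prime) (hT : T ^ r = 1) (hdisj : ∀ j j', D j = D j' → j = j')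
    (Φ : (∀ j, D j) ≃ₗ[F] V) (hΦ : ∀ w, Φ w = ∑ j, (w j : V)) (hd : ∀ j, finrank F (D j) = a) {j : Fin t}
    (hj : σ j ≠ j) :
    a ≤ finrank F (LinearMap.ker (aeval T (X - C (1 : F)))) ∧
      finrank F (LinearMap.ker (aeval T (X - C (1 : F)))) + (r - 1) * a ≤ a * t := by
  classical
  have hcast : ∀ (v : V) {l l' : Fin t}, l = l' → ((Φ.symm v) l : V) = (Φ.symm v) l' := by
    rintro v l l' rfl
    rfl
  have hcoord : ∀ v l, ((Φ.symm (T v)) (σ l) : V) = T ((Φ.symm v) l : V) := by
    intro v l
    let w : ∀ m, D m := fun m => ⟨T ((Φ.symm v) (σ.symm m) : V), by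
      have h1 : T ((Φ.symm v) (σ.symm m) : V) ∈ (D (σ.symm m)).map T := ⟨_, SetLike.coe_mem _, rfl⟩
      rwa [hσ, Equiv.apply_symm_apply] at h1⟩
    have hw : Φ w = T v := by
      rw [hΦ]
      conv_rhs => rw [← Φ.apply_symm_apply v, hΦ, map_sum]
      exact Equiv.sum_comp σ.symm fun m => T ((Φ.symm v) m : V)
    have hw' : Φ.symm (T v) = w := by rw [← hw, Φ.symm_apply_apply]
    rw [hw']
    exact congrArg T (hcast v (σ.symm_apply_apply l))
  have hpowmap : ∀ (k : ℕ) l, (D l).map (T ^ k) = D ((σ ^ k) l) := by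
    intro k
    induction k with
    | zero => intro l; simp [Module.End.one_eq_id]
    | succ k ih =>
      intro l
      rw [pow_succ', Module.End.mul_eq_comp, Submodule.map_comp, ih, hσ, pow_succ', Equiv.Perm.mul_apply]
  have hper : ∀ l, Function.IsPeriodicPt σ r l := fun l => by
    refine hdisj _ _ ?_
    rw [← Equiv.Perm.coe_pow, ← hpowmap, hT, Module.End.one_eq_id, Submodule.map_id]
  have hmin : Function.minimalPeriod σ j = r := by
    rcases hr.eq_one_or_self_of_dvd _ (hper j).minimalPeriod_dvd with h1 | h1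
    · exact absurd (Function.minimalPeriod_eq_one_iff_isFixedPt.mp h1) hj
    · exact h1
  have horb : ∀ k l : ℕ, k < r → l < r → (σ ^ k) j = (σ ^ l) j → k = l := fun k l hk hl he => by
    refine Function.iterate_injOn_Iio_minimalPeriod (f := σ) (x := j) (by simpa [hmin] using hk)
      (by simpa [hmin] using hl) ?_
    simpa only [← Equiv.Perm.coe_pow] using he
  have hcoordpow : ∀ (k : ℕ) v l, ((Φ.symm ((T ^ k) v)) ((σ ^ k) l) : V) = (T ^ k) ((Φ.symm v) l : V) := by
    intro k
    induction k with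
    | zero => intro v l; exact hcast v (by simp)
    | succ k ih =>
      intro v l
      rw [hcast _ (show (σ ^ (k + 1)) l = σ ((σ ^ k) l) by rw [pow_succ', Equiv.Perm.mul_apply]), pow_succ',
        Module.End.mul_apply, hcoord, ih, Module.End.mul_apply]
  have hfixmem : ∀ v, v ∈ LinearMap.ker (aeval T (X - C (1 : F))) ↔ T v = v := fun v => by
    simp [sub_eq_zero]
  refine ⟨?_, ?_⟩
  · let L : D j →ₗ[F] V := (∑ k ∈ Finset.range r, T ^ k).comp (D j).subtype
    have hLfix : LinearMap.range L ≤ LinearMap.ker (aeval T (X - C (1 : F))) := by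
      rintro _ ⟨v, rfl⟩
      rw [hfixmem]
      have h1 := congrArg (fun Q : Module.End F V => Q (v : V)) (mul_geom_sum T r)
      rw [hT, sub_self] at h1
      simp only [Module.End.mul_apply, LinearMap.sub_apply, Module.End.one_apply, LinearMap.zero_apply,
        sub_eq_zero] at h1
      exact h1
    have hinj : Function.Injective L := by
      refine (injective_iff_map_eq_zero L).mpr fun v hv => ?_
      have h1 : ∀ (k : ℕ), k < r → ((Φ.symm ((T ^ k) (v : V))) j : V) = if k = 0 then (v : V) else 0 := by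
        intro k hk
        have hsingle : Φ.symm (v : V) = Pi.single j v := by
          rw [LinearEquiv.symm_apply_eq, hΦ, Finset.sum_eq_single j (fun i _ hi => by simp [Pi.single_eq_of_ne hi])
            (fun h => absurd (Finset.mem_univ j) h)]
          simp
        split_ifs with h0
        · subst h0
          rw [pow_zero, Module.End.one_apply, hsingle]; simp
        · obtain ⟨l, hl⟩ := (σ ^ k).surjective j
          have hlj : l ≠ j := fun e => by
            subst e
            exact h0 (horb k 0 hk hr.pos (by simpa using hl))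
          rw [← hcast _ hl, hcoordpow, hsingle, Pi.single_eq_of_ne hlj]
          simp
      have h2 : ((Φ.symm (L v)) j : V) = (v : V) := by
        simp only [L, LinearMap.comp_apply, Submodule.subtype_apply, LinearMap.sum_apply, map_sum, Finset.sum_apply,
          Submodule.coe_sum]
        rw [Finset.sum_congr rfl fun k hk => h1 k (Finset.mem_range.mp hk)]
        simp [hr.pos]
      rw [hv, map_zero] at h2
      exact Subtype.ext h2.symm
    rw [← hd j, ← LinearMap.finrank_range_of_inj hinj]
    exact Submodule.finrank_mono hLfix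
  · let O : Finset (Fin t) := (Finset.Ico 1 r).image fun k => (σ ^ k) j
    have hO : O.card = r - 1 := by
      rw [Finset.card_image_of_injOn, Nat.card_Ico]
      intro k hk l hl he
      simp only [Finset.coe_Ico, Set.mem_Ico] at hk hl
      exact horb k l hk.2 hl.2 he
    let R : LinearMap.ker (aeval T (X - C (1 : F))) →ₗ[F] (∀ l : {l // l ∉ O}, D l) :=
      { toFun := fun v l => (Φ.symm (v : V)) l
        map_add' := fun v w => by ext l; simp
        map_smul' := fun c v => by ext l; simp }
    have hinj : Function.Injective R := by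
      refine (injective_iff_map_eq_zero R).mpr fun v hv => ?_
      have hfix : ∀ k : ℕ, (T ^ k) (v : V) = v := fun k => by
        induction k with
        | zero => rfl
        | succ k ih => rw [pow_succ', Module.End.mul_apply, ih, (hfixmem _).mp v.2]
      have hz : ∀ l ∉ O, (Φ.symm (v : V)) l = 0 := fun l hl => congrFun hv ⟨l, hl⟩
      have hjO : j ∉ O := fun hm => by
        obtain ⟨k, hk, he⟩ := Finset.mem_image.mp hm
        rw [Finset.mem_Ico] at hk
        have := horb k 0 hk.2 hr.pos (by simpa using he)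
        omega
      have hall : ∀ l, (Φ.symm (v : V)) l = 0 := fun l => by
        by_cases hl : l ∈ O
        · obtain ⟨k, hk, rfl⟩ := Finset.mem_image.mp hl
          refine Subtype.ext ?_
          rw [← hfix k, hcoordpow, hz j hjO, Submodule.coe_zero, map_zero, Submodule.coe_zero]
        · exact hz l hl
      refine Subtype.ext (Φ.symm.injective ?_)
      rw [Submodule.coe_zero, map_zero]
      exact funext hall
    have h1 := LinearMap.finrank_le_finrank_of_injective hinj
    rw [Module.finrank_pi_fintype, Finset.sum_congr rfl fun (l : {l // l ∉ O}) _ => hd l.1, Finset.sum_const,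
      Finset.card_univ, Fintype.card_subtype_compl, Fintype.card_fin, Fintype.card_coe, hO, smul_eq_mul] at h1
    have hle : r - 1 ≤ t := by rw [← hO]; simpa using Finset.card_le_univ O
    obtain ⟨t', rfl⟩ := Nat.exists_eq_add_of_le hle
    rw [Nat.add_sub_cancel_left] at h1
    rw [mul_add, mul_comm a (r - 1), mul_comm a t']
    omega

end decomp

section group

variable {a t : ℕ}

/-- The orthogonal decompositions. -/
abbrev Decomps (F : Type u) [Field F] (d a t : ℕ) : Type u :=
  {D : Fin t → Submodule F (Fin d ⊕ Fin d → F) // (Cfsg.Geo.IsMDecomposition a D ∧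
    (∀ j, ∀ u ∈ D j, u ≠ 0 → ∃ v ∈ D j, Cfsg.sympForm d F u v ≠ 0) ∧
    (∀ j j', j ≠ j' → ∀ u ∈ D j, ∀ v ∈ D j', Cfsg.sympForm d F u v = 0))}

theorem nd_of_decomp (D : Decomps F d a t) (j : Fin t) : ND (CfsgLib.IsotropicCount.sympB d F) (D.1 j) :=
  fun x hx hp => by
    by_contra h0
    obtain ⟨v, hv, hne⟩ := D.2.2.1 j x hx h0
    exact hne (by rw [← CfsgLib.IsotropicCount.sympB_apply]; exact hp v hv)

/-- The number of decompositions divides the order of the symplectic group. -/
theorem card_decomps_dvd (hat : 2 * d = a * t) (h0 : ¬ IsEmpty (Decomps F d a t)) :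
    Nat.card (Decomps F d a t) ∣ Nat.card (Matrix.symplecticGroup (Fin d) F) := by
  classical
  let G := Matrix.symplecticGroup (Fin d) F
  rcases isEmpty_or_nonempty (Decomps F d a t) with hem | hne
  · exact absurd hem h0
  obtain ⟨D₀⟩ := hne
  have hinj : ∀ g : G, Function.Injective (Matrix.toLin' (g : Matrix (Fin d ⊕ Fin d) (Fin d ⊕ Fin d) F)) :=
    fun g u v huv => by
      rw [Matrix.toLin'_apply, Matrix.toLin'_apply] at huv
      exact Matrix.mulVec_injective_iff_isUnit.mpr
        ((Matrix.isUnit_iff_isUnit_det _).mpr (SymplecticGroup.symplectic_det g.2)) huv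
  let L : G → (Fin d ⊕ Fin d → F) ≃ₗ[F] (Fin d ⊕ Fin d → F) := fun g =>
    LinearEquiv.ofBijective _ ⟨hinj g, LinearMap.injective_iff_surjective.mp (hinj g)⟩
  have hpres : ∀ (g : G) u v, Cfsg.sympForm d F (L g u) (L g v) = Cfsg.sympForm d F u v := fun g u v => by
    show Cfsg.sympForm d F (Matrix.toLin' _ u) (Matrix.toLin' _ v) = _
    rw [Matrix.toLin'_apply, Matrix.toLin'_apply]
    exact CfsgLib.IsotropicCount.symp_preserves g u v
  let act : G → Decomps F d a t → Decomps F d a t := fun g D => ⟨fun j => (D.1 j).map (L g).toLinearMap,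
    ⟨D.2.1.two_le, D.2.1.pos, fun j => (LinearEquiv.finrank_map_eq (L g) (D.1 j)).trans (D.2.1.finrank_eq j),
      ((iSupIndep_map_orderIso_iff (Submodule.orderIsoMapComap (L g))).mpr D.2.1.indep),
      by rw [← Submodule.map_iSup, D.2.1.iSup_eq_top, Submodule.map_top, LinearEquiv.range]⟩,
    fun j u hu hu0 => by
      obtain ⟨x, hx, rfl⟩ := hu
      obtain ⟨v, hv, hne⟩ := D.2.2.1 j x hx fun e => hu0 (by rw [e, map_zero])
      exact ⟨L g v, ⟨v, hv, rfl⟩, by rw [LinearEquiv.coe_coe, hpres]; exact hne⟩,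
    fun j j' hjj u hu v hv => by
      obtain ⟨x, hx, rfl⟩ := hu
      obtain ⟨y, hy, rfl⟩ := hv
      rw [LinearEquiv.coe_coe, hpres]
      exact D.2.2.2 j j' hjj x hx y hy⟩
  letI : MulAction G (Decomps F d a t) :=
    { smul := act
      one_smul := fun D => Subtype.ext (funext fun j => by
        show (D.1 j).map (L 1).toLinearMap = D.1 j
        rw [show (L 1).toLinearMap = LinearMap.id from LinearMap.ext fun x => by
          show Matrix.toLin' ((1 : G) : Matrix (Fin d ⊕ Fin d) (Fin d ⊕ Fin d) F) x = x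
          simp, Submodule.map_id])
      mul_smul := fun g h D => Subtype.ext (funext fun j => by
        show (D.1 j).map (L (g * h)).toLinearMap = ((D.1 j).map (L h).toLinearMap).map (L g).toLinearMap
        rw [← Submodule.map_comp]
        congr 1
        refine LinearMap.ext fun x => ?_
        show Matrix.toLin' ((g * h : G) : Matrix (Fin d ⊕ Fin d) (Fin d ⊕ Fin d) F) x =
          Matrix.toLin' (g : Matrix (Fin d ⊕ Fin d) (Fin d ⊕ Fin d) F)
            (Matrix.toLin' (h : Matrix (Fin d ⊕ Fin d) (Fin d ⊕ Fin d) F) x)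
        simp [Matrix.mulVec_mulVec]) }
  have htrans : MulAction.orbit G D₀ = Set.univ := by
    refine Set.eq_univ_of_forall fun D => ?_
    have hrank : finrank F (Fin d ⊕ Fin d → F) = a * t := by
      rw [Module.finrank_pi, Fintype.card_sum, Fintype.card_fin, ← hat, two_mul]
    obtain ⟨Φ, hΦ⟩ := exists_coords D₀.1 D₀.2.1.finrank_eq hrank D₀.2.1.iSup_eq_top
    have halt : ∀ x, CfsgLib.SemisimpleIso.bil (Matrix.J (Fin d) F) x x = 0 := fun x => by
      have := CfsgLib.IsotropicCount.sympB_alt (m := d) (F := F) x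
      rw [CfsgLib.IsotropicCount.sympB_apply] at this
      exact this
    have hbil : ∀ x y, CfsgLib.SemisimpleIso.bil (Matrix.J (Fin d) F) x y = Cfsg.sympForm d F x y := fun x y => rfl
    have hex : ∀ j, ∃ φ : D₀.1 j →ₗ[F] (Fin d ⊕ Fin d → F), (∀ x, φ x ∈ D.1 j) ∧
        ∀ x y, Cfsg.sympForm d F (φ x) (φ y) = Cfsg.sympForm d F x y := fun j => by
      obtain ⟨φ, h1, h2⟩ := CfsgLib.SemisimpleIso.exists_iso_alt halt a (D₀.1 j) (D.1 j) (D₀.2.1.finrank_eq j)
        (D.2.1.finrank_eq j)
        (fun x hx hp => nd_of_decomp D₀ j x hx fun y hy => by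
          rw [CfsgLib.IsotropicCount.sympB_apply, ← hbil]; exact hp y hy)
        (fun x hx hp => nd_of_decomp D j x hx fun y hy => by
          rw [CfsgLib.IsotropicCount.sympB_apply, ← hbil]; exact hp y hy)
      exact ⟨φ, h1, fun x y => by rw [← hbil, h2, hbil]⟩
    choose φ hφm hφ using hex
    let Ψ : (Fin d ⊕ Fin d → F) →ₗ[F] (Fin d ⊕ Fin d → F) :=
      (∑ j, (φ j).comp (LinearMap.proj j)).comp Φ.symm.toLinearMap
    have hexpand : ∀ (w w' : ∀ j, D₀.1 j),
        Cfsg.sympForm d F (∑ j, φ j (w j)) (∑ j, φ j (w' j)) = Cfsg.sympForm d F (Φ w) (Φ w') := by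
      intro w w'
      rw [hΦ, hΦ]
      simp only [← CfsgLib.IsotropicCount.sympB_apply, map_sum, LinearMap.sum_apply]
      refine Finset.sum_congr rfl fun k _ => Finset.sum_congr rfl fun l _ => ?_
      rw [CfsgLib.IsotropicCount.sympB_apply, CfsgLib.IsotropicCount.sympB_apply]
      rcases eq_or_ne l k with rfl | hne
      · exact hφ _ _ _
      · rw [D.2.2.2 l k hne _ (hφm l _) _ (hφm k _), D₀.2.2.2 l k hne _ (w l).2 _ (w' k).2]
    have hΨapp : ∀ u, Ψ u = ∑ j, φ j (Φ.symm u j) := fun u => by simp [Ψ]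
    have hΨ : ∀ u v, Cfsg.sympForm d F (Ψ u) (Ψ v) = Cfsg.sympForm d F u v := fun u v => by
      rw [hΨapp, hΨapp, hexpand, Φ.apply_symm_apply, Φ.apply_symm_apply]
    have hΨinj : Function.Injective Ψ := (injective_iff_map_eq_zero Ψ).mpr fun u hu => by
      refine CfsgLib.IsotropicCount.sympB_nondeg.1 u fun v => ?_
      rw [CfsgLib.IsotropicCount.sympB_apply, ← hΨ, hu, ← CfsgLib.IsotropicCount.sympB_apply, map_zero,
        LinearMap.zero_apply]
    obtain ⟨g, hg⟩ := CfsgLib.IsotropicCount.symp_extend ⊤ (Ψ.comp (⊤ : Submodule F _).subtype)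
      (hΨinj.comp Subtype.val_injective) fun x x' => hΨ x x'
    refine ⟨g, Subtype.ext (funext fun j => ?_)⟩
    show (D₀.1 j).map (L g).toLinearMap = D.1 j
    refine Submodule.eq_of_le_of_finrank_eq ?_
      ((LinearEquiv.finrank_map_eq (L g) _).trans ((D₀.2.1.finrank_eq j).trans (D.2.1.finrank_eq j).symm))
    rintro _ ⟨x, hx, rfl⟩
    have hsx : Φ.symm x = Pi.single j ⟨x, hx⟩ := by
      rw [LinearEquiv.symm_apply_eq, hΦ, Finset.sum_eq_single j (fun i _ hi => by simp [Pi.single_eq_of_ne hi])
        (fun h => absurd (Finset.mem_univ j) h)]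
      simp
    show Matrix.toLin' _ x ∈ D.1 j
    rw [Matrix.toLin'_apply, hg ⟨x, Submodule.mem_top⟩]
    show Ψ x ∈ D.1 j
    rw [hΨapp, hsx, Finset.sum_eq_single j (fun i _ hi => by simp [Pi.single_eq_of_ne hi])
      (fun h => absurd (Finset.mem_univ j) h)]
    exact hφm j _
  rw [← Set.ncard_univ (Decomps F d a t), ← htrans, ← MulAction.index_stabilizer]
  exact Subgroup.index_dvd_card _

end group

end CfsgLib.PrimeIso
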