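/-
Elements of odd prime order of the projective symplectic group stabilising an orthogonal decomposition
into non-degenerate subspaces of equal dimension.
-/
import Cfsg.Agent.Lib.PrimeIso.SympDecomp

set_option autoImplicit false
set_option linter.unusedSectionVars false

namespace CfsgLib.PrimeIso

open Polynomial Module CfsgLib.MaxSub.Elusive
open scoped Matrix

universe u

variable {F : Type u} [Field F] [Fintype F] {p r d a t : ℕ} [Fact p.Prime] [CharP F p] [Fact r.Prime]

/-- The multiplicative bound on the block size. -/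
theorem block_le_pred (hrp : r ≠ p) (hr2 : r ≠ 2) {i c : ℕ} (hi : i = orderOf (Fintype.card F : ZMod r))
    (hc : c = if Even i then i else 2 * i) : 0 < c ∧ Even c ∧ c ≤ r - 1 := by
  have hr : r.Prime := Fact.out
  have hpos : 0 < i := hi ▸ order_pos (F := F) hrp
  have hdvd : i ∣ r - 1 := hi ▸ order_dvd_pred (F := F) hrp
  have hev : Even (r - 1) := Nat.Odd.sub_odd (hr.odd_of_ne_two hr2) odd_one
  have h1 : 0 < r - 1 := by have := hr.two_le; omega
  rw [hc]
  split_ifs with he
  · exact ⟨hpos, he, Nat.le_of_dvd h1 hdvd⟩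
  · exact ⟨by omega, even_two_mul i, Nat.le_of_dvd h1
      ((Nat.coprime_two_left.mpr (Nat.not_even_iff_odd.mp he)).mul_dvd_of_dvd_of_dvd hev.two_dvd hdvd)⟩

/-- The two parts of the whole space. -/
theorem top_dims (hrp : r ≠ p) {T : Module.End F (Fin d ⊕ Fin d → F)}
    (h : PerIso (CfsgLib.IsotropicCount.sympB d F) T r) {i c : ℕ} (hi : i = orderOf (Fintype.card F : ZMod r))
    (hc : c = if Even i then i else 2 * i) :
    ∃ e, finrank F (LinearMap.ker (aeval T (X - C (1 : F)))) + c * e = 2 * d ∧ (e = 0 → T = 1) := by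
  have hnd : ND (CfsgLib.IsotropicCount.sympB d F) ⊤ := fun x _ hp =>
    (CfsgLib.IsotropicCount.sympB_nondeg (m := d) (F := F)).1 x fun y => hp y trivial
  obtain ⟨⟨⟨e, he⟩, -⟩, -⟩ := exists_part_dims (p := p) (CfsgLib.IsotropicCount.sympB_alt (m := d) (F := F)) hrp h hi hc inv_top hnd
  rw [top_inf_eq] at he
  have hs := finrank_split (W := ⊤) h inv_top
  rw [top_inf_eq, top_inf_eq, finrank_top, Module.finrank_pi, Fintype.card_sum, Fintype.card_fin, he, ← two_mul] at hs
  refine ⟨e, hs, fun h0 => ?_⟩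
  have htop : LinearMap.ker (aeval T (X - C (1 : F))) = ⊤ := Submodule.eq_top_of_finrank_eq (by
    rw [Module.finrank_pi, Fintype.card_sum, Fintype.card_fin, ← two_mul, ← hs, h0, mul_zero, add_zero])
  refine LinearMap.ext fun v => ?_
  have hv : v ∈ LinearMap.ker (aeval T (X - C (1 : F))) := htop.ge trivial
  simpa [sub_eq_zero] using hv

/-- Decompositions stable under an isometry with a large fixed space. -/
theorem exists_stable_decomp (hat : 2 * d = a * t) (ha : 2 ≤ a) (hae : Even a) (ht : 2 ≤ t) (hrp : r ≠ p)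
    {i c : ℕ} (hi : i = orderOf (Fintype.card F : ZMod r))
    (hc : c = if Even i then i else 2 * i) {T : Module.End F (Fin d ⊕ Fin d → F)}
    (h : PerIso (CfsgLib.IsotropicCount.sympB d F) T r)
    (hfix : t * (a % c) ≤ finrank F (LinearMap.ker (aeval T (X - C (1 : F))))) :
    ∃ D : Decomps F d a t, ∀ j, Inv T (D.1 j) := by
  have hrank : finrank F (Fin d ⊕ Fin d → F) = a * t := by
    rw [Module.finrank_pi, Fintype.card_sum, Fintype.card_fin, ← hat, two_mul]
  obtain ⟨D, hD, ho, hs⟩ := exists_parts_blocks (p := p) (CfsgLib.IsotropicCount.sympB_alt (m := d) (F := F)) hrp h hi hc hae t ⊤ inv_top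
    (fun x _ hp => CfsgLib.IsotropicCount.sympB_nondeg.1 x fun y => hp y trivial) (by rwa [finrank_top])
    (by rwa [top_inf_eq])
  refine ⟨⟨D, ⟨ht, by omega, fun j => (hD j).2.2.2, indep_of_dim D (fun j => (hD j).2.2.2) hrank hs, hs⟩,
    fun j u hu hu0 => ?_, fun j j' hne u hu v hv => ?_⟩, fun j => (hD j).2.1⟩
  · by_contra hno
    push Not at hno
    exact hu0 ((hD j).2.2.1 u hu fun y hy => by rw [CfsgLib.IsotropicCount.sympB_apply]; exact hno y hy)
  · rw [← CfsgLib.IsotropicCount.sympB_apply]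
    exact ho j j' hne u hu v hv

theorem perIso_one (hrp : r ≠ p) :
    PerIso (CfsgLib.IsotropicCount.sympB d F) (1 : Module.End F (Fin d ⊕ Fin d → F)) r where
  refl := alt_refl CfsgLib.IsotropicCount.sympB_alt
  iso := fun _ _ => rfl
  per := one_pow r
  unit := CfsgLib.GLClassNumber.natCast_ne_zero_of_prime_ne (p := p) Fact.out hrp

/-- The number of unordered decompositions divides the order of the symplectic group. -/
theorem card_unordered_dvd (hat : 2 * d = a * t) (ha : 2 ≤ a) (hae : Even a) (ht : 2 ≤ t) (hrp : r ≠ p) :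
    Nat.card (Decomps F d a t) / t.factorial ∣ Nat.card (Matrix.symplecticGroup (Fin d) F) := by
  classical
  have hne : Nonempty (Decomps F d a t) := by
    obtain ⟨D, -⟩ := exists_stable_decomp (F := F) (p := p) hat ha hae ht hrp (i := orderOf (Fintype.card F : ZMod r))
      rfl rfl (perIso_one (d := d) hrp) (by
        rw [show LinearMap.ker (aeval (1 : Module.End F (Fin d ⊕ Fin d → F)) (X - C (1 : F))) = ⊤ from
          LinearMap.ker_eq_top.mpr (by simp), finrank_top, Module.finrank_pi, Fintype.card_sum, Fintype.card_fin,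
          ← two_mul, hat, mul_comm a t]
        exact Nat.mul_le_mul_left t (Nat.mod_le _ _))
    exact ⟨D⟩
  refine (Nat.div_dvd_of_dvd ?_).trans (card_decomps_dvd hat (not_isEmpty_iff.mpr hne))
  let _ : SMul (Equiv.Perm (Fin t)) (Decomps F d a t) := ⟨fun σ D => ⟨fun i => D.1 (σ.symm i),
    ⟨D.2.1.two_le, D.2.1.pos, fun i => D.2.1.finrank_eq _, D.2.1.indep.comp σ.symm.injective,
      (Equiv.iSup_comp σ.symm (g := D.1)).trans D.2.1.iSup_eq_top⟩,
    fun j => D.2.2.1 _, fun j j' hne' => D.2.2.2 _ _ fun e => hne' (σ.symm.injective e)⟩⟩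
  let _ : MulAction (Equiv.Perm (Fin t)) (Decomps F d a t) :=
    { one_smul := fun D => rfl
      mul_smul := fun σ τ D => rfl }
  have hfree : ∀ D : Decomps F d a t, MulAction.stabilizer (Equiv.Perm (Fin t)) D = ⊥ := by
    intro D
    rw [Subgroup.eq_bot_iff_forall]
    intro σ hσ
    refine Equiv.ext fun i => ?_
    by_contra hi
    have h : D.1 (σ.symm (σ i)) = D.1 (σ i) := congrFun (congrArg Subtype.val hσ) (σ i)
    rw [Equiv.symm_apply_apply] at h
    have hd' : Disjoint (D.1 i) (D.1 (σ i)) := D.2.1.indep.pairwiseDisjoint (Ne.symm hi)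
    rw [← h] at hd'
    have := D.2.1.finrank_eq i
    rw [disjoint_self.mp hd', finrank_bot] at this
    omega
  rw [Nat.card_congr (MulAction.selfEquivOrbitsQuotientProd hfree), Nat.card_prod, Nat.card_perm, Nat.card_fin]
  exact dvd_mul_left _ _

/-- An element of order `r` makes the moving part non-trivial. -/
theorem block_le_dim (hrp : r ≠ p) {i c : ℕ} (hi : i = orderOf (Fintype.card F : ZMod r))
    (hc : c = if Even i then i else 2 * i) (hdvd : r ∣ Nat.card (Matrix.symplecticGroup (Fin d) F)) : c ≤ 2 * d := by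
  obtain ⟨g, hg⟩ := exists_prime_orderOf_dvd_card' r hdvd
  have hgr : g ^ r = 1 := hg ▸ pow_orderOf_eq_one g
  have h := perIso_of_symp (CfsgLib.GLClassNumber.natCast_ne_zero_of_prime_ne (F := F) (p := p) Fact.out hrp) g
    (by simpa using congrArg Subtype.val hgr)
  obtain ⟨e, he, he0⟩ := top_dims hrp h hi hc
  rcases Nat.eq_zero_or_pos e with h0 | h0
  · exfalso
    have h1 : g = 1 := Subtype.ext (Matrix.toLin'.injective ((he0 h0).trans Matrix.toLin'_one.symm))
    rw [h1, orderOf_one] at hg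
    exact (Fact.out : r.Prime).ne_one hg.symm
  · have := Nat.le_mul_of_pos_right c h0
    omega

/-- Fixed vectors of a decomposition stable part by part. -/
theorem sum_fix_le {T : Module.End F (Fin d ⊕ Fin d → F)} (hat : 2 * d = a * t) (D : Decomps F d a t) :
    ∑ j, finrank F ↥(D.1 j ⊓ LinearMap.ker (aeval T (X - C (1 : F)))) ≤
      finrank F (LinearMap.ker (aeval T (X - C (1 : F)))) := by
  classical
  have hrank : finrank F (Fin d ⊕ Fin d → F) = a * t := by
    rw [Module.finrank_pi, Fintype.card_sum, Fintype.card_fin, ← hat, two_mul]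
  obtain ⟨Φ, hΦ⟩ := exists_coords D.1 D.2.1.finrank_eq hrank D.2.1.iSup_eq_top
  let ι : (∀ j, ↥(D.1 j ⊓ LinearMap.ker (aeval T (X - C (1 : F))))) →ₗ[F] (Fin d ⊕ Fin d → F) :=
    Φ.toLinearMap.comp (LinearMap.pi fun j => (Submodule.inclusion inf_le_left).comp (LinearMap.proj j))
  have hinj : Function.Injective ι := by
    refine Φ.injective.comp fun w w' hw => funext fun j => ?_
    exact Submodule.inclusion_injective inf_le_left (congrFun hw j)
  have hle : LinearMap.range ι ≤ LinearMap.ker (aeval T (X - C (1 : F))) := by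
    rintro _ ⟨w, rfl⟩
    show Φ _ ∈ _
    rw [hΦ]
    exact Submodule.sum_mem _ fun j _ => (w j).2.2
  rw [← Module.finrank_pi_fintype, ← LinearMap.finrank_range_of_inj hinj]
  exact Submodule.finrank_mono hle

/-- The criterion for decompositions. -/
theorem symp_decomp (hd : 2 ≤ d) (hat : 2 * d = a * t) (ha : 2 ≤ a) (hae : Even a) (ht : 2 ≤ t)
    (hr2 : r ≠ 2) (hrp : r ≠ p) (hΩ : r ∣ Nat.card (Decomps F d a t) / t.factorial)
    (i c : ℕ) (hi : i = orderOf (Fintype.card F : ZMod r)) (hc : c = if Even i then i else 2 * i) :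
    (∀ x : ↥(Matrix.symplecticGroup (Fin d) F),
      (∃ z : F, ((x ^ r : ↥(Matrix.symplecticGroup (Fin d) F)) : Matrix (Fin d ⊕ Fin d) (Fin d ⊕ Fin d) F) = z • (1 : Matrix (Fin d ⊕ Fin d) (Fin d ⊕ Fin d) F)) →
      (∀ z : F, (x : Matrix (Fin d ⊕ Fin d) (Fin d ⊕ Fin d) F) ≠ z • (1 : Matrix (Fin d ⊕ Fin d) (Fin d ⊕ Fin d) F)) →
      ∃ D : Fin t → Submodule F (Fin d ⊕ Fin d → F), (Cfsg.Geo.IsMDecomposition a D ∧ (∀ j, ∀ u ∈ D j, u ≠ 0 → ∃ v ∈ D j, Cfsg.sympForm d F u v ≠ 0) ∧
          (∀ j j', j ≠ j' → ∀ u ∈ D j, ∀ v ∈ D j', Cfsg.sympForm d F u v = 0)) ∧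
        ∃ σ : Equiv.Perm (Fin t), ∀ j, (D j).map (Matrix.toLin' (x : Matrix (Fin d ⊕ Fin d) (Fin d ⊕ Fin d) F)) = D (σ j)) ↔
    (c ≤ a ∧ (2 * d) % c = t * (a % c)) := by
  have hr : r.Prime := Fact.out
  have hodd : Odd r := hr.odd_of_ne_two hr2
  have hr3 : 3 ≤ r := by have := hr.two_le; omega
  obtain ⟨hcpos, hce, hcr⟩ := block_le_pred (F := F) hrp hr2 hi hc
  have hcd : c ≤ 2 * d := block_le_dim hrp hi hc (hΩ.trans (card_unordered_dvd (p := p) hat ha hae ht hrp))
  have hN : (r : F) ≠ 0 := CfsgLib.GLClassNumber.natCast_ne_zero_of_prime_ne (p := p) hr hrp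
  have hmod : (2 * d) % c = (t * (a % c)) % c := by
    rw [hat, mul_comm a t, Nat.mul_mod_mod]
  constructor
  · intro H
    have key : ∀ x : Matrix.symplecticGroup (Fin d) F, x ^ r = 1 →
        finrank F (LinearMap.ker (aeval (Matrix.toLin' (x : Matrix (Fin d ⊕ Fin d) (Fin d ⊕ Fin d) F))
          (X - C (1 : F)))) < 2 * d →
        ∃ (D : Decomps F d a t) (σ : Equiv.Perm (Fin t)),
          ∀ j, (D.1 j).map (Matrix.toLin' (x : Matrix (Fin d ⊕ Fin d) (Fin d ⊕ Fin d) F)) = D.1 (σ j) := by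
      intro x hx hf
      have hx1 : x ≠ 1 := by
        rintro rfl
        rw [show LinearMap.ker (aeval (Matrix.toLin' ((1 : Matrix.symplecticGroup (Fin d) F) :
            Matrix (Fin d ⊕ Fin d) (Fin d ⊕ Fin d) F)) (X - C (1 : F))) = ⊤ from
          LinearMap.ker_eq_top.mpr (by simp [Module.End.one_eq_id]), finrank_top, Module.finrank_pi, Fintype.card_sum,
          Fintype.card_fin] at hf
        omega
      have hxr : (x : Matrix (Fin d ⊕ Fin d) (Fin d ⊕ Fin d) F) ^ r = 1 := by simpa using congrArg Subtype.val hx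
      obtain ⟨D, hD, σ, hσ⟩ := H x ⟨1, by rw [hx, one_smul]; rfl⟩ fun z hz => hx1 (Subtype.ext (by
        rcases mul_self_eq_one_iff.mp (symp_scalar_sq (by omega) x hz) with rfl | rfl
        · rw [hz, one_smul]; rfl
        · rw [hz, _root_.smul_pow, one_pow, hodd.neg_one_pow] at hxr
          rw [hz, hxr]; rfl))
      exact ⟨⟨D, hD⟩, σ, hσ⟩
    have bounds : ∀ (x : Matrix.symplecticGroup (Fin d) F), x ^ r = 1 → ∀ (D : Decomps F d a t) (σ : Equiv.Perm (Fin t)),
        (∀ j, (D.1 j).map (Matrix.toLin' (x : Matrix (Fin d ⊕ Fin d) (Fin d ⊕ Fin d) F)) = D.1 (σ j)) →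
        (∀ j, ∃ e, finrank F ↥(D.1 j ⊓ LinearMap.ker (aeval (Matrix.toLin' (x : Matrix (Fin d ⊕ Fin d) (Fin d ⊕ Fin d) F))
          (X - C (1 : F)))) + c * e = a) ∨
        (a ≤ finrank F (LinearMap.ker (aeval (Matrix.toLin' (x : Matrix (Fin d ⊕ Fin d) (Fin d ⊕ Fin d) F))
            (X - C (1 : F)))) ∧
          finrank F (LinearMap.ker (aeval (Matrix.toLin' (x : Matrix (Fin d ⊕ Fin d) (Fin d ⊕ Fin d) F))
            (X - C (1 : F)))) + (r - 1) * a ≤ a * t) := by
      intro x hx D σ hσ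
      have h := perIso_of_symp hN x (by simpa using congrArg Subtype.val hx)
      by_cases hmove : ∃ j, σ j ≠ j
      · obtain ⟨j, hj⟩ := hmove
        have hrank : finrank F (Fin d ⊕ Fin d → F) = a * t := by
          rw [Module.finrank_pi, Fintype.card_sum, Fintype.card_fin, ← hat, two_mul]
        obtain ⟨Φ, hΦ⟩ := exists_coords D.1 D.2.1.finrank_eq hrank D.2.1.iSup_eq_top
        refine Or.inr (cycle_bounds _ hσ hr h.per (fun j j' e => ?_) Φ hΦ D.2.1.finrank_eq hj)
        by_contra hne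
        have hd' : Disjoint (D.1 j) (D.1 j') := D.2.1.indep.pairwiseDisjoint hne
        rw [← e] at hd'
        have := D.2.1.finrank_eq j
        rw [disjoint_self.mp hd', finrank_bot] at this
        omega
      · push Not at hmove
        refine Or.inl fun j => ?_
        have hinv : Inv (Matrix.toLin' (x : Matrix (Fin d ⊕ Fin d) (Fin d ⊕ Fin d) F)) (D.1 j) := fun v hv => by
          have h1 : _ ∈ (D.1 j).map (Matrix.toLin' (x : Matrix (Fin d ⊕ Fin d) (Fin d ⊕ Fin d) F)) := ⟨v, hv, rfl⟩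
          rwa [hσ, hmove] at h1
        obtain ⟨⟨⟨e, he⟩, -⟩, -⟩ := exists_part_dims (p := p) (CfsgLib.IsotropicCount.sympB_alt (m := d) (F := F)) hrp h hi hc hinv (nd_of_decomp D j)
        exact ⟨e, by rw [← he, finrank_split h hinv, D.2.1.finrank_eq]⟩
    have hle : c ≤ a := by
      by_contra hlt
      push Not at hlt
      obtain ⟨k, hk⟩ : ∃ k, 2 * d = 1 * c + 2 * k := by
        obtain ⟨w, rfl⟩ := hce
        exact ⟨d - w, by omega⟩
      obtain ⟨x, hx, hf⟩ := exists_blocks_fix (F := F) (p := p) hrp hi hc hk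
      obtain ⟨D, σ, hσ⟩ := key x hx (by omega)
      rcases bounds x hx D σ hσ with hall | ⟨-, h2⟩
      · have hge : ∀ j, a ≤ finrank F ↥(D.1 j ⊓ LinearMap.ker (aeval (Matrix.toLin' (x : Matrix (Fin d ⊕ Fin d) (Fin d ⊕ Fin d) F))
            (X - C (1 : F)))) := fun j => by
          obtain ⟨e, he⟩ := hall j
          rcases Nat.eq_zero_or_pos e with rfl | he'
          · omega
          · have := Nat.le_mul_of_pos_right c he'
            omega
        have h1 := (Finset.sum_le_sum fun j (_ : j ∈ Finset.univ) => hge j).trans (sum_fix_le hat D)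
        rw [Finset.sum_const, Finset.card_univ, Fintype.card_fin, smul_eq_mul, mul_comm, ← hat] at h1
        omega
      · have h3 : (r - 1) * 2 ≤ (r - 1) * a := Nat.mul_le_mul_left _ ha
        omega
    refine ⟨hle, le_antisymm (hmod ▸ Nat.mod_le _ _) ?_⟩
    obtain ⟨x, hx, hf⟩ := exists_small_fix (F := F) (p := p) (d := d) hrp hi hc
    have hlt := Nat.mod_lt (2 * d) hcpos
    obtain ⟨D, σ, hσ⟩ := key x hx (by omega)
    rcases bounds x hx D σ hσ with hall | ⟨h1, -⟩
    · have hge : ∀ j, a % c ≤ finrank F ↥(D.1 j ⊓ LinearMap.ker (aeval (Matrix.toLin' (x : Matrix (Fin d ⊕ Fin d) (Fin d ⊕ Fin d) F))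
          (X - C (1 : F)))) := fun j => by
        obtain ⟨e, he⟩ := hall j
        conv_lhs => rw [← he, Nat.add_mul_mod_self_left]
        exact Nat.mod_le _ _
      have h1 := (Finset.sum_le_sum fun j (_ : j ∈ Finset.univ) => hge j).trans (sum_fix_le hat D)
      rwa [Finset.sum_const, Finset.card_univ, Fintype.card_fin, smul_eq_mul, hf] at h1
    · omega
  · rintro ⟨-, hcond⟩ x ⟨z, hz⟩ -
    have pos : ∀ y : Matrix.symplecticGroup (Fin d) F, (y : Matrix (Fin d ⊕ Fin d) (Fin d ⊕ Fin d) F) ^ r = 1 →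
        ∃ D : Decomps F d a t, ∀ j, Inv (Matrix.toLin' (y : Matrix (Fin d ⊕ Fin d) (Fin d ⊕ Fin d) F)) (D.1 j) := by
      intro y hy
      have h := perIso_of_symp hN y hy
      obtain ⟨e, he, -⟩ := top_dims hrp h hi hc
      refine exists_stable_decomp hat ha hae ht hrp hi hc h ?_
      rw [← hcond, ← he, Nat.add_mul_mod_self_left]
      exact Nat.mod_le _ _
    have hxr : (x : Matrix (Fin d ⊕ Fin d) (Fin d ⊕ Fin d) F) ^ r = z • 1 := by simpa using hz
    obtain ⟨D, hD⟩ : ∃ D : Decomps F d a t, ∀ j, Inv (Matrix.toLin' (x : Matrix (Fin d ⊕ Fin d) (Fin d ⊕ Fin d) F)) (D.1 j) := by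
      rcases mul_self_eq_one_iff.mp (symp_scalar_sq (by omega) (x ^ r) hz) with rfl | rfl
      · exact pos x (by rw [hxr, one_smul])
      · obtain ⟨D, hD⟩ := pos ⟨-(x : Matrix (Fin d ⊕ Fin d) (Fin d ⊕ Fin d) F), SymplecticGroup.neg_mem x.2⟩
          (by show (-(x : Matrix (Fin d ⊕ Fin d) (Fin d ⊕ Fin d) F)) ^ r = 1
              rw [hodd.neg_pow, hxr, neg_one_smul, neg_neg])
        refine ⟨D, fun j v hv => ?_⟩
        have h6 := hD j v hv
        rw [Matrix.toLin'_apply, Matrix.neg_mulVec, neg_mem_iff] at h6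
        rwa [Matrix.toLin'_apply]
    refine ⟨D.1, D.2, 1, fun j => Submodule.eq_of_le_of_finrank_eq ?_ ?_⟩
    · rintro _ ⟨v, hv, rfl⟩
      exact hD j v hv
    · have hinj : Function.Injective (Matrix.toLin' (x : Matrix (Fin d ⊕ Fin d) (Fin d ⊕ Fin d) F)) := fun u v huv => by
        rw [Matrix.toLin'_apply, Matrix.toLin'_apply] at huv
        exact Matrix.mulVec_injective_iff_isUnit.mpr
          ((Matrix.isUnit_iff_isUnit_det _).mpr (SymplecticGroup.symplectic_det x.2)) huv
      exact (LinearEquiv.finrank_eq (Submodule.equivMapOfInjective _ hinj (D.1 j))).symm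

end CfsgLib.PrimeIso
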