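/-
Primes dividing the number of non-degenerate subspaces of a symplectic space.
-/
import Cfsg.Agent.Lib.PrimeIso.SympNeg
import Cfsg.Agent.Lib.SympBlocks
import Cfsg.Agent.S0245

set_option autoImplicit false
set_option linter.unusedSectionVars false

namespace CfsgLib.PrimeIso

open Polynomial Module CfsgLib.MaxSub.Elusive
open scoped Matrix

universe u

variable {F : Type u} [Field F] [Fintype F] {p r d : ℕ} [Fact p.Prime] [CharP F p] [Fact r.Prime]

/-- The non-degenerate subspaces. -/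
abbrev NDSpaces (F : Type u) [Field F] (d m : ℕ) : Type u :=
  {W : Submodule F (Fin d ⊕ Fin d → F) // finrank F ↥W = m ∧ (∀ u ∈ W, u ≠ 0 → ∃ v ∈ W, Cfsg.sympForm d F u v ≠ 0)}

theorem card_ndspaces (k b : ℕ) (hne : Nonempty (NDSpaces F (k + b) (2 * k))) :
    Nat.card (NDSpaces F (k + b) (2 * k)) *
      (Nat.card (Matrix.symplecticGroup (Fin k) F) * Nat.card (Matrix.symplecticGroup (Fin b) F)) =
      Nat.card (Matrix.symplecticGroup (Fin (k + b)) F) := by
  classical
  let G := Matrix.symplecticGroup (Fin (k + b)) F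
  let V := Fin (k + b) ⊕ Fin (k + b) → F
  let L : G → (V →ₗ[F] V) := fun g => Matrix.toLin' (g : Matrix (Fin (k + b) ⊕ Fin (k + b)) (Fin (k + b) ⊕ Fin (k + b)) F)
  have hLm : ∀ g h, L (g * h) = (L g).comp (L h) := fun g h => Matrix.toLin'_mul _ _
  have hL1 : L 1 = LinearMap.id := Matrix.toLin'_one
  have hLi : ∀ g u, L g⁻¹ (L g u) = u := fun g u => by
    rw [← LinearMap.comp_apply, ← hLm, inv_mul_cancel, hL1, LinearMap.id_apply]
  have hinj : ∀ g, Function.Injective (L g) := fun g => Function.LeftInverse.injective (hLi g)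
  have hB : ∀ g u v, Cfsg.sympForm (k + b) F (L g u) (L g v) = Cfsg.sympForm (k + b) F u v := fun g u v => by
    rw [Matrix.toLin'_apply, Matrix.toLin'_apply]
    exact CfsgLib.IsotropicCount.symp_preserves g u v
  let _ : SMul G (NDSpaces F (k + b) (2 * k)) := ⟨fun g W => ⟨W.1.map (L g),
    (LinearEquiv.finrank_eq (Submodule.equivMapOfInjective _ (hinj g) W.1)).symm.trans W.2.1, by
      rintro _ ⟨u, hu, rfl⟩ hu0
      obtain ⟨v, hv, hne'⟩ := W.2.2 u hu fun e => hu0 (by rw [e, map_zero])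
      exact ⟨L g v, ⟨v, hv, rfl⟩, by rwa [hB]⟩⟩⟩
  let _ : MulAction G (NDSpaces F (k + b) (2 * k)) :=
    { one_smul := fun W => Subtype.ext (by
        show W.1.map (L 1) = W.1
        rw [hL1, Submodule.map_id])
      mul_smul := fun g h W => Subtype.ext (by
        show W.1.map (L (g * h)) = (W.1.map (L h)).map (L g)
        rw [hLm, Submodule.map_comp]) }
  have hND : ∀ (W : NDSpaces F (k + b) (2 * k)), ∀ u ∈ W.1, (∀ v ∈ W.1, SympGen.B u v = 0) → u = 0 :=
    fun W u hu hp => by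
      by_contra h0
      obtain ⟨v, hv, hne'⟩ := W.2.2 u hu h0
      exact hne' (hp v hv)
  let c : Fin k ⊕ Fin k → (Fin (k + b) ⊕ Fin (k + b)) := Sum.map (Fin.castAdd b) (Fin.castAdd b)
  let W₁ : Submodule F V := Submodule.span F (Set.range fun i => (Pi.single (c i) 1 : V))
  have hW₁ : finrank F W₁ = 2 * k := by
    refine (finrank_span_eq_card ((Pi.linearIndependent_single_one (Fin (k + b) ⊕ Fin (k + b)) F).comp c
      ((Fin.castAdd_injective k b).sumMap (Fin.castAdd_injective k b)))).trans ?_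
    rw [Fintype.card_sum, Fintype.card_fin, two_mul]
  have hstd : ∀ W : NDSpaces F (k + b) (2 * k), ∃ g, W₁.map (L g) = W.1 := fun W => by
    obtain ⟨g, hg⟩ := SympBlocks.exists_frame k (k + b) (by omega) W.1 W.2.1 (hND W)
    refine ⟨g, Submodule.eq_of_le_of_finrank_eq ?_ ?_⟩
    · rw [Submodule.map_span, Submodule.span_le]
      rintro _ ⟨_, ⟨i, rfl⟩, rfl⟩
      rcases i with i | i
      · have h1 := (hg (Fin.castAdd b i) (by simp)).2
        show L g (Pi.single _ 1) ∈ W.1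
        rw [Matrix.toLin'_apply]
        exact h1
      · have h1 := (hg (Fin.castAdd b i) (by simp)).1
        show L g (Pi.single _ 1) ∈ W.1
        rw [Matrix.toLin'_apply]
        exact h1
    · rw [← LinearEquiv.finrank_eq (Submodule.equivMapOfInjective _ (hinj g) W₁), hW₁, W.2.1]
  obtain ⟨W₀⟩ := hne
  obtain ⟨g₀, hg₀⟩ := hstd W₀
  have htrans : MulAction.orbit G W₀ = Set.univ := by
    refine Set.eq_univ_of_forall fun W => ?_
    obtain ⟨g, hg⟩ := hstd W
    refine ⟨g * g₀⁻¹, Subtype.ext ?_⟩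
    show W₀.1.map (L (g * g₀⁻¹)) = W.1
    rw [← hg₀, ← Submodule.map_comp, ← hLm, mul_assoc, inv_mul_cancel, mul_one, hg]
  obtain ⟨E⟩ := SympBlocks.stabilizing_equiv k b W₀.1 W₀.2.1 (hND W₀)
  have hst : MulAction.stabilizer G W₀ =
      Cfsg.stabilizing (Cfsg.spToMat (k + b) F) (W₀.1 : Set (Fin (k + b) ⊕ Fin (k + b) → F)) := by
    ext g
    constructor
    · intro hg v
      have hmap : W₀.1.map (L g) = W₀.1 := congrArg Subtype.val hg
      refine ⟨fun hv => hmap.le ⟨v, hv, Matrix.toLin'_apply _ v⟩, fun hv => ?_⟩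
      obtain ⟨u, hu, huv⟩ := hmap.ge hv
      rwa [← show u = v from hinj g (huv.trans (Matrix.toLin'_apply _ v).symm)]
    · intro hg
      refine Subtype.ext (Submodule.eq_of_le_of_finrank_eq ?_
        (LinearEquiv.finrank_eq (Submodule.equivMapOfInjective _ (hinj g) W₀.1)).symm)
      rintro _ ⟨v, hv, rfl⟩
      rw [Matrix.toLin'_apply]
      exact (hg v).mp hv
  rw [← Nat.card_prod (α := Matrix.symplecticGroup (Fin k) F), ← Nat.card_congr E.toEquiv, ← hst,
    ← Set.ncard_univ (NDSpaces F (k + b) (2 * k)), ← htrans, ← MulAction.index_stabilizer, Subgroup.index_mul_card]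

/-- A prime dividing the number of non-degenerate subspaces. -/
theorem dvd_ndspaces {m : ℕ} (hme : Even m) (hmd : m ≤ d) (hne : Nonempty (NDSpaces F d m)) (hrp : r ≠ p)
    (hΩ : r ∣ Nat.card (NDSpaces F d m)) {i c : ℕ} (hi : i = orderOf (Fintype.card F : ZMod r))
    (hc : c = if Even i then i else 2 * i) : c ≤ 2 * d ∧ (2 * d) % c < m := by
  have hr : r.Prime := Fact.out
  obtain ⟨k, rfl⟩ := hme
  obtain ⟨b, rfl⟩ := Nat.exists_eq_add_of_le (show k ≤ d by omega)
  rw [← two_mul] at hne hΩ hmd ⊢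
  set q := Fintype.card F
  have h := card_ndspaces k b hne
  rw [Cfsg.Agent.S0245.result (q := q) rfl, Cfsg.Agent.S0245.result (q := q) rfl,
    Cfsg.Agent.S0245.result (q := q) rfl, add_comm k b, Finset.prod_range_add] at h
  have hd' : r ∣ q ^ ((b + k) ^ 2) * ((∏ x ∈ Finset.range b, (q ^ (2 * (x + 1)) - 1)) *
      ∏ x ∈ Finset.range k, (q ^ (2 * (b + x + 1)) - 1)) := h ▸ dvd_mul_of_dvd_left (add_comm k b ▸ hΩ) _
  have hcancel : Nat.card (NDSpaces F (b + k) (2 * k)) * (q ^ k ^ 2 * (∏ i ∈ Finset.range k, (q ^ (2 * (i + 1)) - 1)) *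
      q ^ b ^ 2) = q ^ ((b + k) ^ 2) * ∏ x ∈ Finset.range k, (q ^ (2 * (b + x + 1)) - 1) := by
    refine Nat.eq_of_mul_eq_mul_right (m := ∏ x ∈ Finset.range b, (q ^ (2 * (x + 1)) - 1))
      (Finset.prod_pos fun x _ => Nat.sub_pos_of_lt (Nat.one_lt_pow (by omega) Fintype.one_lt_card)) ?_
    linear_combination h
  have hd'' : r ∣ q ^ ((b + k) ^ 2) * ∏ x ∈ Finset.range k, (q ^ (2 * (b + x + 1)) - 1) :=
    hcancel ▸ dvd_mul_of_dvd_left (add_comm k b ▸ hΩ) _
  rcases hr.dvd_mul.mp hd'' with h1 | h1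
  · exact absurd ((dvd_q_iff (F := F) hr).mp (hr.dvd_of_dvd_pow h1)) hrp
  obtain ⟨x, hx, hxd⟩ := (Prime.dvd_finsetProd_iff hr.prime _).mp h1
  rw [Finset.mem_range] at hx
  rw [dvd_pow_sub_one_iff, ← hi] at hxd
  have hipos : 0 < i := hi ▸ order_pos (F := F) hrp
  have hcdvd : c ∣ 2 * (b + x + 1) := by
    rw [hc]
    split_ifs with he
    · exact hxd
    · exact Nat.mul_dvd_mul_left 2 (((Nat.coprime_two_right).mpr (Nat.not_even_iff_odd.mp he)).dvd_of_dvd_mul_left hxd)
  obtain ⟨e, he⟩ := hcdvd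
  refine ⟨le_trans (Nat.le_of_dvd (by omega) ⟨e, he⟩) (by omega), ?_⟩
  rw [show 2 * (k + b) = (2 * (k + b) - 2 * (b + x + 1)) + c * e by omega, Nat.add_mul_mod_self_left]
  exact lt_of_le_of_lt (Nat.mod_le _ _) (by omega)

end CfsgLib.PrimeIso
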