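/-
Model isometries of order `p` with prescribed block sizes.
-/
import Cfsg.Agent.Lib.PrimeIso.UniAlt
import Cfsg.Agent.Lib.PrimeIso.Models

set_option autoImplicit false
set_option linter.unusedSectionVars false

namespace CfsgLib.PrimeIso

open Polynomial Module

universe u w

variable {F : Type u} [Field F]

/-- The rank profile of multiplication by `z - 1`. -/
def HasProfile {A : Type w} [CommRing A] [Algebra F A] (z : A) (μ : Multiset ℕ) : Prop :=
  ∀ j, finrank F (LinearMap.range (LinearMap.mulLeft F ((z - 1) ^ j))) = profile μ j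

theorem range_mulLeft_unit {A : Type w} [CommRing A] [Algebra F A] {u a : A} (hu : IsUnit u) :
    finrank F (LinearMap.range (LinearMap.mulLeft F (a * u))) = finrank F (LinearMap.range (LinearMap.mulLeft F a)) := by
  rw [LinearMap.mulLeft_mul, LinearMap.range_comp_of_range_eq_top]
  exact LinearMap.range_eq_top.mpr fun b => ⟨↑hu.unit⁻¹ * b, by
    simp only [LinearMap.mulLeft_apply, ← mul_assoc, IsUnit.mul_val_inv, one_mul]⟩

theorem range_mulLeft_prod {A A' : Type w} [CommRing A] [Algebra F A] [FiniteDimensional F A] [CommRing A']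
    [Algebra F A'] [FiniteDimensional F A'] (a : A) (a' : A') :
    finrank F (LinearMap.range (LinearMap.mulLeft F ((a, a') : A × A'))) =
      finrank F (LinearMap.range (LinearMap.mulLeft F a)) + finrank F (LinearMap.range (LinearMap.mulLeft F a')) := by
  have : LinearMap.mulLeft F ((a, a') : A × A') = (LinearMap.mulLeft F a).prodMap (LinearMap.mulLeft F a') :=
    LinearMap.ext fun v => rfl
  let E : (LinearMap.range (LinearMap.mulLeft F a)).prod (LinearMap.range (LinearMap.mulLeft F a')) ≃ₗ[F]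
      (LinearMap.range (LinearMap.mulLeft F a) × LinearMap.range (LinearMap.mulLeft F a')) :=
    { toFun := fun v => (⟨v.1.1, v.2.1⟩, ⟨v.1.2, v.2.2⟩)
      invFun := fun v => ⟨(v.1.1, v.2.1), v.1.2, v.2.2⟩
      map_add' := fun _ _ => rfl
      map_smul' := fun _ _ => rfl
      left_inv := fun _ => rfl
      right_inv := fun _ => rfl }
  rw [this, LinearMap.range_prodMap, E.finrank_eq, Module.finrank_prod]

/-- The truncated polynomial algebra with its nilpotent element and its top coefficient. -/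
theorem exists_truncated (k : ℕ) (hk : 0 < k) :
    ∃ (A : Type u) (_ : CommRing A) (_ : Algebra F A) (_ : FiniteDimensional F A) (ε : A) (c : A →ₗ[F] F),
      finrank F A = k ∧ ε ^ k = 0 ∧ (∀ i, i < k → c (ε ^ i) = if i + 1 = k then 1 else 0) ∧
      (∀ a, a ≠ 0 → ∃ b, c (a * b) ≠ 0) ∧
      (∀ j, finrank F (LinearMap.range (LinearMap.mulLeft F (ε ^ j))) = k - j) ∧
      ∀ ε' : A, ε' ^ k = 0 → ∃ f : A →ₐ[F] A, f ε = ε' := by
  classical
  have hm : ((X : F[X]) ^ k).Monic := monic_X_pow k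
  let pb := AdjoinRoot.powerBasis' hm
  have hdim : pb.dim = k := natDegree_X_pow k
  have : FiniteDimensional F (AdjoinRoot ((X : F[X]) ^ k)) := Module.Finite.of_basis pb.basis
  set ε := AdjoinRoot.root ((X : F[X]) ^ k) with hε
  have hb : ∀ i : Fin pb.dim, pb.basis i = ε ^ (i : ℕ) := fun i => pb.basis_eq_pow i
  have hεk : ε ^ k = 0 := by
    have := AdjoinRoot.mk_self (f := (X : F[X]) ^ k)
    rwa [map_pow, AdjoinRoot.mk_X] at this
  let top : Fin pb.dim := ⟨k - 1, by omega⟩
  let c := pb.basis.coord top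
  have hc : ∀ i, i < k → c (ε ^ i) = if i + 1 = k then 1 else 0 := fun i hi => by
    rw [show ε ^ i = pb.basis ⟨i, by omega⟩ from (hb ⟨i, by omega⟩).symm, Basis.coord_apply, Basis.repr_self, Finsupp.single_apply]
    simp only [top, Fin.ext_iff]
    split_ifs <;> first | rfl | omega
  have hvan : ∀ i, k ≤ i → ε ^ i = 0 := fun i hi => by
    obtain ⟨l, rfl⟩ := Nat.exists_eq_add_of_le hi
    rw [pow_add, hεk, zero_mul]
  have hnd : ∀ a, a ≠ 0 → ∃ b, c (a * b) ≠ 0 := by
    intro a ha
    by_contra hno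
    push Not at hno
    refine ha ?_
    rw [← pb.basis.sum_repr a]
    suffices ∀ (n : ℕ) (i : Fin pb.dim), i.val = n → pb.basis.repr a i = 0 from
      Finset.sum_eq_zero fun i _ => by rw [this _ i rfl, zero_smul]
    intro n
    induction n using Nat.strong_induction_on with
    | _ n ih =>
      rintro i rfl
      have h3 := hno (ε ^ (k - 1 - i.val))
      conv at h3 => lhs; arg 2; arg 1; rw [← pb.basis.sum_repr a]
      rw [Finset.sum_mul, map_sum, Finset.sum_eq_single i] at h3
      · rw [smul_mul_assoc, map_smul, hb, ← pow_add, hc _ (by omega), if_pos (by have := i.2; omega), smul_eq_mul,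
          mul_one] at h3
        exact h3
      · intro j _ hji
        rw [smul_mul_assoc, map_smul, hb, ← pow_add]
        rcases lt_trichotomy j.val i.val with h4 | h4 | h4
        · rw [ih _ h4 j rfl, zero_smul]
        · exact absurd (Fin.ext h4) hji
        · rw [hvan _ (by have := i.2; omega), map_zero, smul_zero]
      · exact fun hmem => absurd (Finset.mem_univ _) hmem
  refine ⟨AdjoinRoot ((X : F[X]) ^ k), inferInstance, inferInstance, inferInstance, ε, c, ?_, hεk, hc, hnd,
    fun j => ?_, fun ε' he => ⟨AdjoinRoot.liftAlgHom _ (Algebra.ofId F _) ε' (by simp [he]), ?_⟩⟩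
  · rw [pb.finrank, hdim]
  · let e : Fin (k - j) → Fin pb.dim := fun i => ⟨j + i.val, by have := i.2; omega⟩
    have hspan : LinearMap.range (LinearMap.mulLeft F (ε ^ j)) = Submodule.span F (Set.range (pb.basis ∘ e)) := by
      rw [← Submodule.map_top, ← pb.basis.span_eq, Submodule.map_span]
      refine le_antisymm (Submodule.span_le.mpr ?_) (Submodule.span_le.mpr ?_)
      · rintro _ ⟨_, ⟨i, rfl⟩, rfl⟩
        rw [LinearMap.mulLeft_apply, hb, ← pow_add]
        by_cases hi : j + i.val < k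
        · exact Submodule.subset_span ⟨⟨i.val, by omega⟩, by rw [Function.comp_apply, hb]⟩
        · rw [hvan _ (by omega)]
          exact zero_mem _
      · rintro _ ⟨i, rfl⟩
        refine Submodule.subset_span ⟨_, ⟨⟨i.val, by have := i.2; omega⟩, rfl⟩, ?_⟩
        rw [LinearMap.mulLeft_apply, Function.comp_apply, hb, hb, ← pow_add]
    rw [hspan, finrank_span_eq_card (pb.basis.linearIndependent.comp e fun a b hab => Fin.ext (by
      have := congrArg Fin.val hab
      simp only [e] at this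
      omega)), Fintype.card_fin]
  · rw [hε, AdjoinRoot.liftAlgHom_root]

variable {p : ℕ} [Fact p.Prime] [CharP F p]

theorem pow_char_one_add {A : Type w} [CommRing A] [Algebra F A] [Nontrivial A] {k : ℕ} (hkp : k ≤ p) {a : A}
    (ha : a ^ k = 0) : (1 + a) ^ p = 1 := by
  have : CharP A p := charP_of_injective_algebraMap (algebraMap F A).injective p
  obtain ⟨l, rfl⟩ := Nat.exists_eq_add_of_le hkp
  rw [add_pow_char, one_pow, pow_add, ha, zero_mul, add_zero]

/-- Two chains of equal length. -/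
theorem exists_pair_model (k : ℕ) (hk : 0 < k) (hkp : k ≤ p) :
    ∃ (A : Type u) (_ : CommRing A) (_ : Algebra F A) (_ : FiniteDimensional F A) (𝔅 : Block F A) (z : A),
      finrank F A = 2 * k ∧ 𝔅.inv z * z = 1 ∧ z ^ p = 1 ∧ HasProfile (F := F) z (Multiset.replicate 2 k) ∧
      (p = 2 → ∀ v, 𝔅.fn (v * 𝔅.inv (z * v)) = 0) := by
  have hp : 0 < p := (Fact.out : p.Prime).pos
  obtain ⟨R, _, _, _, ε, c, hdim, hεk, -, hnd, hrk, -⟩ := exists_truncated (F := F) k hk
  have : Nontrivial R := Module.nontrivial_of_finrank_pos (R := F) (by omega)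
  have h1 : (1 + ε) ^ p = 1 := pow_char_one_add (F := F) hkp hεk
  have hu : (1 + ε) * (1 + ε) ^ (p - 1) = 1 := by rw [← pow_succ', Nat.sub_add_cancel hp, h1]
  refine ⟨R × R, inferInstance, inferInstance, inferInstance,
    { inv := (AlgHom.snd F R R).prod (AlgHom.fst F R R)
      fn := c.comp (LinearMap.fst F R R) - c.comp (LinearMap.snd F R R)
      inv_inv := fun a => rfl
      fn_inv := fun a => by simp
      fn_self := fun a => by simp [mul_comm]
      fn_nondeg := fun a ha => ?_ }, (1 + ε, (1 + ε) ^ (p - 1)), ?_, ?_, ?_, fun j => ?_, fun hp v => ?_⟩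
  · by_cases h1 : a.1 = 0
    · obtain ⟨b, hb⟩ := hnd a.2 fun h => ha (Prod.ext h1 h)
      exact ⟨(0, b), by simpa [h1] using hb⟩
    · obtain ⟨b, hb⟩ := hnd a.1 h1
      exact ⟨(b, 0), by simpa using hb⟩
  · rw [Module.finrank_prod, hdim, two_mul]
  · show ((1 + ε) ^ (p - 1), 1 + ε) * (1 + ε, (1 + ε) ^ (p - 1)) = 1
    rw [Prod.mk_mul_mk, mul_comm _ (1 + ε), hu]
    rfl
  · refine Prod.ext ?_ ?_ <;> simp [← pow_mul, pow_mul', h1]
  · have h2 : ((1 + ε, (1 + ε) ^ (p - 1)) : R × R) - 1 = (ε * 1, ε * -((1 + ε) ^ (p - 1))) :=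
      Prod.ext (by simp) (by
        show (1 + ε) ^ (p - 1) - 1 = ε * -((1 + ε) ^ (p - 1))
        linear_combination hu)
    rw [h2, Prod.pow_mk, range_mulLeft_prod, mul_pow, mul_pow, range_mulLeft_unit (by simp),
      range_mulLeft_unit ((IsUnit.of_mul_eq_one _ ((mul_comm _ _).trans hu)).neg.pow j), hrk]
    simp [profile]
  · subst hp
    show c (v.1 * ((1 + ε) ^ (2 - 1) * v.2)) - c (v.2 * ((1 + ε) * v.1)) = 0
    rw [sub_eq_zero, pow_one]
    congr 1
    ring

/-- One chain of even length. -/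
theorem exists_even_model (hp2 : p ≠ 2) (k : ℕ) (hk : 0 < k) (hkp : k ≤ p) (hke : Even k) :
    ∃ (A : Type u) (_ : CommRing A) (_ : Algebra F A) (_ : FiniteDimensional F A) (𝔅 : Block F A) (z : A),
      finrank F A = k ∧ 𝔅.inv z * z = 1 ∧ z ^ p = 1 ∧ HasProfile (F := F) z {k} := by
  have hp : 0 < p := (Fact.out : p.Prime).pos
  have h2 : (2 : F) ≠ 0 := fun h2 => by
    have : ((2 : ℕ) : F) = 0 := by exact_mod_cast h2
    rw [CharP.cast_eq_zero_iff F p, Nat.prime_dvd_prime_iff_eq Fact.out Nat.prime_two] at this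
    exact hp2 this
  obtain ⟨R, _, _, _, ε, c, hdim, hεk, hc, hnd, hrk, hlift⟩ := exists_truncated (F := F) k hk
  have : Nontrivial R := Module.nontrivial_of_finrank_pos (R := F) (by omega)
  have hneg : (-ε) ^ k = 0 := by rw [hke.neg_pow, hεk]
  obtain ⟨σ, hσ⟩ := hlift _ hneg
  have hspan : ∀ {M : Type u} [AddCommGroup M] [Module F M] (f g : R →ₗ[F] M),
      (∀ i, i < k → f (ε ^ i) = g (ε ^ i)) → f = g := by
    intro M _ _ f g hfg
    have hli : LinearIndependent F fun i : Fin k => ε ^ i.val := by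
      refine Fintype.linearIndependent_iff.mpr fun a ha i => ?_
      suffices ∀ (n : ℕ) (i : Fin k), i.val = n → a i = 0 from this _ i rfl
      intro n
      induction n using Nat.strong_induction_on with
      | _ n ih =>
        rintro i rfl
        have h3 := congrArg (fun x => c (x * ε ^ (k - 1 - i.val))) ha
        simp only [zero_mul, map_zero, Finset.sum_mul, map_sum, smul_mul_assoc, map_smul, ← pow_add] at h3
        rw [Finset.sum_eq_single i] at h3
        · rwa [hc _ (by omega), if_pos (by have := i.2; omega), smul_eq_mul, mul_one] at h3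
        · intro j _ hji
          rcases lt_trichotomy j.val i.val with h4 | h4 | h4
          · rw [ih _ h4 j rfl, zero_smul]
          · exact absurd (Fin.ext h4) hji
          · rw [← Nat.sub_add_cancel (show k ≤ j.val + (k - 1 - i.val) by have := i.2; omega), pow_add, hεk,
              mul_zero, map_zero, smul_zero]
        · exact fun hmem => absurd (Finset.mem_univ _) hmem
    have : Nonempty (Fin k) := ⟨⟨0, hk⟩⟩
    exact (basisOfLinearIndependentOfCardEqFinrank hli (by rw [Fintype.card_fin, hdim])).ext fun i => by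
      rw [coe_basisOfLinearIndependentOfCardEqFinrank]; exact hfg i i.2
  have hσσ : ∀ a, σ (σ a) = a := fun a => LinearMap.congr_fun
    (hspan (σ.toLinearMap.comp σ.toLinearMap) LinearMap.id fun i _ => by simp [hσ]) a
  have hcσ : ∀ a, c (σ a) = -c a := fun a => LinearMap.congr_fun
    (hspan (c.comp σ.toLinearMap) (-c) fun i hi => by
      rw [LinearMap.comp_apply, AlgHom.toLinearMap_apply, map_pow, hσ, neg_pow]
      rcases Nat.even_or_odd i with hi' | hi'
      · have : ¬ i + 1 = k := fun e => Nat.not_even_iff_odd.mpr hi'.add_one (e ▸ hke)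
        rw [hi'.neg_one_pow, one_mul, LinearMap.neg_apply, hc i hi, if_neg this, neg_zero]
      · rw [hi'.neg_one_pow, neg_one_mul, map_neg, LinearMap.neg_apply]) a
  have ha : (1 + ε) ^ p = 1 := pow_char_one_add (F := F) hkp hεk
  have hb : (1 - ε) ^ p = 1 := by rw [sub_eq_add_neg]; exact pow_char_one_add (F := F) hkp hneg
  have hb' : (1 - ε) * (1 - ε) ^ (p - 1) = 1 := by rw [← pow_succ', Nat.sub_add_cancel hp, hb]
  have ha' : (1 + ε) * (1 + ε) ^ (p - 1) = 1 := by rw [← pow_succ', Nat.sub_add_cancel hp, ha]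
  refine ⟨R, inferInstance, inferInstance, inferInstance,
    { inv := σ
      fn := c
      inv_inv := hσσ
      fn_inv := hcσ
      fn_self := fun a => ?_
      fn_nondeg := hnd }, (1 + ε) * (1 - ε) ^ (p - 1), hdim, ?_, ?_, fun j => ?_⟩
  · have h3 := hcσ (a * σ a)
    rw [map_mul, hσσ, mul_comm] at h3
    refine (mul_eq_zero.mp (?_ : (2 : F) * _ = 0)).resolve_left h2
    linear_combination h3
  · simp only [map_mul, map_pow, map_add, map_sub, map_one, hσ]
    rw [sub_neg_eq_add, ← sub_eq_add_neg]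
    linear_combination (1 - ε) * (1 - ε) ^ (p - 1) * ha' + hb'
  · rw [mul_pow, ← pow_mul, mul_comm (p - 1) p, pow_mul, ha, hb, one_pow, one_mul]
  · have h3 : (1 + ε) * (1 - ε) ^ (p - 1) - 1 = ε * (2 * (1 - ε) ^ (p - 1)) := by linear_combination hb'
    rw [h3, mul_pow, range_mulLeft_unit, hrk]
    · simp [profile]
    · refine (IsUnit.mul ?_ (IsUnit.of_mul_eq_one _ ((mul_comm _ _).trans hb'))).pow j
      exact map_ofNat (algebraMap F R) 2 ▸ (isUnit_iff_ne_zero.mpr h2).map (algebraMap F R)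

/-- Gluing two models. -/
theorem exists_prod_model {A A' : Type u} [CommRing A] [Algebra F A] [FiniteDimensional F A] [CommRing A'] [Algebra F A']
    [FiniteDimensional F A'] (𝔅 : Block F A) (𝔅' : Block F A') {z : A} {z' : A'} {N : ℕ} {μ μ' : Multiset ℕ}
    (h1 : 𝔅.inv z * z = 1) (h1' : 𝔅'.inv z' * z' = 1) (h2 : z ^ N = 1) (h2' : z' ^ N = 1)
    (h3 : HasProfile (F := F) z μ) (h3' : HasProfile (F := F) z' μ') :
    ∃ 𝔇 : Block F (A × A'), 𝔇.inv (z, z') * (z, z') = 1 ∧ (z, z') ^ N = 1 ∧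
      HasProfile (F := F) (z, z') (μ + μ') ∧ ∀ v, 𝔇.fn (v * 𝔇.inv ((z, z') * v)) =
        𝔅.fn (v.1 * 𝔅.inv (z * v.1)) + 𝔅'.fn (v.2 * 𝔅'.inv (z' * v.2)) := by
  refine ⟨{ inv := (𝔅.inv.comp (AlgHom.fst F A A')).prod (𝔅'.inv.comp (AlgHom.snd F A A'))
            fn := 𝔅.fn.comp (LinearMap.fst F A A') + 𝔅'.fn.comp (LinearMap.snd F A A')
            inv_inv := fun a => Prod.ext (𝔅.inv_inv _) (𝔅'.inv_inv _)
            fn_inv := fun a => by simp [𝔅.fn_inv, 𝔅'.fn_inv, add_comm]
            fn_self := fun a => by simp [𝔅.fn_self, 𝔅'.fn_self]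
            fn_nondeg := fun a ha => ?_ }, Prod.ext h1 h1', Prod.ext h2 h2', fun j => ?_, fun v => rfl⟩
  · by_cases h : a.1 = 0
    · obtain ⟨b, hb⟩ := 𝔅'.fn_nondeg a.2 fun h' => ha (Prod.ext h h')
      exact ⟨(0, b), by simpa [h] using hb⟩
    · obtain ⟨b, hb⟩ := 𝔅.fn_nondeg a.1 h
      exact ⟨(b, 0), by simpa using hb⟩
  · rw [show ((z, z') : A × A') - 1 = (z - 1, z' - 1) from rfl, Prod.pow_mk, range_mulLeft_prod, h3, h3', profile_add]

/-- A model with given block sizes. -/
theorem exists_shape_model (hp2 : p ≠ 2) : ∀ (n : ℕ) (μ : Multiset ℕ), Multiset.card μ ≤ n → Shape p μ →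
    ∃ (A : Type u) (_ : CommRing A) (_ : Algebra F A) (_ : FiniteDimensional F A) (𝔅 : Block F A) (z : A),
      finrank F A = μ.sum ∧ 𝔅.inv z * z = 1 ∧ z ^ p = 1 ∧ HasProfile (F := F) z μ := by
  intro n
  induction n using Nat.strong_induction_on with
  | _ n ih =>
    rintro μ hcard ⟨hμ, hμe⟩
    rcases Multiset.empty_or_exists_mem μ with rfl | ⟨a, ha⟩
    · refine ⟨Fin 0 → F, inferInstance, inferInstance, inferInstance,
        { inv := AlgHom.id F _, fn := 0, inv_inv := fun _ => rfl, fn_inv := fun _ => by simp,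
          fn_self := fun _ => rfl, fn_nondeg := fun a ha => absurd (Subsingleton.elim a 0) ha }, 0, by simp,
        Subsingleton.elim _ _, Subsingleton.elim _ _, fun j => ?_⟩
      have := Submodule.finrank_le (LinearMap.range (LinearMap.mulLeft F (((0 : Fin 0 → F) - 1) ^ j)))
      simp [profile] at this ⊢
      omega
    obtain ⟨c, hc, hev⟩ : ∃ c, c ≤ μ.count a ∧ (c = 1 ∧ Even a ∨ c = 2 ∧ Odd a) := by
      have h1 := Multiset.one_le_count_iff_mem.mpr ha
      rcases Nat.even_or_odd a with he | ho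
      · exact ⟨1, h1, Or.inl ⟨rfl, he⟩⟩
      · obtain ⟨e, he⟩ := hμe a ho
        exact ⟨2, by omega, Or.inr ⟨rfl, ho⟩⟩
    obtain ⟨ν, rfl⟩ := Multiset.le_iff_exists_add.mp (Multiset.le_count_iff_replicate_le.mp hc)
    rw [Multiset.card_add, Multiset.card_replicate] at hcard
    obtain ⟨A', _, _, _, 𝔅', z', hd', h1', h2', h3'⟩ := ih (Multiset.card ν)
      (by rcases hev with ⟨rfl, -⟩ | ⟨rfl, -⟩ <;> omega) ν le_rfl ⟨fun b hb => hμ b (Multiset.mem_add.mpr (Or.inr hb)),
        fun b hb => by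
          have h4 := hμe b hb
          rw [Multiset.count_add, Multiset.count_replicate] at h4
          split_ifs at h4 with hab
          · rcases hev with ⟨-, hae⟩ | ⟨rfl, -⟩
            · exact absurd hae (Nat.not_even_iff_odd.mpr (hab ▸ hb))
            · exact (Nat.even_add.mp h4).mp even_two
          · simpa using h4⟩
    obtain ⟨ha0, hap⟩ := hμ a ha
    obtain ⟨A, _, _, _, 𝔅, z, hd, h1, h2, h3⟩ : ∃ (A : Type u) (_ : CommRing A) (_ : Algebra F A)
        (_ : FiniteDimensional F A) (𝔅 : Block F A) (z : A),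
        finrank F A = c * a ∧ 𝔅.inv z * z = 1 ∧ z ^ p = 1 ∧ HasProfile (F := F) z (Multiset.replicate c a) := by
      rcases hev with ⟨rfl, hae⟩ | ⟨rfl, -⟩
      · obtain ⟨A, i1, i2, i3, 𝔅, z, hd, h1, h2, h3⟩ := exists_even_model (F := F) hp2 a ha0 hap hae
        exact ⟨A, i1, i2, i3, 𝔅, z, by rw [hd, one_mul], h1, h2, by simpa using h3⟩
      · obtain ⟨A, i1, i2, i3, 𝔅, z, hd, h1, h2, h3, -⟩ := exists_pair_model (F := F) a ha0 hap
        exact ⟨A, i1, i2, i3, 𝔅, z, hd, h1, h2, h3⟩
    obtain ⟨𝔇, e1, e2, e3, -⟩ := exists_prod_model 𝔅 𝔅' h1 h1' h2 h2' h3 h3'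
    exact ⟨A × A', inferInstance, inferInstance, inferInstance, 𝔇, (z, z'), by
      rw [Module.finrank_prod, hd, hd', Multiset.sum_add, Multiset.sum_replicate, smul_eq_mul], e1, e2, e3⟩

end CfsgLib.PrimeIso
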