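/-
Elements of order `p` of the symplectic group with prescribed blocks.
-/
import Cfsg.Agent.Lib.PrimeIso.UniModels
import Cfsg.Agent.Lib.PrimeIso.AltInvolution

set_option autoImplicit false
set_option linter.unusedSectionVars false

namespace CfsgLib.PrimeIso

open Polynomial Module
open scoped Matrix

universe u

variable {F : Type u} [Field F] [Fintype F] {p d : ℕ} [Fact p.Prime] [CharP F p]

theorem uniIso_of_symp (x : Matrix.symplecticGroup (Fin d) F)
    (hx : (x : Matrix (Fin d ⊕ Fin d) (Fin d ⊕ Fin d) F) ^ p = 1) :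
    UniIso (CfsgLib.IsotropicCount.sympB d F) (Matrix.toLin' (x : Matrix (Fin d ⊕ Fin d) (Fin d ⊕ Fin d) F)) p where
  alt := CfsgLib.IsotropicCount.sympB_alt
  iso := fun u v => by
    rw [CfsgLib.IsotropicCount.sympB_apply, CfsgLib.IsotropicCount.sympB_apply, Matrix.toLin'_apply,
      Matrix.toLin'_apply]
    exact CfsgLib.IsotropicCount.symp_preserves x u v
  per := by
    have : Matrix.toLinAlgEquiv' ((x : Matrix (Fin d ⊕ Fin d) (Fin d ⊕ Fin d) F) ^ p) = 1 := by rw [hx, map_one]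
    rwa [map_pow] at this
  char := ringChar.eq F p
  prime := Fact.out

/-- An element with given block sizes. -/
theorem exists_symp_shape (hp2 : p ≠ 2) {μ : Multiset ℕ} (hμ : Shape p μ) (hsum : μ.sum = 2 * d) :
    ∃ x : Matrix.symplecticGroup (Fin d) F, x ^ p = 1 ∧ ∀ j, finrank F ((⊤ : Submodule F (Fin d ⊕ Fin d → F)).map
      ((Matrix.toLin' (x : Matrix (Fin d ⊕ Fin d) (Fin d ⊕ Fin d) F) - 1 : Module.End F (Fin d ⊕ Fin d → F)) ^ j)) =
        profile μ j := by
  obtain ⟨A, _, _, _, 𝔅, z, hdim, h1, h2, h3⟩ := exists_shape_model (F := F) hp2 _ μ le_rfl hμ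
  obtain ⟨x, hx, hker⟩ := exists_element 𝔅 (T := 1) (k := 0) (fun _ => z) (fun _ => h1) (fun _ => h2) (d := d)
    (by rw [hdim, hsum]; ring)
  refine ⟨x, hx, fun j => ?_⟩
  rcases Nat.eq_zero_or_pos j with rfl | hj
  · rw [pow_zero, Module.End.one_eq_id, Submodule.map_id, finrank_top, Module.finrank_pi, Fintype.card_sum,
      Fintype.card_fin, profile_zero, hsum, two_mul]
  have h4 := (hker ((X - C (1 : F)) ^ j)).2 (by simp [zero_pow (by omega : j ≠ 0)])
  rw [Fin.sum_univ_one, mul_zero, add_zero, map_pow, map_pow, map_sub, map_sub, aeval_X, aeval_X, aeval_C, aeval_C,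
    map_one, map_one] at h4
  have h5 := h3 j
  have h6 := LinearMap.finrank_range_add_finrank_ker (LinearMap.mulLeft F ((z - 1) ^ j))
  have h7 := LinearMap.finrank_range_add_finrank_ker
    ((Matrix.toLin' (x : Matrix (Fin d ⊕ Fin d) (Fin d ⊕ Fin d) F) - 1 : Module.End F (Fin d ⊕ Fin d → F)) ^ j)
  rw [Module.finrank_pi, Fintype.card_sum, Fintype.card_fin] at h7
  rw [hdim, hsum] at h6
  rw [Submodule.map_top]
  omega

/-- An involution in characteristic two pairing no vector with its image and with isotropic fixed space. -/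
theorem exists_symp_four (hp : p = 2) {e : ℕ} (he : 0 < e) (hd : d = e + e) :
    ∃ x : Matrix.symplecticGroup (Fin d) F, x ^ 2 = 1 ∧ x ≠ 1 ∧
      (∀ v, Cfsg.sympForm d F v ((x : Matrix (Fin d ⊕ Fin d) (Fin d ⊕ Fin d) F) *ᵥ v) = 0) ∧
      ∀ v w, (x : Matrix (Fin d ⊕ Fin d) (Fin d ⊕ Fin d) F) *ᵥ v = v →
        (x : Matrix (Fin d ⊕ Fin d) (Fin d ⊕ Fin d) F) *ᵥ w = w → Cfsg.sympForm d F v w = 0 := by
  classical
  subst hp
  let E : Matrix (Fin d) (Fin d) F := Matrix.of fun i j => if i.val + e = j.val then 1 else 0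
  have hE : E * E = 0 := Matrix.ext fun i j => by
    rw [Matrix.mul_apply, Matrix.zero_apply]
    refine Finset.sum_eq_zero fun k _ => ?_
    simp only [E, Matrix.of_apply]
    split_ifs with h1 h2 <;> first | (exfalso; have := j.2; omega) | simp
  set A : Matrix (Fin d) (Fin d) F := 1 + E with hA
  have hAA : A * A = 1 := by
    rw [hA, show (1 + E) * (1 + E) = 1 + (E + E) + E * E by noncomm_ring, hE, add_zero]
    ext i j
    simp [CharTwo.add_self_eq_zero]
  have hAt : Aᵀ * Aᵀ = 1 := by rw [← Matrix.transpose_mul, hAA, Matrix.transpose_one]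
  have hmem : Matrix.fromBlocks A 0 0 Aᵀ ∈ Matrix.symplecticGroup (Fin d) F := by
    rw [SymplecticGroup.mem_iff, Matrix.J, Matrix.fromBlocks_transpose, Matrix.fromBlocks_multiply,
      Matrix.fromBlocks_multiply]
    simp [hAA, hAt]
  refine ⟨⟨_, hmem⟩, ?_, ?_, ?_, ?_⟩
  · refine Subtype.ext ?_
    show Matrix.fromBlocks A 0 0 Aᵀ ^ 2 = 1
    rw [pow_two, Matrix.fromBlocks_multiply]
    simp [hAA, hAt]
  · intro h
    have h1 : Matrix.fromBlocks A 0 0 Aᵀ = (1 : Matrix (Fin d ⊕ Fin d) (Fin d ⊕ Fin d) F) := congrArg Subtype.val h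
    have h2 := congrFun (congrFun h1 (Sum.inl ⟨0, by omega⟩)) (Sum.inl ⟨e, by omega⟩)
    simp [A, E, Fin.ext_iff, he.ne'.symm] at h2
  · intro v
    obtain ⟨a, b, rfl⟩ : ∃ a b, v = Sum.elim a b := ⟨_, _, (Sum.elim_comp_inl_inr v).symm⟩
    show Cfsg.sympForm d F _ (Matrix.fromBlocks A 0 0 Aᵀ *ᵥ _) = 0
    rw [Cfsg.sympForm, Matrix.J, Matrix.fromBlocks_mulVec, Matrix.fromBlocks_mulVec]
    simp only [Sum.elim_comp_inl, Sum.elim_comp_inr, Matrix.zero_mulVec, add_zero, zero_add, Matrix.neg_mulVec,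
      Matrix.one_mulVec, dotProduct, Fintype.sum_sum_type, Sum.elim_inl, Sum.elim_inr, Pi.neg_apply, mul_neg,
      Finset.sum_neg_distrib]
    show -(a ⬝ᵥ (Aᵀ *ᵥ b)) + b ⬝ᵥ (A *ᵥ a) = 0
    rw [dotProduct_comm b, Matrix.dotProduct_mulVec, Matrix.vecMul_transpose, neg_add_cancel]
  · intro v w hv hw
    have hfix : ∀ u, Matrix.fromBlocks A 0 0 Aᵀ *ᵥ u = u →
        (∀ i : Fin d, e ≤ i.val → u (Sum.inl i) = 0) ∧ ∀ i : Fin d, i.val < e → u (Sum.inr i) = 0 := by
      intro u hu
      obtain ⟨a, b, rfl⟩ : ∃ a b, u = Sum.elim a b := ⟨_, _, (Sum.elim_comp_inl_inr u).symm⟩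
      rw [Matrix.fromBlocks_mulVec] at hu
      simp only [Sum.elim_comp_inl, Sum.elim_comp_inr, Matrix.zero_mulVec, add_zero, zero_add, hA,
        Matrix.transpose_add, Matrix.transpose_one, Matrix.add_mulVec, Matrix.one_mulVec, Sum.elim_eq_iff,
        add_eq_left] at hu
      refine ⟨fun i hi => ?_, fun i hi => ?_⟩
      · have h1 := congrFun hu.1 ⟨i.val - e, by have := i.2; omega⟩
        rw [Matrix.mulVec, dotProduct, Finset.sum_eq_single i (fun j _ hji => by
          simp only [E, Matrix.of_apply]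
          rw [if_neg (fun h => hji (Fin.ext (by omega))), zero_mul]) (fun h => absurd (Finset.mem_univ i) h)] at h1
        simp only [E, Matrix.of_apply, if_pos (show i.val - e + e = i.val by omega), one_mul, Pi.zero_apply] at h1
        exact h1
      · have h1 := congrFun hu.2 ⟨i.val + e, by omega⟩
        rw [Matrix.mulVec, dotProduct, Finset.sum_eq_single i (fun j _ hji => by
          simp only [E, Matrix.of_apply, Matrix.transpose_apply]
          rw [if_neg (fun h => hji (Fin.ext (by omega))), zero_mul]) (fun h => absurd (Finset.mem_univ i) h)] at h1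
        simp only [E, Matrix.of_apply, Matrix.transpose_apply, if_true, one_mul, Pi.zero_apply] at h1
        exact h1
    obtain ⟨hv1, hv2⟩ := hfix v hv
    obtain ⟨hw1, hw2⟩ := hfix w hw
    rw [Cfsg.sympForm, Matrix.J, Matrix.fromBlocks_mulVec]
    simp only [dotProduct, Fintype.sum_sum_type, Sum.elim_inl, Sum.elim_inr, Matrix.zero_mulVec, zero_add, add_zero,
      Matrix.neg_mulVec, Matrix.one_mulVec, Pi.neg_apply, Function.comp_apply]
    rw [Finset.sum_eq_zero fun i _ => ?_, Finset.sum_eq_zero fun i _ => ?_, add_zero]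
    · rcases lt_or_ge i.val e with hi | hi
      · rw [hv2 i hi, zero_mul]
      · rw [hw1 i hi, mul_zero]
    · rcases lt_or_ge i.val e with hi | hi
      · rw [hw2 i hi, neg_zero, mul_zero]
      · rw [hv1 i hi, zero_mul]

end CfsgLib.PrimeIso
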