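/-
Elements of prime order of the projective symplectic group on non-degenerate subspaces.
-/
import Cfsg.Agent.Lib.PrimeIso.SympImprim
import Cfsg.Agent.Lib.PrimeIso.SympNondegCount
import Cfsg.Agent.Lib.PrimeIso.SympNondegModels

set_option autoImplicit false
set_option linter.unusedSectionVars false

namespace CfsgLib.PrimeIso

open Polynomial Module CfsgLib.MaxSub.Elusive
open scoped Matrix

universe u

variable {F : Type u} [Field F] [Fintype F] {p r d m : ℕ} [Fact p.Prime] [CharP F p]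

local notation "Sp" => Matrix.symplecticGroup (Fin d) F
local notation "Vec" => (Fin d ⊕ Fin d → F)
local notation "Bd" => CfsgLib.IsotropicCount.sympB d F

theorem nd_top : ND Bd (⊤ : Submodule F Vec) := fun x _ hp =>
  CfsgLib.IsotropicCount.sympB_nondeg.1 x fun y => hp y trivial

theorem finrank_vec : finrank F (⊤ : Submodule F Vec) = 2 * d := by
  rw [finrank_top, Module.finrank_pi, Fintype.card_sum, Fintype.card_fin, two_mul]

/-- What it means to fix a non-degenerate `m`-space. -/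
def FixesND (d m : ℕ) (F : Type u) [Field F] (x : Matrix (Fin d ⊕ Fin d) (Fin d ⊕ Fin d) F) : Prop :=
  ∃ W : Submodule F (Fin d ⊕ Fin d → F), finrank F ↥W = m ∧
    (∀ u ∈ W, u ≠ 0 → ∃ v ∈ W, Cfsg.sympForm d F u v ≠ 0) ∧ W.map (Matrix.toLin' x) ≤ W

theorem fixes_iff (x : Matrix (Fin d ⊕ Fin d) (Fin d ⊕ Fin d) F) :
    FixesND d m F x ↔ ∃ W : Submodule F Vec, Inv (Matrix.toLin' x) W ∧ ND Bd W ∧ finrank F W = m := by
  constructor
  · rintro ⟨W, hd', hn, hW⟩
    refine ⟨W, fun v hv => hW ⟨v, hv, rfl⟩, fun u hu hp => ?_, hd'⟩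
    by_contra h0
    obtain ⟨v, hv, hne⟩ := hn u hu h0
    exact hne (by rw [← CfsgLib.IsotropicCount.sympB_apply]; exact hp v hv)
  · rintro ⟨W, hT, hn, hd'⟩
    refine ⟨W, hd', fun u hu hu0 => ?_, by rintro _ ⟨v, hv, rfl⟩; exact hT v hv⟩
    by_contra hno
    push Not at hno
    exact hu0 (hn u hu fun y hy => by rw [CfsgLib.IsotropicCount.sympB_apply]; exact hno y hy)

theorem fixes_neg {x : Matrix (Fin d ⊕ Fin d) (Fin d ⊕ Fin d) F} (h : FixesND d m F (-x)) : FixesND d m F x := by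
  obtain ⟨W, hd', hn, hW⟩ := h
  refine ⟨W, hd', hn, ?_⟩
  rintro _ ⟨v, hv, rfl⟩
  have h6 := hW ⟨v, hv, rfl⟩
  rw [Matrix.toLin'_apply, Matrix.neg_mulVec, neg_mem_iff] at h6
  rwa [Matrix.toLin'_apply]

/-- The reduction of the existence half to elements of order `r`. -/
theorem fixes_all [Fact r.Prime] (hd : 0 < d) (hr2 : r ≠ 2)
    (h : ∀ y : Sp, (y : Matrix (Fin d ⊕ Fin d) (Fin d ⊕ Fin d) F) ^ r = 1 → FixesND d m F y)
    (x : Sp) {z : F} (hz : ((x ^ r : Sp) : Matrix (Fin d ⊕ Fin d) (Fin d ⊕ Fin d) F) = z • 1) :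
    FixesND d m F x := by
  have hodd : Odd r := (Fact.out : r.Prime).odd_of_ne_two hr2
  have hxr : (x : Matrix (Fin d ⊕ Fin d) (Fin d ⊕ Fin d) F) ^ r = z • 1 := by simpa using hz
  rcases mul_self_eq_one_iff.mp (symp_scalar_sq hd (x ^ r) hz) with rfl | rfl
  · exact h x (by rw [hxr, one_smul])
  · exact fixes_neg (h ⟨-(x : Matrix (Fin d ⊕ Fin d) (Fin d ⊕ Fin d) F), SymplecticGroup.neg_mem x.2⟩
      (by show (-(x : Matrix (Fin d ⊕ Fin d) (Fin d ⊕ Fin d) F)) ^ r = 1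
          rw [hodd.neg_pow, hxr, neg_one_smul, neg_neg]))

/-- An element of odd order is scalar only if trivial. -/
theorem not_scalar [Fact r.Prime] (hd : 0 < d) (hr2 : r ≠ 2) {x : Sp} (hx : x ^ r = 1) (hx1 : x ≠ 1) (z : F) :
    (x : Matrix (Fin d ⊕ Fin d) (Fin d ⊕ Fin d) F) ≠ z • 1 := fun hz => hx1 (Subtype.ext (by
  have hxr : (x : Matrix (Fin d ⊕ Fin d) (Fin d ⊕ Fin d) F) ^ r = 1 := by simpa using congrArg Subtype.val hx
  rcases mul_self_eq_one_iff.mp (symp_scalar_sq hd x hz) with rfl | rfl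
  · rw [hz, one_smul]; rfl
  · rw [hz, _root_.smul_pow, one_pow, ((Fact.out : r.Prime).odd_of_ne_two hr2).neg_one_pow] at hxr
    rw [hz, hxr]; rfl))

/-- The condition on block sizes. -/
theorem fixes_unipotent (hd : 2 ≤ d) (hme : Even m) (hmd : m < d) (hp2 : p ≠ 2) :
    (∀ x : Sp, (∃ z : F, ((x ^ p : Sp) : Matrix (Fin d ⊕ Fin d) (Fin d ⊕ Fin d) F) = z • 1) →
      (∀ z : F, (x : Matrix (Fin d ⊕ Fin d) (Fin d ⊕ Fin d) F) ≠ z • 1) → FixesND d m F x) ↔
    ∀ μ : Multiset ℕ, (∀ a ∈ μ, 0 < a ∧ a ≤ p) → (∀ a : ℕ, Odd a → Even (μ.count a)) → μ.sum = 2 * d →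
        ∃ ν : Multiset ℕ, ν ≤ μ ∧ ν.sum = m ∧ ∀ a : ℕ, Odd a → Even (ν.count a) := by
  constructor
  · intro H μ hμ1 hμ2 hsum
    obtain ⟨x, hx, hprof⟩ := exists_symp_shape (F := F) (d := d) hp2 (μ := μ) ⟨hμ1, hμ2⟩ hsum
    by_cases hx1 : x = 1
    · subst hx1
      have h1 := hprof 1
      rw [show ((1 : Sp) : Matrix (Fin d ⊕ Fin d) (Fin d ⊕ Fin d) F) = 1 from rfl, Matrix.toLin'_one,
        ← Module.End.one_eq_id, sub_self, pow_one, Submodule.map_zero, finrank_bot] at h1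
      have hall : ∀ a ∈ μ, a = 1 := fun a ha => by
        have h2 : a - 1 ≤ profile μ 1 := Multiset.single_le_sum (fun _ _ => Nat.zero_le _) _ (Multiset.mem_map_of_mem _ ha)
        have := (hμ1 a ha).1
        omega
      refine ⟨Multiset.replicate m 1, Multiset.le_count_iff_replicate_le.mp ?_, by simp, fun a _ => ?_⟩
      · rw [Multiset.eq_replicate_card.mpr hall, Multiset.count_replicate_self]
        have := Multiset.eq_replicate_card.mpr hall
        rw [this, Multiset.sum_replicate, smul_eq_mul, mul_one] at hsum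
        omega
      · rw [Multiset.count_replicate]
        split_ifs
        · exact hme
        · exact Even.zero
    have hxp : (x : Matrix (Fin d ⊕ Fin d) (Fin d ⊕ Fin d) F) ^ p = 1 := by simpa using congrArg Subtype.val hx
    obtain ⟨W, hWT, hWn, hWd⟩ := (fixes_iff _).mp (H x ⟨1, by rw [hx, one_smul]; rfl⟩ (not_scalar (by omega) hp2 hx hx1))
    obtain ⟨ν, hν, hνe, hνs⟩ := (uniIso_of_symp x hxp).sub_shape hp2 inv_top nd_top le_top hWT hWn ⟨hμ1, hμ2⟩ hprof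
    exact ⟨ν, hν, hνs.trans hWd, hνe⟩
  · rintro H x ⟨z, hz⟩ -
    refine fixes_all (by omega) hp2 (fun y hy => (fixes_iff _).mpr ?_) x hz
    obtain ⟨μ, hμ, hr, hsub⟩ := (uniIso_of_symp y hy).decomp hp2 _ ⊤ le_rfl inv_top nd_top
    have hsum : μ.sum = 2 * d := by
      have h1 := hr 0
      rwa [pow_zero, Module.End.one_eq_id, Submodule.map_id, finrank_vec, profile_zero, eq_comm] at h1
    obtain ⟨ν, hν, hνs, hνe⟩ := H μ hμ.1 hμ.2 hsum
    obtain ⟨W, -, hWT, hWn, hWd⟩ := hsub ν hν hνe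
    exact ⟨W, hWT, hWn, hWd.trans hνs⟩

/-- Involutions in characteristic two. -/
theorem fixes_two_even (hd : 2 ≤ d) (hme : Even m) (hmd : m < d) (hp : p = 2) :
    (∀ x : Sp, (∃ z : F, ((x ^ 2 : Sp) : Matrix (Fin d ⊕ Fin d) (Fin d ⊕ Fin d) F) = z • 1) →
      (∀ z : F, (x : Matrix (Fin d ⊕ Fin d) (Fin d ⊕ Fin d) F) ≠ z • 1) → FixesND d m F x) ↔
    ((2 * d) % 4 = 2 ∨ m % 4 = 0) := by
  subst hp
  constructor
  · intro H
    by_contra hc
    push Not at hc
    obtain ⟨w, hw⟩ := hme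
    obtain ⟨x, hx, hx1, hA, hF⟩ := exists_symp_four (F := F) (p := 2) (d := d) rfl (e := d / 2) (by omega) (by omega)
    have hxp : (x : Matrix (Fin d ⊕ Fin d) (Fin d ⊕ Fin d) F) ^ 2 = 1 := by simpa using congrArg Subtype.val hx
    obtain ⟨W, hWT, hWn, hWd⟩ := (fixes_iff _).mp (H x ⟨1, by rw [hx, one_smul]; rfl⟩ (fun z hz => hx1 (Subtype.ext (by
      rcases mul_self_eq_one_iff.mp (symp_scalar_sq (by omega) x hz) with rfl | rfl
      · rw [hz, one_smul]; rfl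
      · rw [hz, CharTwo.neg_eq, one_smul]; rfl))))
    obtain ⟨P, -, -, -, -, ⟨v, -, hvv⟩ | ⟨v, -, u, -, hTv, hTu, hvu⟩⟩ :=
      two_mod_four (uniIso_of_symp x hxp) _ W le_rfl hWT hWn (by omega)
    · exact hvv (by rw [CfsgLib.IsotropicCount.sympB_apply, Matrix.toLin'_apply, hA])
    · rw [Matrix.toLin'_apply] at hTv hTu
      exact hvu (by rw [CfsgLib.IsotropicCount.sympB_apply, hF v u hTv hTu])
  · rintro H x ⟨z, hz⟩ -
    have hz1 : z = 1 := by
      rcases mul_self_eq_one_iff.mp (symp_scalar_sq (by omega) (x ^ 2) hz) with rfl | rfl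
      · rfl
      · exact CharTwo.neg_eq _
    subst hz1
    have hxp : (x : Matrix (Fin d ⊕ Fin d) (Fin d ⊕ Fin d) F) ^ 2 = 1 := by rw [← one_smul F (1 : Matrix _ _ F)]; simpa using hz
    obtain ⟨W, -, hWT, hWn, hWd⟩ := exists_sub_two (uniIso_of_symp x hxp) _ ⊤ m le_rfl inv_top nd_top
      (by rw [finrank_vec]; exact even_two_mul d) hme (by rw [finrank_vec]; omega) (by rw [finrank_vec]; omega)
    exact (fixes_iff _).mpr ⟨W, hWT, hWn, hWd⟩

/-- Involutions in odd characteristic. -/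
theorem fixes_two_odd (hd : 2 ≤ d) (hme : Even m) (hmd : m < d) (hp : p ≠ 2) (x : Sp) {z : F}
    (hz : ((x ^ 2 : Sp) : Matrix (Fin d ⊕ Fin d) (Fin d ⊕ Fin d) F) = z • 1) : FixesND d m F x := by
  have h2 : (2 : F) ≠ 0 := two_ne_zero_of_ne_char (p := p) hp
  have hzz := symp_scalar_sq (by omega) (x ^ 2) hz
  have hxz : (x : Matrix (Fin d ⊕ Fin d) (Fin d ⊕ Fin d) F) ^ 2 = z • 1 := by simpa using hz
  have hx4 : (x : Matrix (Fin d ⊕ Fin d) (Fin d ⊕ Fin d) F) ^ 4 = 1 := by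
    rw [show 4 = 2 * 2 from rfl, pow_mul, hxz, pow_two, Matrix.smul_mul, Matrix.one_mul, smul_smul, hzz, one_smul]
  have h4 : ((4 : ℕ) : F) ≠ 0 := by
    rw [show ((4 : ℕ) : F) = 2 * 2 by norm_num]
    exact mul_ne_zero h2 h2
  have h := perIso_of_symp h4 x hx4
  obtain ⟨k, hk⟩ := hme
  obtain ⟨W, -, hWT, hWn, hWd⟩ := exists_sub_odd (B := Bd) CfsgLib.IsotropicCount.sympB_alt h2 hzz
    (T := Matrix.toLin' (x : Matrix (Fin d ⊕ Fin d) (Fin d ⊕ Fin d) F))
    (fun v => by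
      rw [Matrix.toLin'_apply, Matrix.toLin'_apply, Matrix.mulVec_mulVec, ← pow_two, hxz, Matrix.smul_mulVec,
        Matrix.one_mulVec])
    h.iso (fun P U hP hU => inv_perpIn h hP hU) k ⊤ inv_top nd_top (by rw [finrank_vec]; omega)
  exact (fixes_iff _).mpr ⟨W, hWT, hWn, by omega⟩

/-- The criterion in odd order prime to the characteristic. -/
theorem fixes_semisimple [Fact r.Prime] (hd : 2 ≤ d) (hme : Even m) (hmd : m < d) (hr2 : r ≠ 2) (hrp : r ≠ p)
    (hΩ : r ∣ Nat.card (NDSpaces F d m)) {i c : ℕ} (hi : i = orderOf (Fintype.card F : ZMod r))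
    (hc : c = if Even i then i else 2 * i) :
    (∀ x : Sp, (∃ z : F, ((x ^ r : Sp) : Matrix (Fin d ⊕ Fin d) (Fin d ⊕ Fin d) F) = z • 1) →
      (∀ z : F, (x : Matrix (Fin d ⊕ Fin d) (Fin d ⊕ Fin d) F) ≠ z • 1) → FixesND d m F x) ↔
    (c ≤ m ∧ m % c ≤ (2 * d) % c) := by
  classical
  have hr : r.Prime := Fact.out
  obtain ⟨hcpos, hce, -⟩ := block_le_pred (F := F) hrp hr2 hi hc
  have hne : Nonempty (NDSpaces F d m) := by
    have h1 := perIso_one (F := F) (p := p) (r := r) (d := d) hrp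
    obtain ⟨-, -, hF⟩ := exists_part_dims (p := p) (CfsgLib.IsotropicCount.sympB_alt (m := d) (F := F)) hrp h1 hi hc
      inv_top nd_top
    obtain ⟨k, hk⟩ := hme
    have htop : LinearMap.ker (aeval (1 : Module.End F Vec) (X - C (1 : F))) = ⊤ := LinearMap.ker_eq_top.mpr (by simp)
    obtain ⟨Y, -, -, hYn, hYd⟩ := hF k (by rw [htop, inf_top_eq, finrank_vec]; omega)
    exact ⟨⟨Y, by omega, fun u hu hu0 => by
      by_contra hno
      push Not at hno
      exact hu0 (hYn u hu fun y hy => by rw [CfsgLib.IsotropicCount.sympB_apply]; exact hno y hy)⟩⟩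
  obtain ⟨hcd, hlt⟩ := dvd_ndspaces (p := p) hme (by omega) hne hrp hΩ hi hc
  have hN : (r : F) ≠ 0 := CfsgLib.GLClassNumber.natCast_ne_zero_of_prime_ne (p := p) hr hrp
  constructor
  · intro H
    obtain ⟨x, hx, hf⟩ := exists_small_fix (F := F) (p := p) (d := d) hrp hi hc
    have hmod := Nat.mod_lt (2 * d) hcpos
    have hx1 : x ≠ 1 := by
      rintro rfl
      rw [show LinearMap.ker (aeval (Matrix.toLin' ((1 : Sp) : Matrix (Fin d ⊕ Fin d) (Fin d ⊕ Fin d) F)) (X - C (1 : F))) = ⊤ from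
        LinearMap.ker_eq_top.mpr (by simp [Module.End.one_eq_id]), finrank_vec] at hf
      omega
    have hxr : (x : Matrix (Fin d ⊕ Fin d) (Fin d ⊕ Fin d) F) ^ r = 1 := by simpa using congrArg Subtype.val hx
    obtain ⟨W, hWT, hWn, hWd⟩ := (fixes_iff _).mp (H x ⟨1, by rw [hx, one_smul]; rfl⟩ (not_scalar (by omega) hr2 hx hx1))
    have h := perIso_of_symp hN x hxr
    obtain ⟨⟨⟨e, he⟩, -⟩, -⟩ := exists_part_dims (p := p) (CfsgLib.IsotropicCount.sympB_alt (m := d) (F := F)) hrp h hi hc hWT hWn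
    have hs := finrank_split h hWT
    have hle := Submodule.finrank_mono (inf_le_right : W ⊓ LinearMap.ker (aeval (Matrix.toLin'
      (x : Matrix (Fin d ⊕ Fin d) (Fin d ⊕ Fin d) F)) (X - C (1 : F))) ≤ _)
    rw [he, hWd] at hs
    rw [hf] at hle
    refine ⟨?_, ?_⟩
    · by_contra hcm
      rcases Nat.eq_zero_or_pos e with rfl | he'
      · omega
      · have := Nat.le_mul_of_pos_right c he'
        omega
    · rw [← hs, Nat.add_mul_mod_self_left]
      exact le_trans (Nat.mod_le _ _) hle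
  · rintro ⟨-, hcond⟩ x ⟨z, hz⟩ -
    refine fixes_all (by omega) hr2 (fun y hy => (fixes_iff _).mpr ?_) x hz
    have h := perIso_of_symp hN y hy
    obtain ⟨⟨⟨e, he⟩, hR⟩, -, hF⟩ := exists_part_dims (p := p) (CfsgLib.IsotropicCount.sympB_alt (m := d) (F := F)) hrp h hi hc
      inv_top nd_top
    have hs := finrank_split h (inv_top (T := Matrix.toLin' (y : Matrix (Fin d ⊕ Fin d) (Fin d ⊕ Fin d) F)))
    rw [he, finrank_vec] at hs
    set f := finrank F ↥((⊤ : Submodule F Vec) ⊓ LinearMap.ker (aeval (Matrix.toLin'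
      (y : Matrix (Fin d ⊕ Fin d) (Fin d ⊕ Fin d) F)) (X - C (1 : F))))
    set kk := min (m / c) e with hkk
    have hdm := Nat.div_add_mod' m c
    have hkc : kk * c ≤ m := le_trans (Nat.mul_le_mul_right c (min_le_left _ _)) (by omega)
    obtain ⟨w, hw⟩ : Even (m - kk * c) := (Nat.even_sub hkc).mpr (iff_of_true hme (hce.mul_left kk))
    have hwf : m - kk * c ≤ f := by
      rcases le_total (m / c) e with h1 | h1
      · rw [hkk, min_eq_left h1]
        have : (2 * d) % c ≤ f := by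
          rw [← hs, Nat.add_mul_mod_self_left]
          exact Nat.mod_le _ _
        omega
      · rw [hkk, min_eq_right h1, mul_comm e c]; omega
    obtain ⟨Y₁, hY₁, hY₁T, hY₁n, hY₁d⟩ := hR kk (by rw [he, mul_comm c e]; exact Nat.mul_le_mul_right c (min_le_right _ _))
    obtain ⟨Y₂, hY₂, hY₂T, hY₂n, hY₂d⟩ := hF w (by omega)
    have hperp : Y₁ ≤ perpIn Bd Y₂ ⊤ := fun b hb => ⟨trivial, fun a ha => (fix_perp h (hY₂ ha).2 (hY₁ hb).2).1⟩
    obtain ⟨-, h3, h4, h5⟩ := glue h.refl le_top hY₂n hY₂T hperp hY₁n hY₁T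
    exact ⟨_, h3, h4, by omega⟩

/-- The criterion for non-degenerate subspaces. -/
theorem symp_nondeg (hd : 2 ≤ d) (hme : Even m) (hmd : m < d) [Fact r.Prime] (hΩ : r ∣ Nat.card (NDSpaces F d m))
    (i c : ℕ) (hi : i = orderOf (Fintype.card F : ZMod r)) (hc : c = if Even i then i else 2 * i) :
    (∀ x : Sp, (∃ z : F, ((x ^ r : Sp) : Matrix (Fin d ⊕ Fin d) (Fin d ⊕ Fin d) F) = z • 1) →
      (∀ z : F, (x : Matrix (Fin d ⊕ Fin d) (Fin d ⊕ Fin d) F) ≠ z • 1) → FixesND d m F x) ↔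
    ((r = p ∧ 2 < p ∧ (∀ μ : Multiset ℕ, (∀ a ∈ μ, 0 < a ∧ a ≤ p) → (∀ a : ℕ, Odd a → Even (μ.count a)) → μ.sum = 2 * d →
        ∃ ν : Multiset ℕ, ν ≤ μ ∧ ν.sum = m ∧ ∀ a : ℕ, Odd a → Even (ν.count a))) ∨
     (r = p ∧ p = 2 ∧ ((2 * d) % 4 = 2 ∨ m % 4 = 0)) ∨
     (r = 2 ∧ p ≠ 2) ∨
     (r ≠ p ∧ 2 < r ∧ c ≤ m ∧ m % c ≤ (2 * d) % c)) := by
  have hr : r.Prime := Fact.out
  by_cases hrp : r = p
  · subst hrp
    by_cases h2 : r = 2
    · subst h2
      rw [fixes_two_even (p := 2) hd hme hmd rfl]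
      constructor
      · exact fun h => Or.inr (Or.inl ⟨rfl, rfl, h⟩)
      · rintro (⟨-, h, -⟩ | ⟨-, -, h⟩ | ⟨-, h⟩ | ⟨h, -⟩) <;> first | exact h | exact absurd rfl h | omega
    · rw [fixes_unipotent (p := r) hd hme hmd h2]
      constructor
      · exact fun h => Or.inl ⟨rfl, by have := hr.two_le; omega, h⟩
      · rintro (⟨-, -, h⟩ | ⟨-, h, -⟩ | ⟨h, -⟩ | ⟨h, -⟩)
        · exact h
        · exact absurd h h2
        · exact absurd h h2
        · exact absurd rfl h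
  · by_cases h2 : r = 2
    · subst h2
      refine iff_of_true (fun x hx _ => ?_) (Or.inr (Or.inr (Or.inl ⟨rfl, Ne.symm hrp⟩)))
      obtain ⟨z, hz⟩ := hx
      exact fixes_two_odd (p := p) hd hme hmd (Ne.symm hrp) x hz
    · rw [fixes_semisimple hd hme hmd h2 hrp hΩ hi hc]
      constructor
      · exact fun h => Or.inr (Or.inr (Or.inr ⟨hrp, by have := hr.two_le; omega, h⟩))
      · rintro (⟨h, -⟩ | ⟨h, -⟩ | ⟨h, -⟩ | ⟨-, -, h⟩)
        · exact absurd h hrp
        · exact absurd h hrp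
        · exact absurd h h2
        · exact h

end CfsgLib.PrimeIso
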